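import Mathlib
import Cfsg.Agent.Lib.Helper93.MD0

/-!
# MD project (helper93 server, S2140): pieces (A1), (A2), (A4), (A6)

Transitivity properties of `SL(V)` proved with transvections only (no determinants except for the
diagonal piece (A6)).
-/

set_option autoImplicit false

namespace Cfsg.Agent.Helper95.MD

open Module Cfsg.Agent.Helper93.McL Cfsg.Agent.Helper93.MD

variable {F V : Type*} [Field F] [Fintype F] [AddCommGroup V] [Module F V] [FiniteDimensional F V]

/-- (LF) a functional vanishing on `P` with value `1` at `x ∉ P`. -/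
lemma exists_dual_vanish {P : Submodule F V} {x : V} (hx : x ∉ P) :
    ∃ φ : Dual F V, (∀ p ∈ P, φ p = 0) ∧ φ x = 1 := by
  obtain ⟨f, hf1, hf2⟩ := Submodule.exists_dual_map_eq_bot_of_notMem hx inferInstance
  refine ⟨(f x)⁻¹ • f, ?_, ?_⟩
  · intro p hp
    have h1 : f p ∈ P.map f := Submodule.mem_map_of_mem hp
    rw [hf2] at h1
    have h0 : f p = 0 := by simpa using h1
    simp [h0]
  · simp [hf1]

/-- (exch) exchange. -/
lemma notMem_sup_exch {P : Submodule F V} {a b : V} (ha : a ∉ P)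
    (hb : b ∉ P ⊔ Submodule.span F {a}) : a ∉ P ⊔ Submodule.span F {b} := by
  intro h
  rw [Submodule.mem_sup] at h
  obtain ⟨p, hp, y, hy, hpy⟩ := h
  rw [Submodule.mem_span_singleton] at hy
  obtain ⟨β, rfl⟩ := hy
  by_cases hβ : β = 0
  · subst hβ
    rw [zero_smul, add_zero] at hpy
    exact ha (hpy ▸ hp)
  · apply hb
    have hb' : b = (-(β⁻¹)) • p + β⁻¹ • a := by
      rw [← hpy, smul_add, smul_smul, inv_mul_cancel₀ hβ, one_smul, neg_smul]
      abel
    rw [hb']
    exact Submodule.add_mem _ (Submodule.mem_sup_left (P.smul_mem _ hp))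
      (Submodule.mem_sup_right (Submodule.smul_mem _ _ (Submodule.mem_span_singleton_self a)))

/-- (moveP) -/
lemma exists_sl_moveP {P : Submodule F V} {a b : V} (ha : a ∉ P ⊔ Submodule.span F {b})
    (hb : b ∉ P ⊔ Submodule.span F {a}) :
    ∃ g : ↥(SLV F V), (∀ p ∈ P, (g : V ≃ₗ[F] V) p = p) ∧ (g : V ≃ₗ[F] V) a = b := by
  obtain ⟨φ₁, h1P, h1a⟩ := exists_dual_vanish ha
  obtain ⟨φ₂, h2P, h2b⟩ := exists_dual_vanish hb
  have h1b : φ₁ b = 0 := h1P b (Submodule.mem_sup_right (Submodule.mem_span_singleton_self b))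
  have h2a : φ₂ a = 0 := h2P a (Submodule.mem_sup_right (Submodule.mem_span_singleton_self a))
  have hφ : (φ₁ + φ₂) (b - a) = 0 := by
    simp [map_sub, h1a, h1b, h2a, h2b]
  refine ⟨stv (b - a) (φ₁ + φ₂), ?_, ?_⟩
  · intro p hp
    rw [coe_stv, tv_apply hφ]
    have e1 : φ₁ p = 0 := h1P p (Submodule.mem_sup_left hp)
    have e2 : φ₂ p = 0 := h2P p (Submodule.mem_sup_left hp)
    simp [e1, e2]
  · rw [coe_stv, tv_apply hφ]
    simp [h1a, h2a]

/-- (TR) -/
lemma exists_sl_TR {P : Submodule F V} {a b : V} (ha : a ∉ P) (hb : b ∉ P)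
    (hne : P ⊔ Submodule.span F {a} ≠ ⊤) :
    ∃ g : ↥(SLV F V), (∀ p ∈ P, (g : V ≃ₗ[F] V) p = p) ∧ (g : V ≃ₗ[F] V) a = b := by
  by_cases hba : b ∈ P ⊔ Submodule.span F {a}
  · -- pick z outside
    obtain ⟨z, hz⟩ : ∃ z : V, z ∉ P ⊔ Submodule.span F {a} := by
      by_contra hcon
      push_neg at hcon
      exact hne (eq_top_iff.mpr fun x _ => hcon x)
    -- z ∉ P ⊔ span{b}
    have hzb : z ∉ P ⊔ Submodule.span F {b} := by
      intro h
      apply hz
      have hle : P ⊔ Submodule.span F {b} ≤ P ⊔ Submodule.span F {a} := by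
        refine sup_le le_sup_left ?_
        rw [Submodule.span_le, Set.singleton_subset_iff]
        exact hba
      exact hle h
    have haz : a ∉ P ⊔ Submodule.span F {z} := notMem_sup_exch ha hz
    have hbz : b ∉ P ⊔ Submodule.span F {z} := notMem_sup_exch hb hzb
    obtain ⟨g1, g1P, g1a⟩ := exists_sl_moveP haz hz
    obtain ⟨g2, g2P, g2z⟩ := exists_sl_moveP hzb hbz
    refine ⟨g2 * g1, ?_, ?_⟩
    · intro p hp
      rw [Subgroup.coe_mul, LinearEquiv.mul_apply, g1P p hp, g2P p hp]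
    · rw [Subgroup.coe_mul, LinearEquiv.mul_apply, g1a, g2z]
  · exact exists_sl_moveP (notMem_sup_exch ha hba) hba

lemma finrank_span_singleton_le_one (a : V) : finrank F (Submodule.span F {a}) ≤ 1 := by
  by_cases h : a = 0
  · subst h
    rw [Submodule.span_zero_singleton, finrank_bot]
    exact Nat.zero_le 1
  · rw [finrank_span_singleton h]

/-- (A1) -/
theorem exists_sl_map (hn : 2 ≤ finrank F V) {u u' : V} (hu : u ≠ 0) (hu' : u' ≠ 0) :
    ∃ g : ↥(SLV F V), (g : V ≃ₗ[F] V) u = u' := by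
  have hne : (⊥ : Submodule F V) ⊔ Submodule.span F {u} ≠ ⊤ := by
    intro h
    rw [bot_sup_eq] at h
    have h1 := finrank_span_singleton_le_one (F := F) u
    rw [h, finrank_top] at h1
    omega
  obtain ⟨g, -, hg⟩ := exists_sl_TR (P := (⊥ : Submodule F V)) (a := u) (b := u')
    (by simpa using hu) (by simpa using hu') hne
  exact ⟨g, hg⟩

/-- (A2) -/
theorem exists_sl_fix_map (hn : 3 ≤ finrank F V) {u v v' : V} (hu : u ≠ 0)
    (hv : v ∉ Submodule.span F {u}) (hv' : v' ∉ Submodule.span F {u}) :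
    ∃ g : ↥(SLV F V), (g : V ≃ₗ[F] V) u = u ∧ (g : V ≃ₗ[F] V) v = v' := by
  have hne : Submodule.span F {u} ⊔ Submodule.span F {v} ≠ ⊤ := by
    intro h
    have h1 := Submodule.finrank_add_le_finrank_add_finrank (Submodule.span F {u})
      (Submodule.span F {v})
    have h2 := finrank_span_singleton_le_one (F := F) u
    have h3 := finrank_span_singleton_le_one (F := F) v
    rw [h, finrank_top] at h1
    omega
  obtain ⟨g, hgP, hg⟩ := exists_sl_TR hv hv' hne
  exact ⟨g, hgP u (Submodule.mem_span_singleton_self u), hg⟩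

lemma notMem_span_pair_of_li {u v w : V} (h1 : LinearIndependent F ![u, v, w]) :
    w ∉ Submodule.span F {u, v} := by
  intro h
  rw [Submodule.mem_span_pair] at h
  obtain ⟨α, β, hαβ⟩ := h
  rw [Fintype.linearIndependent_iff] at h1
  have := h1 ![α, β, -1] (by
    rw [Fin.sum_univ_three]
    simp [hαβ]) 2
  simp at this

/-- (A4) -/
theorem exists_sl_fix2_map {u v w x : V} (h1 : LinearIndependent F ![u, v, w])
    (h2 : LinearIndependent F ![u, v, x]) :
    ∃ (g : ↥(SLV F V)) (c : F), c ≠ 0 ∧ (g : V ≃ₗ[F] V) u = u ∧ (g : V ≃ₗ[F] V) v = v ∧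
      (g : V ≃ₗ[F] V) w = c • x := by
  have hw : w ∉ Submodule.span F {u, v} := notMem_span_pair_of_li h1
  have hx : x ∉ Submodule.span F {u, v} := notMem_span_pair_of_li h2
  have hu : u ∈ Submodule.span F {u, v} := Submodule.subset_span (by simp)
  have hv : v ∈ Submodule.span F {u, v} := Submodule.subset_span (by simp)
  by_cases hxw : x ∈ Submodule.span F {u, v} ⊔ Submodule.span F {w}
  · rw [Submodule.mem_sup] at hxw
    obtain ⟨p, hp, y, hy, hpy⟩ := hxw
    rw [Submodule.mem_span_singleton] at hy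
    obtain ⟨d, rfl⟩ := hy
    have hd : d ≠ 0 := by
      rintro rfl
      rw [zero_smul, add_zero] at hpy
      exact hx (hpy ▸ hp)
    obtain ⟨φ, hφP, hφw⟩ := exists_dual_vanish hw
    have hφ : φ (d⁻¹ • p) = 0 := by
      rw [map_smul, hφP p hp, smul_zero]
    refine ⟨stv (d⁻¹ • p) φ, d⁻¹, inv_ne_zero hd, ?_, ?_, ?_⟩
    · rw [coe_stv, tv_apply hφ, hφP u hu, zero_smul, add_zero]
    · rw [coe_stv, tv_apply hφ, hφP v hv, zero_smul, add_zero]
    · rw [coe_stv, tv_apply hφ, hφw, one_smul, ← hpy, smul_add, smul_smul, inv_mul_cancel₀ hd,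
        one_smul, add_comm]
  · obtain ⟨g, hgP, hg⟩ := exists_sl_moveP (notMem_sup_exch hw hxw) hxw
    exact ⟨g, 1, one_ne_zero, hgP u hu, hgP v hv, by rw [hg, one_smul]⟩

/-- (A6) diagonal elements of `SL(V)`. -/
theorem exists_sl_diag {ι : Type*} [Fintype ι] [DecidableEq ι] (b : Basis ι F V) (d : ι → F)
    (hd : ∏ i, d i = 1) : ∃ g : ↥(SLV F V), ∀ i, (g : V ≃ₗ[F] V) (b i) = d i • b i := by
  have hd0 : ∀ i, d i ≠ 0 := by
    intro i h
    have : ∏ i, d i = 0 := Finset.prod_eq_zero (Finset.mem_univ i) h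
    rw [hd] at this
    exact one_ne_zero this
  let w : ι → Fˣ := fun i => Units.mk0 (d i) (hd0 i)
  let g : V ≃ₗ[F] V := b.equiv (b.unitsSMul w) (Equiv.refl ι)
  have hg : ∀ i, g (b i) = d i • b i := by
    intro i
    simp only [g, Basis.equiv_apply, Equiv.refl_apply, Basis.unitsSMul_apply]
    rfl
  have hmat : LinearMap.toMatrix b b (g : V →ₗ[F] V) = Matrix.diagonal d := by
    ext i j
    rw [LinearMap.toMatrix_apply, LinearEquiv.coe_coe, hg j, map_smul, Basis.repr_self,
      Finsupp.smul_apply, Finsupp.single_apply, Matrix.diagonal_apply]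
    by_cases hij : i = j
    · subst hij
      simp
    · have hji : ¬ j = i := fun h => hij h.symm
      simp [hij, hji]
  have hdet : LinearEquiv.det g = 1 := by
    apply Units.ext
    rw [LinearEquiv.coe_det, ← LinearMap.det_toMatrix b, hmat, Matrix.det_diagonal, hd]
    rfl
  exact ⟨⟨g, mem_SLV.mpr hdet⟩, hg⟩

end Cfsg.Agent.Helper95.MD
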