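import Mathlib

set_option autoImplicit false

/-!
Normalizers and centralizers of subgroups of prime order in permutation groups (helper95):
Frattini index bound, N/C, centralizer order via the cycle type.
-/

namespace Cfsg.Agent.Helper95

open MulAction

section abstract

variable {H : Type*} [Group H] [Finite H]

/-- Frattini: if `p ∣ |N|` for a normal subgroup `N` and `p ^ 2 ∤ |H|`, there is a Sylow
`p`-subgroup `P` of order `p` inside `N` with `|H : N|` dividing `|N_H(P)|`. -/
theorem exists_sylow_index_dvd (p : ℕ) [hpf : Fact p.Prime] (N : Subgroup H) [N.Normal]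
    (hpN : p ∣ Nat.card N) (hp2 : ¬ p ^ 2 ∣ Nat.card H) :
    ∃ P : Sylow p H, Nat.card (P : Subgroup H) = p ∧ (P : Subgroup H) ≤ N ∧
      N.index ∣ Nat.card (Subgroup.normalizer ((P : Subgroup H) : Set H)) := by
  have hp := hpf.out
  obtain ⟨x, hx⟩ := exists_prime_orderOf_dvd_card' (G := N) p hpN
  set Q : Subgroup H := Subgroup.zpowers (x : H) with hQ
  have hQN : Q ≤ N := by
    rw [hQ, Subgroup.zpowers_le]
    exact x.2
  have hQcard : Nat.card Q = p := by
    rw [hQ, Nat.card_zpowers, Subgroup.orderOf_coe, hx]
  have hQp : IsPGroup p Q := IsPGroup.of_card (n := 1) (by rw [hQcard, pow_one])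
  obtain ⟨P, hQP⟩ := hQp.exists_le_sylow
  have hPcard : Nat.card (P : Subgroup H) = p := by
    obtain ⟨a, ha⟩ := (IsPGroup.iff_card).mp P.isPGroup'
    have h1 : p ^ a ∣ Nat.card H := by
      rw [← ha]; exact Subgroup.card_subgroup_dvd_card _
    have h2 : p ∣ p ^ a := by
      have h0 := Subgroup.card_dvd_of_le hQP
      rw [hQcard, ha] at h0
      exact h0
    have ha1 : a ≤ 1 := by
      by_contra hcon
      rw [not_le] at hcon
      exact hp2 ((pow_dvd_pow p hcon).trans h1)
    have ha0 : a ≠ 0 := by
      rintro rfl
      rw [pow_zero] at h2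
      exact hp.one_lt.ne' (Nat.dvd_one.mp h2)
    have : a = 1 := by omega
    rw [ha, this, pow_one]
  have hPQ : (P : Subgroup H) = Q := by
    symm
    apply Subgroup.eq_of_le_of_card_ge hQP
    rw [hPcard, hQcard]
  have hPN : (P : Subgroup H) ≤ N := hPQ ▸ hQN
  have hfrat := Sylow.normalizer_sup_eq_top' P hPN
  have hrel : N.index = N.relIndex (Subgroup.normalizer ((P : Subgroup H) : Set H)) := by
    rw [← Subgroup.relIndex_top_right, ← hfrat, Subgroup.relIndex_sup_right]
    rfl
  refine ⟨P, hPcard, hPN, ?_⟩
  rw [hrel]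
  exact Subgroup.relIndex_dvd_card _ _

/-- N/C for a subgroup of prime order `p`: `|N_H(P)| = |C_H(P)| * r` with `r ∣ p - 1`. -/
theorem card_normalizer_eq_mul (p : ℕ) (hp : p.Prime) (P : Subgroup H) (hP : Nat.card P = p) :
    ∃ r : ℕ, r ∣ p - 1 ∧ Nat.card (Subgroup.normalizer (P : Set H)) =
      Nat.card (Subgroup.centralizer (P : Set H)) * r := by
  have hpf : Fact p.Prime := ⟨hp⟩
  have hcyc : IsCyclic P := isCyclic_of_prime_card hP
  refine ⟨Nat.card P.normalizerMonoidHom.range, ?_, ?_⟩
  · have h1 : Nat.card P.normalizerMonoidHom.range ∣ Nat.card (MulAut P) :=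
      Subgroup.card_subgroup_dvd_card _
    rw [IsCyclic.card_mulAut, hP, Nat.totient_prime hp] at h1
    exact h1
  · have h1 := Subgroup.card_mul_index P.normalizerMonoidHom.ker
    rw [Subgroup.index_ker, Subgroup.normalizerMonoidHom_ker] at h1
    rw [← h1]
    congr 1
    exact Nat.card_congr (Subgroup.subgroupOfEquivOfLe
      (Subgroup.centralizer_le_normalizer (P : Set H))).toEquiv

end abstract

section perm

variable {α : Type*} [Fintype α] [DecidableEq α]

/-- the centralizer in `Perm α` of a permutation of prime order `p` with `a` cycles. -/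
theorem card_centralizer_of_prime_order (σ : Equiv.Perm α) (p : ℕ) (hp : p.Prime)
    (hσ : orderOf σ = p) (a : ℕ) (ha : σ.support.card = a * p) :
    Nat.card (Subgroup.centralizer ({σ} : Set (Equiv.Perm α))) =
      (Fintype.card α - a * p).factorial * p ^ a * a.factorial := by
  obtain ⟨n, hn⟩ := Equiv.Perm.cycleType_prime_order (σ := σ) (by rw [hσ]; exact hp)
  rw [hσ] at hn
  have hsum : σ.cycleType.sum = (n + 1) * p := by
    rw [hn, Multiset.sum_replicate, smul_eq_mul]
  have hna : n + 1 = a := by
    rw [Equiv.Perm.sum_cycleType, ha] at hsum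
    exact (Nat.eq_of_mul_eq_mul_right hp.pos hsum).symm
  rw [Equiv.Perm.nat_card_centralizer, hsum, hn, Multiset.prod_replicate,
    Multiset.toFinset_replicate, if_neg (Nat.succ_ne_zero n), Finset.prod_singleton,
    Multiset.count_replicate_self, hna]

variable {H : Type*} [Group H] [Finite H] [MulAction H α] [FaithfulSMul H α]

/-- the centralizer of an element of a faithfully acting group has order dividing the order of the
centralizer of the induced permutation. -/
theorem card_centralizer_dvd (c : H) :
    Nat.card (Subgroup.centralizer ({c} : Set H)) ∣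
      Nat.card (Subgroup.centralizer ({MulAction.toPermHom H α c} : Set (Equiv.Perm α))) := by
  have hinj : Function.Injective (MulAction.toPermHom H α) := MulAction.toPerm_injective
  have h1 : (Subgroup.centralizer ({c} : Set H)).map (MulAction.toPermHom H α) ≤
      Subgroup.centralizer ({MulAction.toPermHom H α c} : Set (Equiv.Perm α)) := by
    rintro _ ⟨u, hu, rfl⟩
    rw [SetLike.mem_coe] at hu
    rw [Subgroup.mem_centralizer_singleton_iff] at hu ⊢
    rw [← map_mul, ← map_mul, hu]
  have h2 := Subgroup.card_dvd_of_le h1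
  rw [Subgroup.card_map_of_injective hinj] at h2
  exact h2

/-- the normalizer of a subgroup of prime order `p` generated by an element inducing a permutation
with `a` cycles of length `p`. -/
theorem card_normalizer_dvd (p : ℕ) (hp : p.Prime) (P : Subgroup H) (hP : Nat.card P = p)
    (c : H) (hcP : c ∈ P) (hc : orderOf c = p) (a : ℕ)
    (ha : (MulAction.toPermHom H α c).support.card = a * p) :
    Nat.card (Subgroup.normalizer (P : Set H)) ∣
      ((Fintype.card α - a * p).factorial * p ^ a * a.factorial) * (p - 1) := by
  obtain ⟨r, hr, hN⟩ := card_normalizer_eq_mul p hp P hP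
  rw [hN]
  apply Nat.mul_dvd_mul _ hr
  have hinj : Function.Injective (MulAction.toPermHom H α) := MulAction.toPerm_injective
  have hσ : orderOf (MulAction.toPermHom H α c) = p := by
    rw [orderOf_injective (MulAction.toPermHom H α) hinj c, hc]
  rw [← card_centralizer_of_prime_order (MulAction.toPermHom H α c) p hp hσ a ha]
  refine dvd_trans ?_ (card_centralizer_dvd (α := α) c)
  apply Subgroup.card_dvd_of_le
  apply Subgroup.centralizer_le
  intro x hx
  rw [Set.mem_singleton_iff] at hx
  rw [hx]
  exact hcP

end perm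

end Cfsg.Agent.Helper95
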