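import Mathlib
import Cfsg.Agent.Lib.Helper7.M11LADefs

/-!
# M11LA piece (K5) for helper7's server (S0435): the number of involutions of a simple group of
order 7920 is at most `110 + 11 · inv(N(P))`, `P` a Sylow 5-subgroup.
-/

set_option autoImplicit false
set_option linter.unusedSectionVars false

namespace Cfsg.Agent.Helper95.M11LA

open Subgroup hiding inv
open Cfsg.Agent.Helper7.M11LA

variable {G : Type*} [Group G] [Finite G]

theorem k5_fact_eleven : Fact (Nat.Prime 11) := ⟨by norm_num⟩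
theorem k5_fact_five : Fact (Nat.Prime 5) := ⟨by norm_num⟩

attribute [local instance] k5_fact_eleven k5_fact_five

theorem k5_factorization_eleven : (7920 : ℕ).factorization 11 = 1 := by
  have h : (7920 : ℕ) = 11 * 720 := by norm_num
  rw [h, Nat.factorization_mul (by norm_num) (by norm_num)]
  simp [Nat.Prime.factorization_self (by norm_num : Nat.Prime 11),
    Nat.factorization_eq_zero_of_not_dvd (show ¬ 11 ∣ 720 by norm_num)]

/-- A Sylow 11-subgroup normalizing another one equals it. -/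
theorem k5_eq_of_le_normalizer (Q₀ Q' : Sylow 11 G)
    (h : (Q₀ : Subgroup G) ≤ normalizer ((Q' : Subgroup G) : Set G)) : Q' = Q₀ := by
  have h1 : Q' ∈ MulAction.fixedPoints (↥(Q₀ : Subgroup G)) (Sylow 11 G) := by
    rw [Subgroup.sylow_mem_fixedPoints_iff]; exact h
  have h2 : (Q₀ : Subgroup G) ≤ Q' := (Q₀.2.sylow_mem_fixedPoints_iff).mp h1
  exact Sylow.ext (Q₀.3 Q'.2 h2)

/-- An element of order 11 normalizing a Sylow 11-subgroup lies in it. -/
theorem k5_mem_of_orderOf_eleven (Q₀ : Sylow 11 G) (x : G) (hx : orderOf x = 11)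
    (hxN : x ∈ normalizer ((Q₀ : Subgroup G) : Set G)) : x ∈ (Q₀ : Subgroup G) := by
  have hp : IsPGroup 11 (zpowers x) :=
    IsPGroup.of_card (n := 1) (by rw [Nat.card_zpowers, hx]; norm_num)
  have h := hp.inf_normalizer_sylow Q₀
  have hx1 : x ∈ zpowers x ⊓ normalizer (Q₀ : Set G) := ⟨mem_zpowers x, hxN⟩
  rw [h] at hx1
  exact hx1.2

theorem k5_card_sylow_eleven (hG : Nat.card G = 7920) (Q₀ : Sylow 11 G) :
    Nat.card (Q₀ : Subgroup G) = 11 := by
  rw [Sylow.card_eq_multiplicity, hG, k5_factorization_eleven]; norm_num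

/-- For `Q' ≠ Q₀` the order of `N(Q₀) ⊓ N(Q')` is not divisible by 11. -/
theorem k5_not_dvd_inf (hG : Nat.card G = 7920) (Q₀ Q' : Sylow 11 G) (hne : Q' ≠ Q₀) :
    ¬ 11 ∣ Nat.card ↥(normalizer ((Q₀ : Subgroup G) : Set G) ⊓
      normalizer ((Q' : Subgroup G) : Set G)) := by
  intro hdvd
  obtain ⟨x, hx⟩ := exists_prime_orderOf_dvd_card' 11 hdvd
  have hx' : orderOf (x : G) = 11 := by rw [Subgroup.orderOf_coe]; exact hx
  have hxQ := k5_mem_of_orderOf_eleven Q₀ x hx' x.2.1
  have hz : zpowers (x : G) = (Q₀ : Subgroup G) := by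
    apply Subgroup.eq_of_le_of_card_ge (zpowers_le.mpr hxQ)
    rw [Nat.card_zpowers, hx', k5_card_sylow_eleven hG Q₀]
  apply hne
  apply k5_eq_of_le_normalizer
  rw [← hz, zpowers_le]
  exact x.2.2

/-- The Sylow 11-subgroups `Q' ≠ Q₀` with `N(Q₀) ⊓ N(Q') = ⊥`, as an `N(Q₀)`-invariant set. -/
def k5_far (Q₀ : Sylow 11 G) :
    SubMulAction ↥(normalizer ((Q₀ : Subgroup G) : Set G)) (Sylow 11 G) where
  carrier := {Q' | Q' ≠ Q₀ ∧ normalizer ((Q₀ : Subgroup G) : Set G) ⊓
    normalizer ((Q' : Subgroup G) : Set G) = ⊥}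
  smul_mem' := by
    rintro n Q' ⟨hne, hbot⟩
    have hnN : (n : G) ∈ normalizer ((Q₀ : Subgroup G) : Set G) := n.2
    have hn : (n : G) • Q₀ = Q₀ := Sylow.smul_eq_iff_mem_normalizer.mpr hnN
    refine ⟨?_, ?_⟩
    · intro h
      apply hne
      have h' : (n : G) • Q' = (n : G) • Q₀ := by rw [hn]; exact h
      exact MulAction.injective (n : G) h'
    · change normalizer ((Q₀ : Subgroup G) : Set G) ⊓
        normalizer ((((n : G) • Q' : Sylow 11 G) : Subgroup G) : Set G) = ⊥
      rw [eq_bot_iff]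
      intro x hx
      obtain ⟨hx0, hx1⟩ := Subgroup.mem_inf.mp hx
      have hy : (n : G)⁻¹ * x * n ∈ normalizer ((Q₀ : Subgroup G) : Set G) ⊓
          normalizer ((Q' : Subgroup G) : Set G) := by
        refine Subgroup.mem_inf.mpr ⟨mul_mem (mul_mem (inv_mem hnN) hx0) hnN, ?_⟩
        have hx1' : x • ((n : G) • Q') = (n : G) • Q' := Sylow.smul_eq_iff_mem_normalizer.mpr hx1
        apply Sylow.smul_eq_iff_mem_normalizer.mp
        rw [mul_smul, mul_smul, hx1', inv_smul_smul]
      rw [hbot, Subgroup.mem_bot] at hy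
      rw [Subgroup.mem_bot]
      calc x = n * ((n : G)⁻¹ * x * n) * (n : G)⁻¹ := by group
        _ = 1 := by rw [hy]; group

theorem k5_card_sylow11 (hG : Nat.card G = 7920) (Q₀ : Sylow 11 G)
    (hN : Nat.card (normalizer ((Q₀ : Subgroup G) : Set G)) = 55) :
    Nat.card (Sylow 11 G) = 144 := by
  rw [Sylow.card_eq_index_normalizer Q₀]
  have h := Subgroup.card_mul_index (normalizer ((Q₀ : Subgroup G) : Set G))
  rw [hN, hG] at h
  have : (normalizer ((Q₀ : Subgroup G) : Set G)).index = 144 := by omega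
  exact this

theorem k5_card_far_le (hG : Nat.card G = 7920) (Q₀ : Sylow 11 G)
    (hN : Nat.card (normalizer ((Q₀ : Subgroup G) : Set G)) = 55) :
    Nat.card ↥(k5_far Q₀) ≤ 110 := by
  classical
  have hfree : ∀ b : ↥(k5_far Q₀),
      MulAction.stabilizer ↥(normalizer ((Q₀ : Subgroup G) : Set G)) b = ⊥ := by
    intro b
    rw [SubMulAction.stabilizer_of_subMul, eq_bot_iff]
    intro n hn
    rw [MulAction.mem_stabilizer_iff] at hn
    have hn' : (n : G) • (b : Sylow 11 G) = (b : Sylow 11 G) := hn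
    have hmem : (n : G) ∈ normalizer ((Q₀ : Subgroup G) : Set G) ⊓
        normalizer (((b : Sylow 11 G) : Subgroup G) : Set G) :=
      Subgroup.mem_inf.mpr ⟨n.2, Sylow.smul_eq_iff_mem_normalizer.mp hn'⟩
    have hb : normalizer ((Q₀ : Subgroup G) : Set G) ⊓
        normalizer (((b : Sylow 11 G) : Subgroup G) : Set G) = ⊥ := b.2.2
    rw [hb, Subgroup.mem_bot] at hmem
    rw [Subgroup.mem_bot]
    exact Subtype.ext hmem
  have e := MulAction.selfEquivOrbitsQuotientProd hfree
  have hcard : Nat.card ↥(k5_far Q₀) =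
      Nat.card (Quotient (MulAction.orbitRel ↥(normalizer ((Q₀ : Subgroup G) : Set G))
        ↥(k5_far Q₀))) * 55 := by
    rw [Nat.card_congr e, Nat.card_prod, hN]
  have h144 := k5_card_sylow11 hG Q₀ hN
  have hlt : Nat.card ↥(k5_far Q₀) < 144 := by
    rw [← h144]
    have : Fintype (Sylow 11 G) := Fintype.ofFinite _
    have : Fintype ↥(k5_far Q₀) := Fintype.ofFinite _
    rw [Nat.card_eq_fintype_card, Nat.card_eq_fintype_card]
    apply Fintype.card_lt_of_injective_of_notMem (b := Q₀) (fun b : ↥(k5_far Q₀) => (b : Sylow 11 G))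
      Subtype.coe_injective
    rintro ⟨b, hb⟩
    exact b.2.1 hb
  omega

/-- At most 11 Sylow 5-subgroups of `G` lie in `N(Q₀)` (a group of order 55). -/
theorem k5_card_sylow5_le (Q₀ : Sylow 11 G)
    (hN : Nat.card (normalizer ((Q₀ : Subgroup G) : Set G)) = 55) :
    Nat.card {P' : Sylow 5 G // (P' : Subgroup G) ≤ normalizer ((Q₀ : Subgroup G) : Set G)}
      ≤ 11 := by
  have hinj : Function.Injective
      (fun P' : {P' : Sylow 5 G // (P' : Subgroup G) ≤ normalizer ((Q₀ : Subgroup G) : Set G)} =>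
        P'.1.subtype P'.2) := by
    intro A B hAB
    have h1 : ((A.1.subtype A.2 : Sylow 5 ↥(normalizer ((Q₀ : Subgroup G) : Set G))) :
        Subgroup ↥(normalizer ((Q₀ : Subgroup G) : Set G))) = (B.1.subtype B.2 : Sylow 5 _) :=
      congrArg _ hAB
    rw [Sylow.coe_subtype, Sylow.coe_subtype, Subgroup.subgroupOf_inj, inf_of_le_left A.2,
      inf_of_le_left B.2] at h1
    exact Subtype.ext (Sylow.ext h1)
  have hle := Nat.card_le_card_of_injective _ hinj
  obtain ⟨S⟩ : Nonempty (Sylow 5 ↥(normalizer ((Q₀ : Subgroup G) : Set G))) := inferInstance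
  have hdvd := Sylow.card_dvd_index S
  have hnd := Sylow.not_dvd_index S
  have hidx : (S : Subgroup ↥(normalizer ((Q₀ : Subgroup G) : Set G))).index ∣ 55 := by
    rw [← hN]; exact Subgroup.index_dvd_card _
  have hpos : 0 < (S : Subgroup ↥(normalizer ((Q₀ : Subgroup G) : Set G))).index :=
    Nat.pos_of_ne_zero Subgroup.index_ne_zero_of_finite
  have hidx_le : (S : Subgroup ↥(normalizer ((Q₀ : Subgroup G) : Set G))).index ≤ 11 := by
    have hmem : (S : Subgroup ↥(normalizer ((Q₀ : Subgroup G) : Set G))).index ∈ Nat.divisors 55 :=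
      Nat.mem_divisors.mpr ⟨hidx, by norm_num⟩
    have hdiv : Nat.divisors 55 = {1, 5, 11, 55} := by decide
    rw [hdiv] at hmem
    simp only [Finset.mem_insert, Finset.mem_singleton] at hmem
    rcases hmem with h | h | h | h
    · omega
    · exfalso; apply hnd; rw [h]
    · omega
    · exfalso; apply hnd; rw [h]; norm_num
  have := Nat.le_of_dvd hpos hdvd
  omega

/-- `inv (N(P))` does not depend on the Sylow 5-subgroup `P`. -/
theorem k5_inv_normalizer_eq (P P' : Sylow 5 G) :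
    inv (normalizer ((P' : Subgroup G) : Set G)) = inv (normalizer ((P : Subgroup G) : Set G)) := by
  obtain ⟨g, hg⟩ := MulAction.exists_smul_eq G P' P
  have hg' : g⁻¹ • P = P' := by rw [← hg, inv_smul_smul]
  unfold inv
  apply Nat.card_congr
  refine ⟨fun t => ⟨g * t.1 * g⁻¹, ?_, ?_⟩, fun t => ⟨g⁻¹ * t.1 * g, ?_, ?_⟩, ?_, ?_⟩
  · have := MulEquiv.orderOf_eq (MulAut.conj g) t.1
    rw [MulAut.conj_apply] at this
    exact this.trans t.2.1
  · apply Sylow.smul_eq_iff_mem_normalizer.mp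
    have ht : t.1 • P' = P' := Sylow.smul_eq_iff_mem_normalizer.mpr t.2.2
    rw [mul_smul, mul_smul, hg', ht, hg]
  · have := MulEquiv.orderOf_eq (MulAut.conj g⁻¹) t.1
    rw [MulAut.conj_apply, inv_inv] at this
    exact this.trans t.2.1
  · apply Sylow.smul_eq_iff_mem_normalizer.mp
    have ht : t.1 • P = P := Sylow.smul_eq_iff_mem_normalizer.mpr t.2.2
    rw [mul_smul, mul_smul, hg, ht, hg']
  · intro t; apply Subtype.ext; simp only; group
  · intro t; apply Subtype.ext; simp only; group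

theorem k5_mul_self (t : G) (ht : orderOf t = 2) : t * t = 1 := by
  rw [← pow_two, ← ht, pow_orderOf_eq_one]

/-- An involution does not normalize a Sylow 11-subgroup (`|N(Q₀)| = 55` is odd). -/
theorem k5_smul_ne (Q₀ : Sylow 11 G)
    (hN : Nat.card (normalizer ((Q₀ : Subgroup G) : Set G)) = 55)
    (t : G) (ht : orderOf t = 2) : t • Q₀ ≠ Q₀ := by
  intro h
  have hmem : t ∈ normalizer ((Q₀ : Subgroup G) : Set G) :=
    Sylow.smul_eq_iff_mem_normalizer.mp h
  have h2 : orderOf t ∣ Nat.card ↥(normalizer ((Q₀ : Subgroup G) : Set G)) :=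
    Subgroup.orderOf_dvd_natCard _ hmem
  rw [ht, hN] at h2
  omega

/-- If `D(t) = N(Q₀) ⊓ N(t • Q₀) ≠ ⊥` then `D(t)` is a Sylow 5-subgroup inside `N(Q₀)`
normalized by `t`. -/
theorem k5_key (hG : Nat.card G = 7920) (Q₀ : Sylow 11 G)
    (hN : Nat.card (normalizer ((Q₀ : Subgroup G) : Set G)) = 55) (t : G) (ht : orderOf t = 2)
    (hD : normalizer ((Q₀ : Subgroup G) : Set G) ⊓
      normalizer (((t • Q₀ : Sylow 11 G) : Subgroup G) : Set G) ≠ ⊥) :
    ∃ P' : Sylow 5 G, (P' : Subgroup G) ≤ normalizer ((Q₀ : Subgroup G) : Set G) ∧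
      t ∈ normalizer ((P' : Subgroup G) : Set G) := by
  obtain ⟨D, hDdef⟩ : ∃ D : Subgroup G, D = normalizer ((Q₀ : Subgroup G) : Set G) ⊓
      normalizer (((t • Q₀ : Sylow 11 G) : Subgroup G) : Set G) := ⟨_, rfl⟩
  rw [← hDdef] at hD
  have hne := k5_smul_ne Q₀ hN t ht
  have h1 : Nat.card D ∣ 55 := by
    rw [← hN, hDdef]; exact Subgroup.card_dvd_of_le inf_le_left
  have h2 : ¬ 11 ∣ Nat.card D := by
    rw [hDdef]; exact k5_not_dvd_inf hG Q₀ (t • Q₀) hne
  have h3 : Nat.card D ≠ 1 := fun h => hD (Subgroup.card_eq_one.mp h)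
  have h5 : Nat.card D = 5 := by
    have hmem : Nat.card D ∈ Nat.divisors 55 := Nat.mem_divisors.mpr ⟨h1, by norm_num⟩
    have hdiv : Nat.divisors 55 = {1, 5, 11, 55} := by decide
    rw [hdiv] at hmem
    simp only [Finset.mem_insert, Finset.mem_singleton] at hmem
    rcases hmem with h | h | h | h
    · exact absurd h h3
    · exact h
    · exfalso; apply h2; rw [h]
    · exfalso; apply h2; rw [h]; norm_num
  have hp : IsPGroup 5 D := IsPGroup.of_card (n := 1) (by rw [h5]; norm_num)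
  have hidx : ¬ 5 ∣ D.index := by
    have h := Subgroup.card_mul_index D
    rw [h5, hG] at h
    have h' : D.index = 1584 := by omega
    rw [h']; norm_num
  have htt : t * t = 1 := k5_mul_self t ht
  have htinv : t⁻¹ = t := inv_eq_of_mul_eq_one_left htt
  have ett : t • (t • Q₀) = Q₀ := by rw [← mul_smul, htt, one_smul]
  have hfw : ∀ h ∈ D, t * h * t⁻¹ ∈ D := by
    intro h hh
    rw [hDdef] at hh ⊢
    obtain ⟨hh0, hh1⟩ := Subgroup.mem_inf.mp hh
    have e0 : h • Q₀ = Q₀ := Sylow.smul_eq_iff_mem_normalizer.mpr hh0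
    have e1 : h • (t • Q₀) = t • Q₀ := Sylow.smul_eq_iff_mem_normalizer.mpr hh1
    refine Subgroup.mem_inf.mpr ⟨?_, ?_⟩
    · apply Sylow.smul_eq_iff_mem_normalizer.mp
      rw [htinv, mul_smul, mul_smul, e1, ett]
    · apply Sylow.smul_eq_iff_mem_normalizer.mp
      rw [mul_smul, mul_smul, inv_smul_smul, e0]
  refine ⟨hp.toSylow hidx, ?_, ?_⟩
  · rw [IsPGroup.toSylow_coe, hDdef]; exact inf_le_left
  · rw [IsPGroup.toSylow_coe, Subgroup.mem_normalizer_iff]
    intro h
    constructor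
    · exact hfw h
    · intro hh
      have h6 := hfw _ hh
      have e : t * (t * h * t⁻¹) * t⁻¹ = h := by
        rw [htinv]
        calc t * (t * h * t) * t = (t * t) * h * (t * t) := by group
          _ = h := by rw [htt]; group
      rwa [e] at h6

/-- (K5) of helper7's M11LA server. -/
theorem inv_bound (F : Facts G) (P : Sylow 5 G) :
    inv (⊤ : Subgroup G) ≤ 110 + 11 * inv (normalizer ((P : Subgroup G) : Set G)) := by
  classical
  obtain ⟨Q₀⟩ : Nonempty (Sylow 11 G) := inferInstance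
  have hN := F.nq Q₀
  have hG := F.card
  let p : {t : G // orderOf t = 2 ∧ t ∈ (⊤ : Subgroup G)} → Prop := fun t =>
    normalizer ((Q₀ : Subgroup G) : Set G) ⊓
      normalizer (((t.1 • Q₀ : Sylow 11 G) : Subgroup G) : Set G) = ⊥
  have hsplit : inv (⊤ : Subgroup G) = Nat.card {t // p t} + Nat.card {t // ¬ p t} := by
    unfold inv
    rw [← Nat.card_sum]
    exact Nat.card_congr (Equiv.sumCompl p).symm
  have ha : Nat.card {t // p t} ≤ 110 := by
    refine le_trans ?_ (k5_card_far_le hG Q₀ hN)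
    apply Nat.card_le_card_of_injective (fun t : {t // p t} =>
      (⟨t.1.1 • Q₀, ⟨k5_smul_ne Q₀ hN t.1.1 t.1.2.1, t.2⟩⟩ : ↥(k5_far Q₀)))
    intro t t' htt'
    have hQ : t.1.1 • Q₀ = t'.1.1 • Q₀ := congrArg Subtype.val htt'
    have haa : t.1.1 * t.1.1 = 1 := k5_mul_self _ t.1.2.1
    have hbb : t'.1.1 * t'.1.1 = 1 := k5_mul_self _ t'.1.2.1
    have e0 : (t'.1.1 * t.1.1) • Q₀ = Q₀ := by
      rw [mul_smul, hQ, ← mul_smul, hbb, one_smul]
    have e1 : (t'.1.1 * t.1.1) • (t.1.1 • Q₀) = t.1.1 • Q₀ := by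
      rw [mul_smul, ← mul_smul t.1.1 t.1.1, haa, one_smul, hQ]
    have hmem : t'.1.1 * t.1.1 ∈ normalizer ((Q₀ : Subgroup G) : Set G) ⊓
        normalizer (((t.1.1 • Q₀ : Sylow 11 G) : Subgroup G) : Set G) :=
      Subgroup.mem_inf.mpr ⟨Sylow.smul_eq_iff_mem_normalizer.mp e0,
        Sylow.smul_eq_iff_mem_normalizer.mp e1⟩
    have hp : p t.1 := t.2
    rw [hp, Subgroup.mem_bot] at hmem
    have hab : t.1.1 = t'.1.1 := by
      calc t.1.1 = (t'.1.1 * t'.1.1) * t.1.1 := by rw [hbb, one_mul]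
        _ = t'.1.1 * (t'.1.1 * t.1.1) := by group
        _ = t'.1.1 := by rw [hmem, mul_one]
    exact Subtype.ext (Subtype.ext hab)
  have hb : Nat.card {t // ¬ p t} ≤ 11 * inv (normalizer ((P : Subgroup G) : Set G)) := by
    have hex : ∀ t : {t // ¬ p t}, ∃ P' : Sylow 5 G,
        (P' : Subgroup G) ≤ normalizer ((Q₀ : Subgroup G) : Set G) ∧
        t.1.1 ∈ normalizer ((P' : Subgroup G) : Set G) :=
      fun t => k5_key hG Q₀ hN t.1.1 t.1.2.1 t.2
    let f : {t // ¬ p t} → Σ P' : {P' : Sylow 5 G //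
        (P' : Subgroup G) ≤ normalizer ((Q₀ : Subgroup G) : Set G)},
        {s : G // orderOf s = 2 ∧ s ∈ normalizer ((P'.1 : Subgroup G) : Set G)} :=
      fun t => ⟨⟨Classical.choose (hex t), (Classical.choose_spec (hex t)).1⟩,
        ⟨t.1.1, t.1.2.1, (Classical.choose_spec (hex t)).2⟩⟩
    have hf : Function.Injective f := by
      have hcomp : Function.Injective ((fun x => x.2.1) ∘ f) := by
        intro t t' h
        exact Subtype.ext (Subtype.ext h)
      exact Function.Injective.of_comp hcomp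
    have hle := Nat.card_le_card_of_injective f hf
    have : Fintype {P' : Sylow 5 G //
        (P' : Subgroup G) ≤ normalizer ((Q₀ : Subgroup G) : Set G)} := Fintype.ofFinite _
    rw [Nat.card_sigma] at hle
    have hconst : ∀ a : {P' : Sylow 5 G //
        (P' : Subgroup G) ≤ normalizer ((Q₀ : Subgroup G) : Set G)},
        Nat.card {s : G // orderOf s = 2 ∧ s ∈ normalizer ((a.1 : Subgroup G) : Set G)} =
          inv (normalizer ((P : Subgroup G) : Set G)) := fun a => k5_inv_normalizer_eq P a.1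
    rw [Finset.sum_congr rfl (fun a _ => hconst a), Finset.sum_const, Finset.card_univ,
      smul_eq_mul, ← Nat.card_eq_fintype_card] at hle
    exact le_trans hle (Nat.mul_le_mul_right _ (k5_card_sylow5_le Q₀ hN))
  omega

end Cfsg.Agent.Helper95.M11LA
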