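import Mathlib
import Cfsg.Prelude.Def_Sporadic
import Cfsg.Prelude.Def_Sporadic_a
import Cfsg.Agent.Lib.Helper7.M11UDefs
import Cfsg.Agent.S0384

/-!
# M11U (MOD) (helper7 server, S0420): the concrete `M₁₁ = (M₂₄)_{d,p}` is sharply 4-transitive on the 11 points of the
dodecad `d` other than `p`.
-/

set_option autoImplicit false

namespace Cfsg.Agent.Helper95.M11U

open Subgroup Cfsg.Agent.Helper7.M11U
open scoped Pointwise

section MOD

variable (d : Finset Cfsg.GolayPt) (p : Cfsg.GolayPt)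

/-- the 11 points -/
abbrev ModT : Type := {q : Cfsg.GolayPt // q ∈ d ∧ q ≠ p}

/-- the stabiliser of the dodecad and the point -/
abbrev ModS : Subgroup Cfsg.M24 :=
  MulAction.stabilizer Cfsg.M24 d ⊓ MulAction.stabilizer Cfsg.M24 p

theorem mod_mem_iff {g : Cfsg.M24} (hg : g ∈ ModS d p) (q : Cfsg.GolayPt) :
    ((g : Equiv.Perm Cfsg.GolayPt) q ∈ d ∧ (g : Equiv.Perm Cfsg.GolayPt) q ≠ p) ↔ (q ∈ d ∧ q ≠ p) := by
  have hgp' : (g : Equiv.Perm Cfsg.GolayPt) p = p := hg.2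
  have hgd' : (g : Equiv.Perm Cfsg.GolayPt) • d = d := hg.1
  have h1 : (g : Equiv.Perm Cfsg.GolayPt) q ∈ d ↔ q ∈ d := by
    conv_lhs => rw [← hgd']
    exact Finset.smul_mem_smul_finset_iff (g : Equiv.Perm Cfsg.GolayPt)
  have h2 : (g : Equiv.Perm Cfsg.GolayPt) q = p ↔ q = p := by
    constructor
    · intro h
      exact (g : Equiv.Perm Cfsg.GolayPt).injective (h.trans hgp'.symm)
    · rintro rfl
      exact hgp'
  rw [h1, Ne, h2]

/-- restriction to the 11 points -/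
noncomputable def modRho : ModS d p →* Equiv.Perm (ModT d p) where
  toFun g := Equiv.Perm.subtypePerm ((g : Cfsg.M24) : Equiv.Perm Cfsg.GolayPt) (mod_mem_iff d p g.2)
  map_one' := by
    ext q
    rfl
  map_mul' g h := by
    ext q
    rfl

theorem modRho_apply (g : ModS d p) (q : ModT d p) :
    ((modRho d p g q : ModT d p) : Cfsg.GolayPt) = ((g : Cfsg.M24) : Equiv.Perm Cfsg.GolayPt) q := rfl

/-- extend a 4-tuple in `T` by `p` -/
def modExt (x : Fin 4 ↪ ModT d p) : Fin 5 ↪ Cfsg.GolayPt where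
  toFun := (Fin.cons p (fun i => ((x i : ModT d p) : Cfsg.GolayPt)) : Fin 5 → Cfsg.GolayPt)
  inj' := by
    rw [Fin.cons_injective_iff]
    refine ⟨?_, ?_⟩
    · rintro ⟨i, hi⟩
      exact (x i).2.2 hi
    · intro i j hij
      exact x.injective (Subtype.ext hij)

theorem modExt_zero (x : Fin 4 ↪ ModT d p) : modExt d p x 0 = p := rfl

theorem modExt_succ (x : Fin 4 ↪ ModT d p) (i : Fin 4) :
    modExt d p x i.succ = ((x i : ModT d p) : Cfsg.GolayPt) := rfl

theorem modExt_mem (hp : p ∈ d) (x : Fin 4 ↪ ModT d p) : ∀ i, modExt d p x i ∈ d := by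
  intro i
  refine Fin.cases ?_ ?_ i
  · rw [modExt_zero]
    exact hp
  · intro j
    rw [modExt_succ]
    exact (x j).2.1

theorem mod_exists (hd : d ∈ Cfsg.dodecads) (hp : p ∈ d) (x y : Fin 4 ↪ ModT d p) :
    ∃ g : ModS d p, ∀ i, ((g : Cfsg.M24) : Equiv.Perm Cfsg.GolayPt) (x i) = y i := by
  obtain ⟨g, hg, -⟩ := Cfsg.Agent.S0384.result d hd (modExt d p x) (modExt d p y)
    (modExt_mem d p hp x) (modExt_mem d p hp y)
  have h0 : ((g : Cfsg.M24) : Equiv.Perm Cfsg.GolayPt) p = p := hg 0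
  refine ⟨⟨g.1, g.2, ?_⟩, ?_⟩
  · exact h0
  · intro i
    exact hg i.succ

theorem mod_unique (hd : d ∈ Cfsg.dodecads) (hp : p ∈ d) (x : Fin 4 ↪ ModT d p) (g : ModS d p)
    (hg : ∀ i, ((g : Cfsg.M24) : Equiv.Perm Cfsg.GolayPt) (x i) = x i) : g = 1 := by
  obtain ⟨g0, -, huniq⟩ := Cfsg.Agent.S0384.result d hd (modExt d p x) (modExt d p x)
    (modExt_mem d p hp x) (modExt_mem d p hp x)
  have hgp : ((g : Cfsg.M24) : Equiv.Perm Cfsg.GolayPt) p = p :=
    MulAction.mem_stabilizer_iff.mp g.2.2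
  have h1 : (⟨g.1, g.2.1⟩ : MulAction.stabilizer Cfsg.M24 d) = g0 := huniq _ (by
    intro i
    refine Fin.cases ?_ ?_ i
    · exact hgp
    · intro j
      exact hg j)
  have h2 : (1 : MulAction.stabilizer Cfsg.M24 d) = g0 := huniq _ (by
    intro i
    rfl)
  have h3 : (⟨g.1, g.2.1⟩ : MulAction.stabilizer Cfsg.M24 d) = 1 := h1.trans h2.symm
  have h4 : (g : Cfsg.M24) = 1 :=
    congrArg (fun z : MulAction.stabilizer Cfsg.M24 d => (z : Cfsg.M24)) h3
  apply Subtype.ext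
  exact h4

/-- (MOD) -/
theorem model_sharp (d : Finset Cfsg.GolayPt) (hd : d ∈ Cfsg.dodecads) (p : Cfsg.GolayPt) (hp : p ∈ d) :
    Fintype.card {q : Cfsg.GolayPt // q ∈ d ∧ q ≠ p} = 11 ∧
    ∃ H : Subgroup (Equiv.Perm {q : Cfsg.GolayPt // q ∈ d ∧ q ≠ p}), Sharp4 H ∧
      Nonempty (↥(MulAction.stabilizer Cfsg.M24 d ⊓ MulAction.stabilizer Cfsg.M24 p) ≃* H) := by
  classical
  have hd12 : d.card = 12 := hd.2
  have hcard : Fintype.card {q : Cfsg.GolayPt // q ∈ d ∧ q ≠ p} = 11 := by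
    rw [Fintype.card_of_subtype (d.erase p) (fun x => by rw [Finset.mem_erase]; exact and_comm)]
    rw [Finset.card_erase_of_mem hp, hd12]
  refine ⟨hcard, (modRho d p).range, ⟨?_, ?_⟩, ?_⟩
  · refine ⟨fun x y => ?_⟩
    obtain ⟨g, hg⟩ := mod_exists d p hd hp x y
    refine ⟨⟨modRho d p g, ⟨g, rfl⟩⟩, ?_⟩
    apply Function.Embedding.ext
    intro i
    apply Subtype.ext
    exact hg i
  · intro x
    rw [Subgroup.eq_bot_iff_forall]
    rintro ⟨h, g, rfl⟩ hh
    rw [MulAction.mem_stabilizer_iff] at hh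
    have hg : ∀ i, ((g : Cfsg.M24) : Equiv.Perm Cfsg.GolayPt) (x i) = x i := by
      intro i
      have h1 := congrArg (fun z : Fin 4 ↪ ModT d p => ((z i : ModT d p) : Cfsg.GolayPt)) hh
      exact h1
    have hg1 := mod_unique d p hd hp x g hg
    subst hg1
    apply Subtype.ext
    exact map_one _
  · have hinj : Function.Injective (modRho d p) := by
      rw [injective_iff_map_eq_one]
      intro g hg
      obtain ⟨x⟩ : Nonempty (Fin 4 ↪ ModT d p) :=
        Function.Embedding.nonempty_of_card_le (by rw [Fintype.card_fin, hcard]; norm_num)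
      apply mod_unique d p hd hp x g
      intro i
      have h1 := congrArg (fun σ : Equiv.Perm (ModT d p) => ((σ (x i) : ModT d p) : Cfsg.GolayPt)) hg
      exact h1
    exact ⟨MonoidHom.ofInjective hinj⟩

end MOD

end Cfsg.Agent.Helper95.M11U
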