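import Mathlib
import Cfsg.Prelude.Def_Sporadic
import Cfsg.Prelude.Def_Sporadic_a
import Cfsg.Agent.Lib.Helper7.M11UDefs

/-!
# M11U (U4) (helper7 server, S0420): the Steiner system `S(4,5,11)` of a sharply 4-transitive group of degree 11
from the "extra fixed point" facts (U2), (U3).
-/

set_option autoImplicit false

namespace Cfsg.Agent.Helper95.M11U

open Subgroup Cfsg.Agent.Helper7.M11U
open scoped Pointwise

section U

variable {α : Type*} [Fintype α] [DecidableEq α]

/-- `e` is an extra point of the 4-set `X`: outside `X` and fixed by the setwise stabiliser of `X` in `K`. -/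
def U4P (K : Subgroup (Equiv.Perm α)) (X : Finset α) (e : α) : Prop :=
  e ∉ X ∧ ∀ g ∈ K, X.image (g : α → α) = X → g e = e

/-- the blocks -/
def U4B (K : Subgroup (Equiv.Perm α)) : Set (Finset α) :=
  {b | ∃ (X : Finset α) (e : α), X.card = 4 ∧ U4P K X e ∧ b = insert e X}

omit [Fintype α] in
theorem u4_sub (K : Subgroup (Equiv.Perm α))
    (h3 : ∀ (Y : Finset α) (d e : α), Y.card = 3 → d ∉ Y → e ∉ Y → d ≠ e →
      (∀ g ∈ K, (insert d Y).image (g : α → α) = insert d Y → g e = e) →
      ∀ g ∈ K, (insert e Y).image (g : α → α) = insert e Y → g d = d)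
    {X : Finset α} {e : α} (hX : X.card = 4) (hP : U4P K X e) {s : Finset α} (hs : s.card = 4)
    (hsub : s ⊆ insert e X) : ∃ e', U4P K s e' ∧ insert e' s = insert e X := by
  by_cases hsX : s = X
  · subst hsX
    exact ⟨e, hP, rfl⟩
  · have hcard : (insert e X).card = 5 := by rw [Finset.card_insert_of_notMem hP.1, hX]
    obtain ⟨d, hd, hds⟩ : ∃ d ∈ insert e X, d ∉ s := by
      by_contra hcon
      push_neg at hcon
      have h1 : insert e X ⊆ s := hcon
      have h2 := Finset.card_le_card h1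
      omega
    have hs_eq : s = (insert e X).erase d := by
      apply Finset.eq_of_subset_of_card_le
      · intro x hx
        exact Finset.mem_erase.mpr ⟨fun h => hds (h ▸ hx), hsub hx⟩
      · rw [Finset.card_erase_of_mem hd, hcard, hs]
    have hde : d ≠ e := by
      rintro rfl
      apply hsX
      rw [hs_eq, Finset.erase_insert hP.1]
    have hdX : d ∈ X := by
      rcases Finset.mem_insert.mp hd with h | h
      · exact absurd h hde
      · exact h
    have hYc : (X.erase d).card = 3 := by rw [Finset.card_erase_of_mem hdX, hX]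
    have hdY : d ∉ X.erase d := Finset.notMem_erase d X
    have heY : e ∉ X.erase d := fun h => hP.1 (Finset.mem_of_mem_erase h)
    have hXY : insert d (X.erase d) = X := Finset.insert_erase hdX
    have hsY : s = insert e (X.erase d) := by
      rw [hs_eq, Finset.erase_insert_of_ne hde.symm]
    refine ⟨d, ⟨?_, ?_⟩, ?_⟩
    · rw [hsY]
      simp [hde]
    · intro g hg hgs
      rw [hsY] at hgs
      exact h3 (X.erase d) d e hYc hdY heY hde (by rw [hXY]; exact hP.2) g hg hgs
    · rw [hsY, Finset.insert_comm, hXY]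

omit [Fintype α] in
theorem u4_inv (K : Subgroup (Equiv.Perm α)) :
    ∀ k ∈ K, ∀ b ∈ U4B K, k • b ∈ U4B K := by
  rintro k hk b ⟨X, e, hX, hP, rfl⟩
  refine ⟨k • X, k e, ?_, ⟨?_, ?_⟩, ?_⟩
  · rw [Finset.smul_finset_def, Finset.card_image_of_injective _ (MulAction.injective k), hX]
  · intro hmem
    obtain ⟨x, hx, hxe⟩ := Finset.mem_smul_finset.mp hmem
    have hxe' : x = e := k.injective (by simpa [Equiv.Perm.smul_def] using hxe)
    exact hP.1 (hxe' ▸ hx)
  · intro l hl hlX
    have hstab : X.image ((k⁻¹ * l * k : Equiv.Perm α) : α → α) = X := by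
      apply Finset.eq_of_subset_of_card_le
      · intro x hx
        obtain ⟨y, hy, rfl⟩ := Finset.mem_image.mp hx
        have hky : l (k y) ∈ k • X := by
          rw [← hlX]
          exact Finset.mem_image.mpr ⟨k y, Finset.smul_mem_smul_finset hy, rfl⟩
        obtain ⟨z, hz, hzk⟩ := Finset.mem_smul_finset.mp hky
        have hz' : (k⁻¹ * l * k) y = z := by
          simp only [Equiv.Perm.mul_apply]
          rw [← hzk]
          simp
        rw [hz']
        exact hz
      · rw [Finset.card_image_of_injective _ (Equiv.injective _)]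
    have h1 := hP.2 (k⁻¹ * l * k) (K.mul_mem (K.mul_mem (K.inv_mem hk) hl) hk) hstab
    have h2 : k ((k⁻¹ * l * k) e) = k e := by rw [h1]
    simpa [Equiv.Perm.mul_apply] using h2
  · rw [Finset.smul_finset_def, Finset.image_insert]
    rfl

/-- (U4) -/
theorem exists_steiner (hα : Fintype.card α = 11) (K : Subgroup (Equiv.Perm α)) (hK : Sharp4 K)
    (h2 : ∀ X : Finset α, X.card = 4 → ∃! e : α, e ∉ X ∧ ∀ g ∈ K, X.image (g : α → α) = X → g e = e)
    (h3 : ∀ (Y : Finset α) (d e : α), Y.card = 3 → d ∉ Y → e ∉ Y → d ≠ e →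
      (∀ g ∈ K, (insert d Y).image (g : α → α) = insert d Y → g e = e) →
      ∀ g ∈ K, (insert e Y).image (g : α → α) = insert e Y → g d = d) :
    ∃ B : Set (Finset α), Cfsg.IsSteinerSystem 4 5 B ∧ K ≤ Cfsg.setSystemAut B := by
  classical
  refine ⟨U4B K, ⟨?_, ?_⟩, ?_⟩
  · rintro b ⟨X, e, hX, hP, rfl⟩
    rw [Finset.card_insert_of_notMem hP.1, hX]
  · intro s hs
    obtain ⟨e, hPe, huniq⟩ := h2 s hs
    refine ⟨insert e s, ⟨⟨s, e, hs, hPe, rfl⟩, Finset.subset_insert e s⟩, ?_⟩
    rintro b' ⟨⟨X', e', hX', hP', rfl⟩, hsub⟩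
    obtain ⟨e'', hP'', heq⟩ := u4_sub K h3 hX' hP' hs hsub
    have hee : e'' = e := huniq e'' hP''
    rw [← heq, hee]
  · intro g hg
    rw [MulAction.mem_stabilizer_iff]
    apply Set.Subset.antisymm
    · rintro _ ⟨b, hb, rfl⟩
      exact u4_inv K g hg b hb
    · intro b hb
      refine ⟨g⁻¹ • b, u4_inv K g⁻¹ (K.inv_mem hg) b hb, ?_⟩
      simp

end U

end Cfsg.Agent.Helper95.M11U
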