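import Mathlib
import Cfsg.Agent.Lib.Helper12.Jordan

set_option autoImplicit false

/-!
Sharply `k`-transitive groups (helper95): order, and simplicity of the sharply 4- and 5-transitive
groups of degree 11 and 12 via Jordan's theorem on normal subgroups and Sylow-11 counting.
-/

namespace Cfsg.Agent.Helper95

open MulAction

section general

variable {H : Type*} [Group H] {α : Type*} [MulAction H α]

/-- a sharply `k`-transitive group has order `n (n-1) ... (n-k+1)`. -/
theorem card_of_sharp [Fintype α] (k : ℕ) [IsMultiplyPretransitive H α k]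
    (hsharp : ∀ x : Fin k ↪ α, stabilizer H x = ⊥) (hk : k ≤ Fintype.card α) :
    Nat.card H = (Fintype.card α).descFactorial k := by
  obtain ⟨x⟩ : Nonempty (Fin k ↪ α) :=
    Function.Embedding.nonempty_of_card_le (by simpa using hk)
  have h1 := MulAction.index_stabilizer_of_transitive (G := H) (x := x)
  rw [hsharp x, Subgroup.index_bot] at h1
  rw [h1, Nat.card_eq_fintype_card, Fintype.card_embedding_eq, Fintype.card_fin]

/-- a `j`-transitive group has order divisible by `n (n-1) ... (n-j+1)`. -/
theorem descFactorial_dvd_card [Fintype α] [Finite H] (j : ℕ) [IsMultiplyPretransitive H α j]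
    (hj : j ≤ Fintype.card α) : (Fintype.card α).descFactorial j ∣ Nat.card H := by
  obtain ⟨x⟩ : Nonempty (Fin j ↪ α) :=
    Function.Embedding.nonempty_of_card_le (by simpa using hj)
  have h1 := MulAction.index_stabilizer_of_transitive (G := H) (x := x)
  rw [Nat.card_eq_fintype_card, Fintype.card_embedding_eq, Fintype.card_fin] at h1
  rw [← h1]
  exact Subgroup.index_dvd_card _

/-- in a sharply `k`-transitive group an element fixing the points of an injective `k`-tuple
is trivial. -/
theorem eq_one_of_fix (k : ℕ) (hsharp : ∀ x : Fin k ↪ α, stabilizer H x = ⊥) (u : H)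
    (y : Fin k ↪ α) (hy : ∀ i, u • y i = y i) : u = 1 := by
  have : u ∈ stabilizer H y := by
    rw [mem_stabilizer_iff]
    ext i
    exact hy i
  rw [hsharp y] at this
  exact Subgroup.mem_bot.mp this

/-- In a sharply `k`-transitive group (`k ≤ 11`) acting faithfully, the normalizer of a subgroup of
order 11 has order at most `11 * n`. -/
theorem card_normalizer_le [Fintype α] [FaithfulSMul H α] [Finite H] (k : ℕ) (hk : k ≤ 11)
    (hsharp : ∀ x : Fin k ↪ α, stabilizer H x = ⊥) (P : Subgroup H) (hP : Nat.card P = 11) :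
    Nat.card (Subgroup.normalizer (P : Set H)) ≤ 11 * Fintype.card α := by
  have hPne : P ≠ ⊥ := by
    intro h
    rw [h, Subgroup.card_bot] at hP
    omega
  obtain ⟨⟨c, hcP⟩, hc1'⟩ := (Subgroup.ne_bot_iff_exists_ne_one).mp hPne
  have hc1 : c ≠ 1 := fun h => hc1' (Subtype.ext h)
  have hord : orderOf c = 11 := by
    have h1 : orderOf (⟨c, hcP⟩ : P) ∣ 11 := hP ▸ orderOf_dvd_natCard _
    rw [← Subgroup.orderOf_coe] at h1
    have h2 : orderOf c ≠ 1 := fun h => hc1 (orderOf_eq_one_iff.mp h)
    rcases (Nat.dvd_prime (by norm_num : Nat.Prime 11)).mp h1 with h | h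
    · exact absurd h h2
    · exact h
  obtain ⟨a₀, ha₀⟩ : ∃ a : α, c • a ≠ a := by
    by_contra hcon
    apply hc1
    apply FaithfulSMul.eq_of_smul_eq_smul (α := α)
    intro a
    rw [one_smul]
    by_contra h
    exact hcon ⟨a, h⟩
  have hper : Function.minimalPeriod (c • · : α → α) a₀ = 11 := by
    have h1 : Function.minimalPeriod (c • · : α → α) a₀ ∣ 11 := by
      rw [← MulAction.pow_smul_eq_iff_minimalPeriod_dvd, ← hord, pow_orderOf_eq_one, one_smul]
    rcases (Nat.dvd_prime (by norm_num : Nat.Prime 11)).mp h1 with h | h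
    · exfalso
      apply ha₀
      have := (MulAction.pow_smul_eq_iff_minimalPeriod_dvd (a := c) (b := a₀) (n := 1)).mpr
        (by rw [h])
      simpa using this
    · exact h
  have hdvd : ∀ i : ℤ, c ^ i • a₀ = a₀ → (11 : ℤ) ∣ i := by
    intro i hi
    have := (MulAction.zpow_smul_eq_iff_minimalPeriod_dvd (a := c) (b := a₀) (n := i)).mp hi
    rw [hper] at this
    exact_mod_cast this
  let y : Fin k ↪ α := ⟨fun i => c ^ (i : ℕ) • a₀, by
    intro i j hij
    simp only at hij
    have h1 : c ^ ((i : ℕ) : ℤ) • a₀ = c ^ ((j : ℕ) : ℤ) • a₀ := by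
      rw [zpow_natCast, zpow_natCast]; exact hij
    have h2 : c ^ (((i : ℕ) : ℤ) - ((j : ℕ) : ℤ)) • a₀ = a₀ := by
      have h0 : ((i : ℕ) : ℤ) - ((j : ℕ) : ℤ) = -((j : ℕ) : ℤ) + ((i : ℕ) : ℤ) := by ring
      rw [h0, zpow_add, mul_smul, h1, ← mul_smul, ← zpow_add]
      simp
    have h3 := hdvd _ h2
    have hi := i.2
    have hj := j.2
    apply Fin.ext
    omega⟩
  have hy : ∀ i : Fin k, y i = c ^ (i : ℕ) • a₀ := fun i => rfl
  let Φ : ↥(Subgroup.normalizer (P : Set H)) → ↥P × α := fun h =>
    (⟨(h : H) * c * (h : H)⁻¹, (Subgroup.mem_set_normalizer_iff.mp h.2 c).mp hcP⟩, (h : H) • a₀)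
  have hΦ : Function.Injective Φ := by
    intro h h' hh
    have e1 : (h : H) * c * (h : H)⁻¹ = (h' : H) * c * (h' : H)⁻¹ :=
      congrArg (fun z : ↥P × α => (z.1 : H)) hh
    have e2 : (h : H) • a₀ = (h' : H) • a₀ := congrArg (fun z : ↥P × α => z.2) hh
    set u : H := (h : H)⁻¹ * (h' : H) with hu
    have hcomm : Commute u c := by
      show u * c = c * u
      calc u * c = (h : H)⁻¹ * ((h' : H) * c * (h' : H)⁻¹) * (h' : H) := by rw [hu]; group
        _ = (h : H)⁻¹ * ((h : H) * c * (h : H)⁻¹) * (h' : H) := by rw [e1]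
        _ = c * u := by rw [hu]; group
    have hua : u • a₀ = a₀ := by
      rw [hu, mul_smul, ← e2, ← mul_smul, inv_mul_cancel, one_smul]
    have hu1 : u = 1 := by
      apply eq_one_of_fix k hsharp u y
      intro i
      rw [hy, ← mul_smul, (hcomm.pow_right _).eq, mul_smul, hua]
    apply Subtype.ext
    have := inv_mul_eq_one.mp hu1
    exact this
  calc Nat.card (Subgroup.normalizer (P : Set H)) ≤ Nat.card (↥P × α) :=
        Nat.card_le_card_of_injective Φ hΦ
    _ = 11 * Fintype.card α := by rw [Nat.card_prod, hP, Nat.card_eq_fintype_card]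

/-- Simplicity of sharply `k`-transitive groups whose order is `11 * m` with `11 ∤ m`,
`k ≥ 4`, with `n - k + 1 = 8` and a numerical condition on Sylow 11-normalizers. -/
theorem simple_of_sharp [Fintype α] [FaithfulSMul H α] (k : ℕ) (hk4 : 4 ≤ k) (hk11 : k ≤ 11)
    (hkn : k < Fintype.card α) [IsMultiplyPretransitive H α k]
    (hsharp : ∀ x : Fin k ↪ α, stabilizer H x = ⊥) (m : ℕ)
    (hcard : (Fintype.card α).descFactorial k = 11 * m) (hm11 : ¬ 11 ∣ m)
    (hidx : (Fintype.card α).descFactorial k = 8 * (Fintype.card α).descFactorial (k - 1))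
    (harith : ∀ f idx : ℕ, f ≤ Fintype.card α → f * idx = m → idx % 11 = 1 → Odd f) :
    IsSimpleGroup H := by
  have hp11 : Fact (Nat.Prime 11) := ⟨by norm_num⟩
  have hH : Nat.card H = 11 * m := by rw [card_of_sharp k hsharp hkn.le, hcard]
  have hm0 : m ≠ 0 := fun h => hm11 (h ▸ dvd_zero 11)
  have hfin : Finite H := Nat.finite_of_card_ne_zero (by rw [hH]; omega)
  have hnt : Nontrivial H := by
    rw [← Finite.one_lt_card_iff_nontrivial, hH]
    omega
  refine { toNontrivial := hnt, eq_bot_or_eq_top_of_normal := fun N hN => ?_ }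
  by_cases hNbot : N = ⊥
  · exact Or.inl hNbot
  right
  have hj := Cfsg.Agent.Helper12.Jordan.jordan k (by omega) H α
    (by rw [Nat.card_eq_fintype_card]; exact hkn) inferInstance N hN hNbot
  rcases hj with hNt | ⟨h3, -, -⟩
  swap
  · omega
  set d := (Fintype.card α).descFactorial (k - 1) with hd
  have hdN : d ∣ Nat.card N := descFactorial_dvd_card (H := N) (k - 1) (by omega)
  have hd11 : 11 ∣ d := by
    have h1 : 11 ∣ 8 * d := by rw [← hidx, hcard]; exact dvd_mul_right _ _
    exact (Nat.Coprime.dvd_mul_left (by norm_num : Nat.Coprime 11 8)).mp h1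
  have hd0 : 0 < d := Nat.descFactorial_pos.mpr (by omega)
  have hNidx : N.index ∣ 8 := by
    obtain ⟨t, ht⟩ := hdN
    have h1 := Subgroup.card_mul_index N
    rw [hH, ← hcard, hidx, ht] at h1
    have h2 : d * (t * N.index) = d * 8 := by rw [← mul_assoc, h1, mul_comm]
    have h3 := Nat.eq_of_mul_eq_mul_left hd0 h2
    exact ⟨t, by rw [← h3]; ring⟩
  -- an element of order 11 in `N`
  obtain ⟨x, hx⟩ := exists_prime_orderOf_dvd_card' (G := N) 11 (hd11.trans hdN)
  set Q : Subgroup H := Subgroup.zpowers (x : H) with hQ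
  have hQN : Q ≤ N := by
    rw [hQ, Subgroup.zpowers_le]
    exact x.2
  have hQcard : Nat.card Q = 11 := by
    rw [hQ, Nat.card_zpowers, Subgroup.orderOf_coe, hx]
  have hQp : IsPGroup 11 Q := IsPGroup.of_card (n := 1) (by rw [hQcard, pow_one])
  obtain ⟨P, hQP⟩ := hQp.exists_le_sylow
  have hPcard : Nat.card (P : Subgroup H) = 11 := by
    obtain ⟨a, ha⟩ := (IsPGroup.iff_card).mp P.isPGroup'
    have h1 : 11 ^ a ∣ 11 * m := by
      rw [← ha, ← hH]; exact Subgroup.card_subgroup_dvd_card _
    have h2 : 11 ∣ 11 ^ a := by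
      have h0 := Subgroup.card_dvd_of_le hQP
      rw [hQcard, ha] at h0
      exact h0
    have ha1 : a ≤ 1 := by
      by_contra hcon
      rw [not_le] at hcon
      apply hm11
      have h3 : 11 ^ 2 ∣ 11 * m := (pow_dvd_pow 11 hcon).trans h1
      rw [pow_two] at h3
      exact (Nat.mul_dvd_mul_iff_left (by norm_num)).mp h3
    have ha0 : a ≠ 0 := by
      rintro rfl
      norm_num at h2
    have : a = 1 := by omega
    rw [ha, this, pow_one]
  have hPQ : (P : Subgroup H) = Q := by
    symm
    apply Subgroup.eq_of_le_of_card_ge hQP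
    rw [hPcard, hQcard]
  have hPN : (P : Subgroup H) ≤ N := hPQ ▸ hQN
  have hfrat := Sylow.normalizer_sup_eq_top' P hPN
  have hrel : N.index = N.relIndex (Subgroup.normalizer ((P : Subgroup H) : Set H)) := by
    rw [← Subgroup.relIndex_top_right, ← hfrat, Subgroup.relIndex_sup_right]
    rfl
  have hdvdn : N.index ∣ Nat.card (Subgroup.normalizer ((P : Subgroup H) : Set H)) := by
    rw [hrel]; exact Subgroup.relIndex_dvd_card _ _
  -- the order of the normalizer
  have hnle := card_normalizer_le k hk11 hsharp (P : Subgroup H) hPcard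
  have h11n : 11 ∣ Nat.card (Subgroup.normalizer ((P : Subgroup H) : Set H)) := by
    have h0 := Subgroup.card_dvd_of_le (Subgroup.le_normalizer (H := (P : Subgroup H)))
    rw [hPcard] at h0
    exact h0
  obtain ⟨f, hf⟩ := h11n
  have hsyl : Nat.card (Sylow 11 H) =
      (Subgroup.normalizer ((P : Subgroup H) : Set H)).index := Sylow.card_eq_index_normalizer P
  have hmod := card_sylow_modEq_one 11 H
  have hmul := Subgroup.card_mul_index (Subgroup.normalizer ((P : Subgroup H) : Set H))
  rw [← hsyl, hf, hH] at hmul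
  have hfm : f * Nat.card (Sylow 11 H) = m := by
    have : 11 * (f * Nat.card (Sylow 11 H)) = 11 * m := by rw [← hmul]; ring
    exact Nat.eq_of_mul_eq_mul_left (by norm_num) this
  have hfle : f ≤ Fintype.card α := by
    rw [hf] at hnle
    exact Nat.le_of_mul_le_mul_left hnle (by norm_num)
  have hfodd := harith f (Nat.card (Sylow 11 H)) hfle hfm hmod
  have hnodd : Odd (Nat.card (Subgroup.normalizer ((P : Subgroup H) : Set H))) := by
    rw [hf]
    exact Odd.mul (by decide) hfodd
  have hiodd : Odd N.index := Odd.of_dvd_nat hnodd hdvdn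
  have hi1 : N.index = 1 := by
    have hle : N.index ≤ 8 := Nat.le_of_dvd (by norm_num) hNidx
    obtain ⟨r, hr⟩ := hiodd
    interval_cases h : N.index <;> first | rfl | omega
  exact Subgroup.index_eq_one.mp hi1

end general

end Cfsg.Agent.Helper95
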