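import Mathlib
import Cfsg.Prelude.Def_Sporadic
import Cfsg.Prelude.Def_Sporadic_a
import Cfsg.Agent.Lib.Helper7.M11UDefs
import Cfsg.Agent.S0411
import Cfsg.Agent.S0418
import Cfsg.Agent.S0426

/-!
# M11U (U5) (helper7 server, S0420): two sharply 4-transitive groups of degree 11 preserving Steiner systems
`S(4,5,11)` are isomorphic.
-/

set_option autoImplicit false

namespace Cfsg.Agent.Helper95.M11U

open Subgroup Cfsg.Agent.Helper7.M11U
open scoped Pointwise

/-- Conjugation by an isomorphism of set systems maps automorphisms to automorphisms. -/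
theorem u5_permCongr_mem {α β : Type*} [DecidableEq α] [DecidableEq β] (e : α ≃ β)
    {B : Set (Finset α)} {B' : Set (Finset β)} (he : (fun b => b.image e) '' B = B')
    {g : Equiv.Perm α} (hg : g ∈ Cfsg.setSystemAut B) :
    e.permCongr g ∈ Cfsg.setSystemAut B' := by
  rw [MulAction.mem_stabilizer_iff] at hg ⊢
  have key : ∀ b : Finset α, (e.permCongr g) • (b.image e) = (g • b).image e := by
    intro b
    ext y
    simp only [Finset.mem_smul_finset, Finset.mem_image, Equiv.Perm.smul_def]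
    constructor
    · rintro ⟨_, ⟨x, hx, rfl⟩, rfl⟩
      exact ⟨g x, ⟨x, hx, rfl⟩, by simp [Equiv.permCongr_apply]⟩
    · rintro ⟨_, ⟨x, hx, rfl⟩, rfl⟩
      exact ⟨e x, ⟨x, hx, rfl⟩, by simp [Equiv.permCongr_apply]⟩
  subst he
  ext c
  constructor
  · rintro ⟨_, ⟨b, hb, rfl⟩, rfl⟩
    refine ⟨g • b, ?_, (key b).symm⟩
    rw [← hg]
    exact Set.smul_mem_smul_set hb
  · rintro ⟨b, hb, rfl⟩
    have hb' : b ∈ g • B := by rw [hg]; exact hb
    obtain ⟨b0, hb0, rfl⟩ := hb'
    exact ⟨b0.image e, ⟨b0, hb0, rfl⟩, key b0⟩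

section U

variable {α : Type*} [Fintype α] [DecidableEq α]

/-- (U5) -/
theorem iso_of_sharp4 {β : Type*} [Fintype β] [DecidableEq β]
    (hα : Fintype.card α = 11) (hβ : Fintype.card β = 11)
    (K : Subgroup (Equiv.Perm α)) (H : Subgroup (Equiv.Perm β)) (hK : Sharp4 K) (hH : Sharp4 H)
    (hsK : ∃ B : Set (Finset α), Cfsg.IsSteinerSystem 4 5 B ∧ K ≤ Cfsg.setSystemAut B)
    (hsH : ∃ B : Set (Finset β), Cfsg.IsSteinerSystem 4 5 B ∧ H ≤ Cfsg.setSystemAut B) :
    Nonempty (K ≃* H) := by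
  classical
  obtain ⟨B, hB, hKB⟩ := hsK
  obtain ⟨B', hB', hHB⟩ := hsH
  haveI := hK.1
  haveI := hH.1
  have cK : Nat.card K = 7920 := (Cfsg.Agent.S0418.result hα K hK.2).2
  have cH : Nat.card H = 7920 := (Cfsg.Agent.S0418.result hβ H hH.2).2
  have cB : Nat.card (Cfsg.setSystemAut B) = 7920 := (Cfsg.Agent.S0426.result hα hB).1.2
  have cB' : Nat.card (Cfsg.setSystemAut B') = 7920 := (Cfsg.Agent.S0426.result hβ hB').1.2
  have eK : K = Cfsg.setSystemAut B := Subgroup.eq_of_le_of_card_ge hKB (by rw [cK, cB])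
  have eH : H = Cfsg.setSystemAut B' := Subgroup.eq_of_le_of_card_ge hHB (by rw [cH, cB'])
  obtain ⟨e, he⟩ := Cfsg.Agent.S0411.result hα hβ hB hB'
  have hmap : K.map (e.permCongrHom : Equiv.Perm α ≃* Equiv.Perm β).toMonoidHom ≤ H := by
    rintro _ ⟨g, hg, rfl⟩
    rw [eH]
    have hg' : g ∈ Cfsg.setSystemAut B := eK ▸ hg
    exact u5_permCongr_mem e he hg'
  have hcard : Nat.card (K.map (e.permCongrHom : Equiv.Perm α ≃* Equiv.Perm β).toMonoidHom) = 7920 := by
    rw [Subgroup.card_map_of_injective (e.permCongrHom : Equiv.Perm α ≃* Equiv.Perm β).injective]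
    exact cK
  have hEq : K.map (e.permCongrHom : Equiv.Perm α ≃* Equiv.Perm β).toMonoidHom = H :=
    Subgroup.eq_of_le_of_card_ge hmap (by rw [hcard, cH])
  exact ⟨(K.equivMapOfInjective _
    (e.permCongrHom : Equiv.Perm α ≃* Equiv.Perm β).injective).trans (MulEquiv.subgroupCongr hEq)⟩

end U

end Cfsg.Agent.Helper95.M11U
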