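import Mathlib
import Cfsg.Agent.Lib.Helper73.QuatRecog

/-!
# Sharply 2-transitive groups of degree 9 (towards `M₉ = 3² : Q₈`)
-/

set_option autoImplicit false
open MulAction

namespace Cfsg.Agent.Helper95.Sharp2

/-- a non-cyclic group of order 8 with at most one involution is quaternion. -/
theorem quaternion_of_card_eight {P : Type*} [Group P] [Finite P] (hcard : Nat.card P = 8)
    (hnc : ¬ IsCyclic P) (huniq : ∀ x y : P, orderOf x = 2 → orderOf y = 2 → x = y) :
    Nonempty (P ≃* QuaternionGroup 2) := by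
  have hdvd : ∀ x : P, orderOf x ∣ 8 := fun x => hcard ▸ orderOf_dvd_natCard x
  have hord : ∀ x : P, orderOf x = 1 ∨ orderOf x = 2 ∨ orderOf x = 4 := by
    intro x
    have h1 := hdvd x
    have h2 : orderOf x ≤ 8 := Nat.le_of_dvd (by norm_num) h1
    have h3 : orderOf x ≠ 8 := by
      intro h8
      exact hnc (isCyclic_of_orderOf_eq_card x (by rw [h8, hcard]))
    have h0 : 0 < orderOf x := orderOf_pos x
    interval_cases h : orderOf x <;> simp_all <;> omega
  -- an element of order 4
  obtain ⟨x, hx⟩ : ∃ x : P, orderOf x = 4 := by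
    by_contra hno
    push_neg at hno
    have h2 : ∀ x : P, x ≠ 1 → orderOf x = 2 := by
      intro x hx1
      rcases hord x with h | h | h
      · exact absurd (orderOf_eq_one_iff.mp h) hx1
      · exact h
      · exact absurd h (hno x)
    have hsub : ∀ x y : P, x ≠ 1 → y ≠ 1 → x = y := fun x y hx hy => huniq x y (h2 x hx) (h2 y hy)
    have : Nat.card P ≤ 2 := by
      classical
      haveI := Fintype.ofFinite P
      rw [Nat.card_eq_fintype_card]
      by_cases hex : ∃ x : P, x ≠ 1
      · obtain ⟨x0, hx0⟩ := hex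
        have : (Finset.univ : Finset P) ⊆ {1, x0} := by
          intro y _
          by_cases hy : y = 1
          · simp [hy]
          · simp [hsub y x0 hy hx0]
        calc Fintype.card P = (Finset.univ : Finset P).card := rfl
          _ ≤ ({1, x0} : Finset P).card := Finset.card_le_card this
          _ ≤ 2 := Finset.card_le_two
      · push_neg at hex
        have : (Finset.univ : Finset P) ⊆ {1} := by
          intro y _
          simp [hex y]
        calc Fintype.card P = (Finset.univ : Finset P).card := rfl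
          _ ≤ ({1} : Finset P).card := Finset.card_le_card this
          _ ≤ 2 := by simp
    omega
  have hx2 : orderOf (x ^ 2) = 2 := by
    rw [orderOf_pow' x (by norm_num), hx]
    norm_num
  have hzcard : Nat.card (Subgroup.zpowers x) = 4 := by rw [Nat.card_zpowers, hx]
  have hidx : (Subgroup.zpowers x).index = 2 := by
    have := (Subgroup.zpowers x).card_mul_index
    rw [hzcard, hcard] at this
    omega
  haveI hnorm : (Subgroup.zpowers x).Normal := Subgroup.normal_of_index_eq_two hidx
  obtain ⟨y, hy⟩ : ∃ y : P, y ∉ Subgroup.zpowers x := by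
    by_contra hall
    push_neg at hall
    have : Subgroup.zpowers x = ⊤ := (Subgroup.eq_top_iff' _).mpr hall
    rw [this, Subgroup.index_top] at hidx
    omega
  have hy4 : orderOf y = 4 := by
    rcases hord y with h | h | h
    · exfalso
      rw [orderOf_eq_one_iff] at h
      exact hy (h ▸ Subgroup.one_mem _)
    · exfalso
      have := huniq y (x ^ 2) h hx2
      exact hy (this ▸ Subgroup.pow_mem _ (Subgroup.mem_zpowers x) 2)
    · exact h
  have hy2 : y ^ 2 = x ^ 2 := by
    apply huniq _ _ _ hx2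
    rw [orderOf_pow' y (by norm_num), hy4]
    norm_num
  -- conjugate of x by y
  have hconj_mem : y * x * y⁻¹ ∈ Subgroup.zpowers x := hnorm.conj_mem x (Subgroup.mem_zpowers x) y
  have hconj_ord : orderOf (y * x * y⁻¹) = 4 := by
    rw [← hx, ← MulAut.conj_apply]
    exact MulEquiv.orderOf_eq _ _
  have hx4 : x ^ 4 = 1 := by rw [← hx]; exact pow_orderOf_eq_one x
  have hcases : y * x * y⁻¹ = x ∨ y * x * y⁻¹ = x⁻¹ := by
    obtain ⟨k, hk⟩ := Subgroup.mem_zpowers_iff.mp hconj_mem
    have hk' : x ^ (k % 4) = y * x * y⁻¹ := by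
      rw [← hk]
      have := zpow_mod_orderOf x k
      rw [hx] at this
      exact_mod_cast this
    have h0 : 0 ≤ k % 4 := Int.emod_nonneg _ (by norm_num)
    have h4 : k % 4 < 4 := Int.emod_lt_of_pos _ (by norm_num)
    obtain ⟨j, hj⟩ : ∃ j : ℕ, k % 4 = j := ⟨(k % 4).toNat, (Int.toNat_of_nonneg h0).symm⟩
    rw [hj, zpow_natCast] at hk'
    have hj4 : j < 4 := by omega
    interval_cases j
    · exfalso
      rw [pow_zero] at hk'
      rw [← hk', orderOf_one] at hconj_ord
      omega
    · left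
      rw [← hk', pow_one]
    · exfalso
      rw [← hk', hx2] at hconj_ord
      omega
    · right
      rw [← hk']
      apply eq_inv_of_mul_eq_one_left
      rw [← pow_succ, hx4]
  have hta : y * x * y⁻¹ = x⁻¹ := by
    rcases hcases with h | h
    · exfalso
      have hcomm : Commute x y := by
        unfold Commute SemiconjBy
        have := congrArg (fun z => z * y) h
        simp only [inv_mul_cancel_right] at this
        exact this.symm
      have hsq : (x * y) ^ 2 = 1 := by
        rw [hcomm.mul_pow, hy2, ← pow_add, hx4]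
      have hd : orderOf (x * y) ∣ 2 := orderOf_dvd_of_pow_eq_one hsq
      have h12 : orderOf (x * y) = 1 ∨ orderOf (x * y) = 2 := by
        have := Nat.le_of_dvd (by norm_num) hd
        have hpos := orderOf_pos (x * y)
        omega
      rcases h12 with h1 | h2
      · rw [orderOf_eq_one_iff] at h1
        apply hy
        have : y = x⁻¹ := eq_inv_of_mul_eq_one_right h1
        rw [this]
        exact Subgroup.inv_mem _ (Subgroup.mem_zpowers x)
      · have := huniq _ _ h2 hx2
        apply hy
        have : y = x := by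
          have h' : x * y = x * x := by rw [this, pow_two]
          exact mul_left_cancel h'
        rw [this]
        exact Subgroup.mem_zpowers x
    · exact h
  haveI : NeZero 2 := ⟨by norm_num⟩
  exact Cfsg.Agent.Helper73.quat_equiv (a := x) (t := y) (N := 2) (by rw [hx]) hy2 hta hy
    (by rw [hcard])

/-- sharply 2-transitive action, in elementary terms -/
structure Sharp2 (Y : Type*) [Group Y] (Ω : Type*) [MulAction Y Ω] : Prop where
  trans : ∀ a b c d : Ω, a ≠ b → c ≠ d → ∃ g : Y, g • a = c ∧ g • b = d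
  sharp : ∀ (g : Y) (a b : Ω), a ≠ b → g • a = a → g • b = b → g = 1

variable {Y : Type*} [Group Y] {Ω : Type*} [MulAction Y Ω]

theorem Sharp2.pretransitive (h : Sharp2 Y Ω) : IsPretransitive Y Ω := by
  constructor
  intro a c
  by_cases hac : a = c
  · exact ⟨1, by rw [one_smul, hac]⟩
  · obtain ⟨g, hg, -⟩ := h.trans a c c a hac (Ne.symm hac)
    exact ⟨g, hg⟩

theorem Sharp2.card_stabilizer (h : Sharp2 Y Ω) [Finite Ω] (s u : Ω) (hus : u ≠ s) :
    Nat.card (stabilizer Y s) + 1 = Nat.card Ω := by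
  have hmem : ∀ t : stabilizer Y s, (t : Y) • u ∈ ({s} : Set Ω)ᶜ := by
    intro t
    have ht : (t : Y) • s = s := t.2
    simp only [Set.mem_compl_iff, Set.mem_singleton_iff]
    intro h'
    exact hus (smul_left_cancel (t : Y) (h'.trans ht.symm))
  have hbij : Function.Bijective
      (fun t : stabilizer Y s => (⟨(t : Y) • u, hmem t⟩ : (({s} : Set Ω)ᶜ : Set Ω))) := by
    constructor
    · intro t t' htt
      have h4 : (t : Y) • u = (t' : Y) • u := congrArg Subtype.val htt
      have ht : (t : Y) • s = s := t.2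
      have ht' : (t' : Y) • s = s := t'.2
      apply Subtype.ext
      have : (t' : Y)⁻¹ * (t : Y) = 1 := by
        apply h.sharp _ s u hus.symm
        · rw [mul_smul, ht, inv_smul_eq_iff, ht']
        · rw [mul_smul, h4, inv_smul_smul]
      rw [inv_mul_eq_one] at this
      exact this.symm
    · rintro ⟨q, hq⟩
      simp only [Set.mem_compl_iff, Set.mem_singleton_iff] at hq
      obtain ⟨g, g1, g2⟩ := h.trans s u s q hus.symm (Ne.symm hq)
      exact ⟨⟨g, g1⟩, Subtype.ext g2⟩
  rw [Nat.card_congr (Equiv.ofBijective _ hbij), _root_.Nat.card_coe_set_eq,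
    ← Set.ncard_add_ncard_compl ({s} : Set Ω), Set.ncard_singleton]
  omega

theorem Sharp2.card_group (h : Sharp2 Y Ω) [Finite Ω] [Finite Y] (hΩ : 2 ≤ Nat.card Ω) :
    Nat.card Y = Nat.card Ω * (Nat.card Ω - 1) := by
  haveI := h.pretransitive
  haveI : Nontrivial Ω := Finite.one_lt_card_iff_nontrivial.mp (by omega)
  obtain ⟨s, u, hsu⟩ := exists_pair_ne Ω
  have h1 := h.card_stabilizer s u hsu.symm
  have h2 := MulAction.index_stabilizer_of_transitive (G := Y) (x := s)
  have h3 := (stabilizer Y s).card_mul_index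
  rw [h2] at h3
  rw [← h3]
  have : Nat.card (stabilizer Y s) = Nat.card Ω - 1 := by omega
  rw [this, mul_comm]

/-- the fixed-point-free elements -/
def Fpf (Y : Type*) [Group Y] (Ω : Type*) [MulAction Y Ω] : Set Y := {g | ∀ s : Ω, g • s ≠ s}

theorem fpf_conj {g : Y} (hg : g ∈ Fpf Y Ω) (k : Y) : k * g * k⁻¹ ∈ Fpf Y Ω := by
  intro s hs
  apply hg (k⁻¹ • s)
  rw [mul_smul, mul_smul] at hs
  exact (smul_eq_iff_eq_inv_smul k).mp hs

/-- an element fixing a point and commuting with a fixed-point-free element is trivial -/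
theorem Sharp2.free (h : Sharp2 Y Ω) {q : Y} (hq : q ∈ Fpf Y Ω) {k : Y} {s : Ω}
    (hk : k • s = s) (hc : k * q = q * k) : k = 1 := by
  apply h.sharp k s (q • s) (hq s).symm hk
  rw [← mul_smul, hc, mul_smul, hk]

/-- Frobenius count: at most `n - 1` fixed-point-free elements -/
theorem Sharp2.ncard_fpf_le (h : Sharp2 Y Ω) [Finite Y] [Finite Ω] [Nonempty Ω] :
    (Fpf Y Ω).ncard + 1 ≤ Nat.card Ω := by
  classical
  haveI := Fintype.ofFinite Y
  haveI := Fintype.ofFinite Ω
  haveI := h.pretransitive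
  haveI : Fintype (orbitRel.Quotient Y Ω) := Fintype.ofFinite _
  have hB := MulAction.sum_card_fixedBy_eq_card_orbits_mul_card_group Y Ω
  have horb : Fintype.card (orbitRel.Quotient Y Ω) = 1 := by
    rw [Fintype.card_eq_one_iff]
    obtain ⟨s⟩ := ‹Nonempty Ω›
    refine ⟨Quotient.mk'' s, ?_⟩
    intro y
    induction y using Quotient.inductionOn' with
    | h t =>
      apply Quotient.sound'
      exact MulAction.exists_smul_eq Y s t
  rw [horb, one_mul] at hB
  have hn1 : 1 ≤ Fintype.card Ω := Fintype.card_pos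
  have hbound : ∀ g : Y, Fintype.card (fixedBy Ω g) ≤
      (if g = 1 then Fintype.card Ω - 1 else 0) + (if g ∈ Fpf Y Ω then 0 else 1) := by
    intro g
    by_cases hg1 : g = 1
    · subst hg1
      have h1 : (1 : Y) ∉ Fpf Y Ω := by
        intro h1
        obtain ⟨s⟩ := ‹Nonempty Ω›
        exact h1 s (one_smul _ _)
      rw [if_pos rfl, if_neg h1]
      have : Fintype.card (fixedBy Ω (1 : Y)) ≤ Fintype.card Ω := Fintype.card_subtype_le _
      omega
    · rw [if_neg hg1, zero_add]
      by_cases hgF : g ∈ Fpf Y Ω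
      · rw [if_pos hgF]
        apply le_of_eq
        rw [Fintype.card_eq_zero_iff]
        exact ⟨fun x => hgF x.1 x.2⟩
      · rw [if_neg hgF]
        rw [Fintype.card_le_one_iff_subsingleton]
        constructor
        intro a b
        by_contra hab
        apply hg1
        apply h.sharp g a.1 b.1 (fun e => hab (Subtype.ext e)) a.2 b.2
  have hsum := Finset.sum_le_sum (fun g (_ : g ∈ (Finset.univ : Finset Y)) => hbound g)
  rw [hB, Finset.sum_add_distrib, Finset.sum_ite_eq' Finset.univ (1 : Y)] at hsum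
  simp only [Finset.mem_univ, if_true] at hsum
  have hcnt : (∑ g : Y, if g ∈ Fpf Y Ω then 0 else 1) + (Fpf Y Ω).ncard = Fintype.card Y := by
    rw [Set.ncard_eq_toFinset_card' (Fpf Y Ω)]
    have h1 : (∑ g : Y, if g ∈ Fpf Y Ω then 0 else 1) =
        (Finset.univ.filter (fun g : Y => g ∉ Fpf Y Ω)).card := by
      rw [Finset.card_filter]
      apply Finset.sum_congr rfl
      intro g _
      by_cases hg : g ∈ Fpf Y Ω <;> simp [hg]
    rw [h1]
    have h2 : (Fpf Y Ω).toFinset = Finset.univ.filter (fun g : Y => g ∈ Fpf Y Ω) := by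
      ext g
      simp
    rw [h2, add_comm]
    exact Finset.card_filter_add_card_filter_not _
  rw [Nat.card_eq_fintype_card]
  omega

/-- the point stabilizer permutes the fixed-point-free elements transitively by conjugation -/
theorem Sharp2.conj_trans (h : Sharp2 Y Ω) [Finite Y] [Finite Ω] (s : Ω) {q x : Y}
    (hq : q ∈ Fpf Y Ω) (hx : x ∈ Fpf Y Ω) : ∃ k : Y, k • s = s ∧ k * q * k⁻¹ = x := by
  haveI : Nonempty Ω := ⟨s⟩
  have hinj : Function.Injective
      (fun k : stabilizer Y s => (⟨(k : Y) * q * (k : Y)⁻¹, fpf_conj hq k⟩ : Fpf Y Ω)) := by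
    intro k k' hkk
    have h1 : (k : Y) * q * (k : Y)⁻¹ = (k' : Y) * q * (k' : Y)⁻¹ := congrArg Subtype.val hkk
    have hk : (k : Y) • s = s := k.2
    have hk' : (k' : Y) • s = s := k'.2
    have h2 : (k' : Y)⁻¹ * (k : Y) = 1 := by
      apply h.free hq (s := s)
      · rw [mul_smul, hk, inv_smul_eq_iff, hk']
      · have := congrArg (fun z => (k' : Y)⁻¹ * z * (k : Y)) h1
        simp only [mul_assoc, inv_mul_cancel, mul_one, inv_mul_cancel_left] at this
        rw [mul_assoc]
        exact this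
    rw [inv_mul_eq_one] at h2
    exact (Subtype.ext h2).symm
  have hcard : Nat.card (Fpf Y Ω) ≤ Nat.card (stabilizer Y s) := by
    have h1 := h.ncard_fpf_le
    have h2 := h.card_stabilizer s (q • s) (hq s)
    rw [_root_.Nat.card_coe_set_eq]
    omega
  obtain ⟨k, hk⟩ := (hinj.bijective_of_nat_card_le hcard).2 ⟨x, hx⟩
  exact ⟨k, k.2, congrArg Subtype.val hk⟩

/-- a sharply 2-transitive group of degree 9 with non-cyclic point stabilizers is `3² : Q₈`. -/
theorem sylow_of_sharp2_nine [Finite Y] [Finite Ω] (h : Sharp2 Y Ω) (hΩ : Nat.card Ω = 9)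
    (hnc : ∀ s : Ω, ¬ IsCyclic (stabilizer Y s)) :
    (∀ Q : Sylow 3 Y, (Q : Subgroup Y).Normal ∧ Nat.card (Q : Subgroup Y) = 9 ∧
      ∀ x ∈ (Q : Subgroup Y), x ^ 3 = 1) ∧
    ∀ P : Sylow 2 Y, Nonempty ((P : Subgroup Y) ≃* QuaternionGroup 2) := by
  have hY : Nat.card Y = 72 := by
    rw [h.card_group (by omega), hΩ]
  haveI : Nonempty Ω := (Nat.card_pos_iff.mp (by omega)).1
  obtain ⟨s⟩ := ‹Nonempty Ω›
  have hQcard : ∀ Q : Sylow 3 Y, Nat.card (Q : Subgroup Y) = 9 := by
    intro Q
    rw [Q.card_eq_multiplicity, hY, show (72 : ℕ) = 3 ^ 2 * 8 by norm_num,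
      Nat.factorization_mul (by norm_num) (by norm_num), Finsupp.add_apply,
      Nat.prime_three.factorization_pow, Finsupp.single_eq_same,
      Nat.factorization_eq_zero_of_not_dvd (by norm_num)]
    norm_num
  have hPcard : ∀ P : Sylow 2 Y, Nat.card (P : Subgroup Y) = 8 := by
    intro P
    rw [P.card_eq_multiplicity, hY, show (72 : ℕ) = 2 ^ 3 * 9 by norm_num,
      Nat.factorization_mul (by norm_num) (by norm_num), Finsupp.add_apply,
      Nat.prime_two.factorization_pow, Finsupp.single_eq_same,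
      Nat.factorization_eq_zero_of_not_dvd (by norm_num)]
    norm_num
  -- nontrivial 3-elements are fixed-point-free
  have hQF : ∀ Q : Sylow 3 Y, ∀ g ∈ (Q : Subgroup Y), g ≠ 1 → g ∈ Fpf Y Ω := by
    intro Q g hg hg1 a ha
    have hp : IsPGroup 3 (Subgroup.zpowers g) := Q.2.to_le (Subgroup.zpowers_le.mpr hg)
    have hfix : a ∈ fixedPoints (Subgroup.zpowers g) Ω := by
      rintro ⟨k, hk⟩
      obtain ⟨i, rfl⟩ := Subgroup.mem_zpowers_iff.mp hk
      show (g ^ i) • a = a
      exact MulAction.fixedBy_subset_fixedBy_zpow Ω g i ha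
    obtain ⟨b, hb, hab⟩ := hp.exists_fixed_point_of_prime_dvd_card_of_fixed_point Ω
      (by rw [hΩ]; norm_num) hfix
    have hgb : g • b = b := hb ⟨g, Subgroup.mem_zpowers g⟩
    exact hg1 (h.sharp g a b hab ha hgb)
  have hF : (Fpf Y Ω).ncard ≤ 8 := by
    have := h.ncard_fpf_le
    omega
  have hQeq : ∀ Q : Sylow 3 Y, ((Q : Subgroup Y) : Set Y) \ {1} = Fpf Y Ω := by
    intro Q
    apply Set.eq_of_subset_of_ncard_le
    · rintro g ⟨hg, hg1⟩
      exact hQF Q g hg hg1
    · have h2 : (((Q : Subgroup Y) : Set Y)).ncard = 9 := by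
        rw [← _root_.Nat.card_coe_set_eq]
        exact hQcard Q
      rw [Set.ncard_diff_singleton_of_mem (Subgroup.one_mem _), h2]
      exact hF
    · exact Set.toFinite _
  haveI hsub : Subsingleton (Sylow 3 Y) := by
    constructor
    intro Q Q'
    apply Sylow.ext
    apply SetLike.ext
    intro x
    by_cases hx1 : x = 1
    · subst hx1
      exact ⟨fun _ => Subgroup.one_mem _, fun _ => Subgroup.one_mem _⟩
    · have e1 : x ∈ (Q : Subgroup Y) ↔ x ∈ ((Q : Subgroup Y) : Set Y) \ {1} :=
        ⟨fun hx => ⟨hx, hx1⟩, fun hx => hx.1⟩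
      have e2 : x ∈ (Q' : Subgroup Y) ↔ x ∈ ((Q' : Subgroup Y) : Set Y) \ {1} :=
        ⟨fun hx => ⟨hx, hx1⟩, fun hx => hx.1⟩
      rw [e1, e2, hQeq Q, hQeq Q']
  have hnormal : ∀ Q : Sylow 3 Y, (Q : Subgroup Y).Normal := fun Q => Q.normal_of_subsingleton
  -- an element of order 3
  have hq0 : ∀ Q : Sylow 3 Y, ∃ q0 ∈ (Q : Subgroup Y), orderOf q0 = 3 := by
    intro Q
    obtain ⟨q0, hq0⟩ := exists_prime_orderOf_dvd_card' (G := (Q : Subgroup Y)) 3
      (by rw [hQcard Q]; norm_num)
    exact ⟨q0, q0.2, by rw [Subgroup.orderOf_coe]; exact hq0⟩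
  have hexp : ∀ Q : Sylow 3 Y, ∀ x ∈ (Q : Subgroup Y), x ^ 3 = 1 := by
    intro Q x hx
    by_cases hx1 : x = 1
    · rw [hx1, one_pow]
    · obtain ⟨q0, hq0Q, hq03⟩ := hq0 Q
      have hq01 : q0 ≠ 1 := by
        intro h1
        rw [h1, orderOf_one] at hq03
        omega
      obtain ⟨k, -, hk⟩ := h.conj_trans s (hQF Q q0 hq0Q hq01) (hQF Q x hx hx1)
      rw [← hk, conj_pow, ← hq03, pow_orderOf_eq_one, mul_one, mul_inv_cancel]
  refine ⟨fun Q => ⟨hnormal Q, hQcard Q, hexp Q⟩, ?_⟩
  -- Sylow 2-subgroups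
  intro P
  obtain ⟨Q⟩ : Nonempty (Sylow 3 Y) := inferInstance
  have hQn := hnormal Q
  have hcomm : ∀ a ∈ (Q : Subgroup Y), ∀ b ∈ (Q : Subgroup Y), a * b = b * a := by
    intro a ha b hb
    have hc := IsPGroup.isMulCommutative_of_card_eq_prime_sq (p := 3) (G := (Q : Subgroup Y))
      (by rw [hQcard Q]; norm_num)
    have := hc.is_comm.comm ⟨a, ha⟩ ⟨b, hb⟩
    exact congrArg Subtype.val this
  -- involutions in a point stabilizer invert Q
  have hinv : ∀ (u : Ω) (t : Y), t • u = u → orderOf t = 2 → ∀ n ∈ (Q : Subgroup Y),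
      t * n * t⁻¹ = n⁻¹ := by
    intro u t htu ht n hn
    have ht2 : t * t = 1 := by
      rw [← pow_two, ← ht, pow_orderOf_eq_one]
    have hti : t⁻¹ = t := inv_eq_of_mul_eq_one_right ht2
    have hc : t * n * t⁻¹ ∈ (Q : Subgroup Y) := hQn.conj_mem n hn t
    rw [hti] at hc ⊢
    set c := t * n * t with hcdef
    have e1 : t * n = c * t := by
      rw [hcdef, mul_assoc (t * n), ht2, mul_one]
    have e2 : t * c = n * t := by
      rw [hcdef, ← mul_assoc, ← mul_assoc, ht2, one_mul]
    have hm : t * (n * c) = (n * c) * t := by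
      calc t * (n * c) = (t * n) * c := (mul_assoc _ _ _).symm
        _ = c * t * c := by rw [e1]
        _ = c * (t * c) := mul_assoc _ _ _
        _ = c * (n * t) := by rw [e2]
        _ = (c * n) * t := (mul_assoc _ _ _).symm
        _ = (n * c) * t := by rw [hcomm c hc n hn]
    have hm1 : n * c = 1 := by
      by_contra hne
      have hmF := hQF Q (n * c) (Subgroup.mul_mem _ hn hc) hne
      have := h.free hmF htu hm
      rw [this, orderOf_one] at ht
      omega
    exact eq_inv_of_mul_eq_one_right hm1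
  have huniq : ∀ (u : Ω) (t t' : Y), t • u = u → t' • u = u → orderOf t = 2 → orderOf t' = 2 →
      t = t' := by
    intro u t t' htu ht'u ht ht'
    obtain ⟨q0, hq0Q, hq03⟩ := hq0 Q
    have hq01 : q0 ≠ 1 := by
      intro h1
      rw [h1, orderOf_one] at hq03
      omega
    have h1 : t' * q0 = q0⁻¹ * t' := mul_inv_eq_iff_eq_mul.mp (hinv u t' ht'u ht' q0 hq0Q)
    have h2 : t * q0⁻¹ = q0 * t := by
      have := mul_inv_eq_iff_eq_mul.mp (hinv u t htu ht q0⁻¹ (Subgroup.inv_mem _ hq0Q))
      rwa [inv_inv] at this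
    have hcm : (t * t') * q0 = q0 * (t * t') := by
      calc (t * t') * q0 = t * (t' * q0) := mul_assoc _ _ _
        _ = t * (q0⁻¹ * t') := by rw [h1]
        _ = (t * q0⁻¹) * t' := (mul_assoc _ _ _).symm
        _ = q0 * t * t' := by rw [h2]
        _ = q0 * (t * t') := mul_assoc _ _ _
    have hfix : (t * t') • u = u := by rw [mul_smul, ht'u, htu]
    have h3 := h.free (hQF Q q0 hq0Q hq01) hfix hcm
    have ht'2 : t' * t' = 1 := by
      rw [← pow_two, ← ht', pow_orderOf_eq_one]
    calc t = t * (t' * t') := by rw [ht'2, mul_one]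
      _ = (t * t') * t' := (mul_assoc _ _ _).symm
      _ = t' := by rw [h3, one_mul]
  -- P fixes a point
  obtain ⟨u, hu⟩ := P.isPGroup'.nonempty_fixed_point_of_prime_not_dvd_card Ω
    (by rw [hΩ]; norm_num)
  have hPle : (P : Subgroup Y) ≤ stabilizer Y u := by
    intro g hg
    exact hu ⟨g, hg⟩
  have hstab : Nat.card (stabilizer Y u) = 8 := by
    obtain ⟨v, hv⟩ : ∃ v : Ω, v ≠ u := by
      by_contra hall
      push_neg at hall
      have : Nat.card Ω ≤ 1 := by
        rw [Finite.card_le_one_iff_subsingleton]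
        exact ⟨fun a b => (hall a).trans (hall b).symm⟩
      omega
    have := h.card_stabilizer u v hv
    omega
  have hPeq : (P : Subgroup Y) = stabilizer Y u :=
    Subgroup.eq_of_le_of_card_ge hPle (by rw [hstab, hPcard P])
  apply quaternion_of_card_eight (hPcard P)
  · intro hcyc
    apply hnc u
    exact isCyclic_of_surjective (MulEquiv.subgroupCongr hPeq) (MulEquiv.subgroupCongr hPeq).surjective
  · intro x y hx hy
    apply Subtype.ext
    apply huniq u (x : Y) (y : Y) (hPle x.2) (hPle y.2)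
    · rw [Subgroup.orderOf_coe]; exact hx
    · rw [Subgroup.orderOf_coe]; exact hy

end Cfsg.Agent.Helper95.Sharp2
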