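import Mathlib
import Cfsg.Agent.Lib.Helper30.BG144cDefs

/-!
# BG144c piece (B): `setupB` (helper30's lemma server for row S1376, B-G 14.4(c))

The partner `Nst` of `N`, `κ(M) = ∅`, `E = M ⊓ Nst` a complement of `M_σ` in `M`, `#K = p` prime,
`K` fixed-point-free on `M_σ`, and `C_E(x0) = 1`.
-/

set_option autoImplicit false
set_option linter.unusedVariables false

namespace Cfsg.Agent.Helper95.BG144c

open Cfsg Subgroup
open scoped Pointwise
open Cfsg.Agent.Helper30.BG144c

universe u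

variable {G : Type u} [Group G] [Finite G]

omit [Finite G] in
/-- Elements of `U ⊔ K` are products `u * k` when `K` normalizes `U`. -/
theorem exists_mul_of_mem_sup' {U K : Subgroup G} (h : K ≤ normalizer (U : Set G)) {e : G}
    (he : e ∈ U ⊔ K) : ∃ u ∈ U, ∃ k ∈ K, e = u * k := by
  have h1 : e ∈ ((U ⊔ K : Subgroup G) : Set G) := he
  rw [Subgroup.coe_mul_of_right_le_normalizer_left U K h] at h1
  obtain ⟨u, hu, k, hk, rfl⟩ := Set.mem_mul.mp h1
  exact ⟨u, hu, k, hk, rfl⟩

omit [Finite G] in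
/-- A subgroup of prime order is generated by each of its non-identity elements, so the centralizer
of such an element centralizes the subgroup. -/
theorem centralizer_singleton_le_of_prime_card [Finite G] {K : Subgroup G}
    (hK : (Nat.card K).Prime) {k : G}
    (hk : k ∈ K) (hk1 : k ≠ 1) : centralizer ({k} : Set G) ≤ centralizer (K : Set G) := by
  have hz : zpowers k = K := by
    apply Subgroup.eq_of_le_of_card_ge ((zpowers_le).mpr hk)
    have hd : Nat.card (zpowers k) ∣ Nat.card K := Subgroup.card_dvd_of_le ((zpowers_le).mpr hk)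
    rcases (Nat.dvd_prime hK).mp hd with h | h
    · exfalso
      apply hk1
      have := Subgroup.card_eq_one.mp h
      rwa [Subgroup.zpowers_eq_bot] at this
    · exact h.ge
  intro g hg
  rw [Subgroup.mem_centralizer_iff] at hg ⊢
  intro y hy
  have hy' : y ∈ zpowers k := by rw [hz]; exact hy
  obtain ⟨n, rfl⟩ := Subgroup.mem_zpowers_iff.mp hy'
  have hc : Commute k g := hg k rfl
  exact (hc.zpow_left n).eq

/-- **(B) setupB.** -/
theorem setupB (hG : IsMinSimpleOddOrder G) (r1350 : R1350 G) (r1353 : R1353 G) (r1366 : R1366 G)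
    (r1367 : R1367 G) (r1372 : R1372 G) (r1435 : R1435 G)
    {M N : Subgroup G} (hM : IsCoatom M) (hN : IsCoatom N) {x0 : G} {q : ℕ} {K U : Subgroup G}
    (A : SetupA M N x0 q K U) :
    ∃ (Nst : Subgroup G) (p : ℕ), SetupB M N Nst x0 K U p := by
  classical
  haveI : Fact q.Prime := ⟨A.hq⟩
  -- the partner
  obtain ⟨Nst, ⟨hNst, hKst, hKstH⟩, -⟩ := r1366 N hN K U A.hKU A.hK1
  -- the Sylow `q`-subgroup of `U`
  obtain ⟨Rq, hRqU, hRqp, hRqi, hqRq, hNRq⟩ := A.hNR
  have hRp' : IsPGroup q (Rq.subgroupOf U) := hRqp.comap_subtype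
  have hRi' : ¬ q ∣ (Rq.subgroupOf U).index := hRqi
  let R : Sylow q U := hRp'.toSylow hRi'
  have hRmap : ((R : Subgroup U).map U.subtype : Subgroup G) = Rq := by
    have : (R : Subgroup U) = Rq.subgroupOf U := IsPGroup.toSylow_coe hRp' hRi'
    rw [this, Subgroup.map_subgroupOf_eq_of_le hRqU]
  have hqU : q ∣ Nat.card U := hqRq.trans (Subgroup.card_dvd_of_le hRqU)
  obtain ⟨hκ, hUσ, hNM, -, hKF, hE⟩ := r1435 N hN K U A.hKU A.hK1 A.hU1 Nst hNst hKst hKstH q hqU R M hM
    (by rw [hRmap]; exact hNRq)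
  have hKE : K ≤ M ⊓ Nst := hKF.trans (Subgroup.map_subtype_le _)
  -- `#K` is prime
  obtain ⟨hKp, -, -⟩ := r1372 N hN K U A.hKU A.hK1 A.hU1
  -- `C_G(K) ≤ Nst`
  obtain ⟨-, h67⟩ := r1367 N hN K U A.hKU A.hK1 Nst hNst hKst hKstH
  obtain ⟨hCK, -⟩ := h67 K le_rfl hKp
  have hEσ : (M ⊓ Nst) ⊓ sigmaCore M = ⊥ := hE.2.2.1
  have hσM : sigmaCore M ≤ M := hE.2.1
  refine ⟨Nst, Nat.card K, hNst, hKst, hKstH, hκ, hE, hKE, hKp, rfl, ?_, ?_⟩
  · -- `K` is fixed-point-free on `M_σ`
    intro k hk hk1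
    rw [eq_bot_iff]
    intro y hy
    have hyC : y ∈ centralizer (K : Set G) :=
      centralizer_singleton_le_of_prime_card hKp hk hk1 hy.2
    have hmem : y ∈ (M ⊓ Nst) ⊓ sigmaCore M := ⟨⟨hσM hy.1, hCK hyC⟩, hy.1⟩
    rw [hEσ] at hmem
    exact hmem
  · -- `C_E(x0) = 1`
    intro e he hex
    have hx01 : x0 ≠ 1 := by
      intro h
      have := A.hx0o
      rw [h, orderOf_one] at this
      exact A.hq.one_lt.ne this
    have heN : e ∈ N := by
      apply A.hx0N
      rw [Subgroup.mem_centralizer_iff]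
      intro z hz
      rw [Set.mem_singleton_iff] at hz
      subst hz
      exact hex.symm
    have heUK : e ∈ U ⊔ K := by
      rw [← hNM]
      exact ⟨heN, he.1⟩
    obtain ⟨u, hu, k, hk, rfl⟩ := exists_mul_of_mem_sup' A.hKU.normal heUK
    have hu1 : u = 1 := by
      have hkE : k ∈ M ⊓ Nst := hKE hk
      have huE : u ∈ M ⊓ Nst := by
        have : u = u * k * k⁻¹ := by group
        rw [this]
        exact (M ⊓ Nst).mul_mem he ((M ⊓ Nst).inv_mem hkE)
      have hmem : u ∈ (M ⊓ Nst) ⊓ sigmaCore M := ⟨huE, hUσ hu⟩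
      rw [hEσ] at hmem
      exact hmem
    subst hu1
    rw [one_mul] at hex ⊢
    by_contra hk1
    have h53 := r1353 N hN K U A.hKU k hk hk1
    have hmem : x0 ∈ U ⊓ centralizer ({k} : Set G) := by
      refine ⟨A.hx0U, Subgroup.mem_centralizer_iff.mpr ?_⟩
      intro z hz
      rw [Set.mem_singleton_iff] at hz
      subst hz
      exact hex
    rw [h53] at hmem
    exact hx01 hmem

end Cfsg.Agent.Helper95.BG144c
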