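import Cfsg.Agent.Lib.Helper39.StbDefs

/-!
# STB server (helper39, S2327), piece (WA): `W_J` fixes the coordinates outside `J`
-/

set_option autoImplicit false
set_option linter.unusedSectionVars false

namespace Cfsg.Agent.Helper95.Stb

open Cfsg Cfsg.Agent.Helper6 Cfsg.Agent.Helper6.Weyl Cfsg.Agent.Helper59.Poincare Cfsg.Agent.Helper39.Stb Matrix

section Weyl

variable {n : ℕ} (D : VDatum n)
variable (J : Fin n → Prop) [DecidablePred J]

theorem coord_fixed_word (L : List (Fin n)) (hL : ∀ i ∈ L, J i) (v : Vec n) {j : Fin n}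
    (hj : ¬ J j) : (D.wpM L • v) j = v j := by
  induction L with
  | nil => simp
  | cons i L ih =>
    have hi : J i := hL i (by simp)
    have hji : j ≠ i := fun h => hj (h ▸ hi)
    rw [VDatum.wpM_cons, mul_smul, VDatum.s_smul, Datum.S, refl_mulVec_ne _ _ _ hji]
    exact ih (fun k hk => hL k (List.mem_cons_of_mem _ hk))

/-- (WA1) elements of `W_J` do not change the coordinates outside `J` -/
theorem coord_fixed {w : (Mat n)ˣ} (hw : w ∈ D.W J) (v : Vec n) {j : Fin n} (hj : ¬ J j) :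
    (w • v) j = v j := by
  obtain ⟨L, hL, rfl⟩ := D.exists_word J hw
  exact coord_fixed_word D J L hL v hj

/-- (WA2) `v ∈ W_J` maps `Φ⁺ \ Φ_J⁺` into itself -/
theorem smul_mem_sdiff {v : (Mat n)ˣ} (hv : v ∈ D.W J) {β : Vec n}
    (hβ : β ∈ D.posJ VDatum.allJ \ D.posJ J) : v • β ∈ D.posJ VDatum.allJ \ D.posJ J := by
  rw [Finset.mem_sdiff] at hβ ⊢
  obtain ⟨h1, h2⟩ := hβ
  have h1' := (VDatum.mem_posJ D VDatum.allJ).1 h1
  -- a coordinate outside `J`
  have hex : ∃ j, ¬ J j ∧ 0 < β j := by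
    by_contra hcon
    apply h2
    rw [VDatum.mem_posJ]
    refine ⟨h1'.1, fun j hj => ?_⟩
    have h3 := (D.valid.nonneg β h1'.1).1 j
    by_contra h4
    exact hcon ⟨j, hj, lt_of_le_of_ne h3 (Ne.symm h4)⟩
  obtain ⟨j, hj, hpos⟩ := hex
  have hc : (v • β) j = β j := coord_fixed D J hv β hj
  have hvf : v ∈ D.Wf := D.W_mono VDatum.allJ J (fun _ _ => trivial) hv
  constructor
  · rcases isRoot_cases D VDatum.allJ hvf h1 with h | h
    · exact h
    · exfalso
      have h5 := (VDatum.mem_posJ D VDatum.allJ).1 h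
      have h6 := (D.valid.nonneg _ h5.1).1 j
      simp only [Pi.neg_apply] at h6
      omega
  · intro h
    have h5 := (VDatum.mem_posJ D J).1 h
    have := h5.2 j hj
    omega

/-- (WA3) on `W_J` the two length functions agree -/
theorem nJ_allJ_eq_of_mem {w : (Mat n)ˣ} (hw : w ∈ D.W J) :
    D.nJ VDatum.allJ w = D.nJ J w := by
  have hsub : D.posJ J ⊆ D.posJ VDatum.allJ := by
    intro β hβ
    rw [VDatum.mem_posJ] at hβ ⊢
    exact ⟨hβ.1, fun j hj => absurd trivial hj⟩
  unfold VDatum.nJ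
  rw [← Finset.sum_sdiff hsub]
  have h0 : (∑ β ∈ D.posJ VDatum.allJ \ D.posJ J,
      if -(w • β) ∈ D.posJ VDatum.allJ then 1 else 0) = 0 := by
    apply Finset.sum_eq_zero
    intro β hβ
    have h1 := smul_mem_sdiff D J hw hβ
    rw [Finset.mem_sdiff] at h1
    rw [if_neg (D.neg_not_mem_posJ VDatum.allJ h1.1)]
  rw [h0, zero_add]
  apply Finset.sum_congr rfl
  intro β hβ
  rcases D.isRoot_smul J hw (Or.inl hβ) with h | h
  · rw [if_neg (D.neg_not_mem_posJ VDatum.allJ (hsub h)), if_neg (D.neg_not_mem_posJ J h)]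
  · rw [if_pos (hsub h), if_pos h]

end Weyl

end Cfsg.Agent.Helper95.Stb
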