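import Cfsg.Agent.Lib.Helper39.StbDefs

/-!
# STB server (helper39, S2327), piece (WL): properties of a longest element
-/

set_option autoImplicit false
set_option linter.unusedSectionVars false

namespace Cfsg.Agent.Helper95.Stb

open Cfsg Cfsg.Agent.Helper6 Cfsg.Agent.Helper6.Weyl Cfsg.Agent.Helper59.Poincare Cfsg.Agent.Helper39.Stb Matrix

section Weyl

variable {n : ℕ} (D : VDatum n)
variable (J : Fin n → Prop) [DecidablePred J]

/-- (WL1) a longest element makes every positive root negative -/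
theorem longest_neg {u : (Mat n)ˣ} (hu : u ∈ D.Wf) (h : IsLongest D u) {β : Vec n}
    (hβ : β ∈ D.posJ VDatum.allJ) : -(u • β) ∈ D.posJ VDatum.allJ := by
  have hβ0 := (VDatum.mem_posJ D VDatum.allJ).1 hβ
  rcases isRoot_cases D VDatum.allJ hu hβ with h1 | h1
  · exfalso
    have hnp : ∀ m, (u • β) m ≤ 0 := by
      intro m
      rw [smul_apply]
      apply Finset.sum_nonpos
      intro j _
      have h2 := (VDatum.mem_posJ D VDatum.allJ).1 (h j)
      have h3 := (D.valid.nonneg _ h2.1).1 m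
      simp only [Pi.neg_apply] at h3
      have h4 := (D.valid.nonneg _ hβ0.1).1 j
      exact mul_nonpos_of_nonneg_of_nonpos h4 (by omega)
    have h5 := (VDatum.mem_posJ D VDatum.allJ).1 h1
    obtain ⟨h6, h7⟩ := D.valid.nonneg _ h5.1
    apply h7
    funext m
    have := h6 m
    have := hnp m
    simp only [Pi.zero_apply]
    omega
  · exact h1

/-- (WL2) its length is the number of positive roots -/
theorem nJ_longest {u : (Mat n)ˣ} (hu : u ∈ D.Wf) (h : IsLongest D u) :
    D.nJ VDatum.allJ u = (D.posJ VDatum.allJ).card := by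
  unfold VDatum.nJ
  rw [Finset.card_eq_sum_ones]
  apply Finset.sum_congr rfl
  intro β hβ
  rw [if_pos (longest_neg D hu h hβ)]

/-- the inverse of a longest element makes every positive root negative -/
theorem longest_inv_neg {u : (Mat n)ˣ} (hu : u ∈ D.Wf) (h : IsLongest D u) {γ : Vec n}
    (hγ : γ ∈ D.posJ VDatum.allJ) : -(u⁻¹ • γ) ∈ D.posJ VDatum.allJ := by
  have hui : u⁻¹ ∈ D.Wf := (D.Wf).inv_mem hu
  rcases isRoot_cases D VDatum.allJ hui hγ with h1 | h1
  · exfalso
    have h2 := longest_neg D hu h h1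
    rw [smul_inv_smul] at h2
    exact D.neg_not_mem_posJ VDatum.allJ hγ h2
  · exact h1

/-- (WL3) uniqueness -/
theorem longest_unique {u u' : (Mat n)ˣ} (hu : u ∈ D.Wf) (hu' : u' ∈ D.Wf)
    (h : IsLongest D u) (h' : IsLongest D u') : u = u' := by
  have hg : u'⁻¹ * u ∈ D.Wf := (D.Wf).mul_mem ((D.Wf).inv_mem hu') hu
  have h0 : D.nJ VDatum.allJ (u'⁻¹ * u) = 0 := by
    unfold VDatum.nJ
    apply Finset.sum_eq_zero
    intro β hβ
    have h1 := longest_neg D hu h hβ
    have h2 := longest_inv_neg D hu' h' h1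
    have h3 : (u'⁻¹ * u) • β = -(u'⁻¹ • (-(u • β))) := by
      rw [mul_smul, VDatum.smul_neg', neg_neg]
    rw [← h3] at h2
    rw [if_neg (D.neg_not_mem_posJ VDatum.allJ h2)]
  have h1 := D.eq_one_of_nJ_eq_zero VDatum.allJ hg h0
  exact (inv_mul_eq_one.mp h1).symm

end Weyl

end Cfsg.Agent.Helper95.Stb
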