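import Mathlib
import Cfsg.Agent.Lib.Helper40.StVal.Defs

/-!
# STV server (helper40, S2425), piece (K): Hessenberg permutations

`hessenberg_sum`: the signed sum over the permutations `κ` of `Fin n` with `κ i ≤ i + 1`.
Proof: for such `κ` the set `dimSet (i ↦ 1 + i - κ i)` is `{j + 1 : κ j ≤ j}` (the interval `[0,j]` is
`κ`-invariant iff `κ j ≤ j`), and both sides satisfy the same recursion (`Equiv.Perm.decomposeFin`).
-/

set_option autoImplicit false

namespace Cfsg.Agent.Helper95.STV

open Cfsg Cfsg.Agent.Helper40.Par Cfsg.Agent.Helper40.StVal Polynomial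

/-- the Hessenberg condition -/
def Hess {n : ℕ} (κ : Equiv.Perm (Fin n)) : Prop := ∀ i : Fin n, (κ i).val ≤ 1 + i.val

instance instDecidableHess {n : ℕ} (κ : Equiv.Perm (Fin n)) : Decidable (Hess κ) := by
  unfold Hess; infer_instance

/-- the block ends, shifted by one -/
def Dset {n : ℕ} (κ : Equiv.Perm (Fin n)) : Finset ℕ :=
  (Finset.univ.filter (fun j : Fin n => (κ j).val ≤ j.val)).image (fun j => j.val + 1)

theorem pS_of_le {n : ℕ} (κ : Equiv.Perm (Fin n)) (hκ : Hess κ) (j : Fin n)
    (hj : (κ j).val ≤ j.val) :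
    pS (fun i : Fin n => 1 + i.val - (κ i).val) (j.val + 1) = j.val + 1 := by
  set μ : Fin n → ℕ := fun i => 1 + i.val - (κ i).val with hμ
  have h1 : pS μ (j.val + 1) = ∑ k ∈ Finset.Iic j, μ k := by
    unfold pS
    rw [← Finset.sum_filter]
    apply Finset.sum_congr
    · ext k
      simp only [Finset.mem_filter, Finset.mem_univ, true_and, Finset.mem_Iic, Fin.le_def]
      omega
    · intros; rfl
  have h2 : (Finset.Iic j).image κ = Finset.Iic j := by
    apply Finset.eq_of_subset_of_card_le
    · intro m hm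
      rw [Finset.mem_image] at hm
      obtain ⟨k, hk, rfl⟩ := hm
      rw [Finset.mem_Iic] at hk ⊢
      rw [Fin.le_def] at hk ⊢
      rcases Nat.lt_or_ge k.val j.val with h | h
      · have := hκ k
        omega
      · have hkj : k = j := Fin.ext (by omega)
        rw [hkj]; exact hj
    · rw [Finset.card_image_of_injective _ κ.injective]
  have h3 : ∑ k ∈ Finset.Iic j, ((κ k).val) = ∑ k ∈ Finset.Iic j, k.val := by
    conv_rhs => rw [← h2]
    rw [Finset.sum_image (fun a _ b _ h => κ.injective h)]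
  have h4 : ∑ k ∈ Finset.Iic j, (μ k + (κ k).val) = ∑ k ∈ Finset.Iic j, (1 + k.val) := by
    apply Finset.sum_congr rfl
    intro k _
    have := hκ k
    simp only [hμ]; omega
  rw [Finset.sum_add_distrib, Finset.sum_add_distrib, h3] at h4
  have h5 : ∑ k ∈ Finset.Iic j, μ k = ∑ _k ∈ Finset.Iic j, 1 := Nat.add_right_cancel h4
  rw [h1, h5, Finset.sum_const, smul_eq_mul, mul_one, Fin.card_Iic]

theorem dimSet_eq_Dset {n : ℕ} (κ : Equiv.Perm (Fin n)) (hκ : Hess κ) :
    dimSet (fun i : Fin n => 1 + i.val - (κ i).val) = Dset κ := by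
  set μ : Fin n → ℕ := fun i => 1 + i.val - (κ i).val with hμ
  have key : ∀ t : ℕ, t ≤ n →
      pS μ t = 0 ∨ ∃ e : Fin n, (κ e).val ≤ e.val ∧ pS μ t = e.val + 1 := by
    intro t
    induction t with
    | zero => intro _; left; exact pS_zero μ
    | succ t ih =>
      intro ht
      have hs := pS_succ μ ⟨t, by omega⟩
      simp only at hs
      by_cases hle : (κ ⟨t, by omega⟩).val ≤ t
      · right
        exact ⟨⟨t, by omega⟩, hle, pS_of_le κ hκ ⟨t, by omega⟩ hle⟩
      · have h0 : μ ⟨t, by omega⟩ = 0 := by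
          have := hκ ⟨t, by omega⟩
          simp only [hμ]
          simp only at this
          omega
        rw [hs, h0, add_zero]
        exact ih (by omega)
  unfold dimSet Dset
  ext m
  simp only [Finset.mem_erase, Finset.mem_image, Finset.mem_univ, true_and, Finset.mem_filter]
  constructor
  · rintro ⟨hm0, j, rfl⟩
    rcases key (j.val + 1) (by have := j.isLt; omega) with h | ⟨e, he, h⟩
    · exact absurd h hm0
    · exact ⟨e, he, h.symm⟩
  · rintro ⟨e, he, rfl⟩
    exact ⟨by omega, e, pS_of_le κ hκ e he⟩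


/-! ### the recursion on the permutation side -/

theorem val_dF_zero {n : ℕ} (σ : Equiv.Perm (Fin n)) (x : Fin n) :
    ((Equiv.Perm.decomposeFin.symm ((0 : Fin (n + 1)), σ)) x.succ).val = (σ x).val + 1 := by
  rw [Equiv.Perm.decomposeFin_symm_apply_succ, Equiv.swap_self]
  simp

theorem val_dF_one {n : ℕ} (h : 1 < n + 1) (σ : Equiv.Perm (Fin n)) (x : Fin n) :
    ((Equiv.Perm.decomposeFin.symm ((⟨1, h⟩ : Fin (n + 1)), σ)) x.succ).val =
      if (σ x).val = 0 then 0 else (σ x).val + 1 := by
  rw [Equiv.Perm.decomposeFin_symm_apply_succ, Equiv.swap_apply_def,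
    if_neg (Fin.succ_ne_zero _)]
  by_cases h0 : (σ x).val = 0
  · have : (σ x).succ = (⟨1, h⟩ : Fin (n + 1)) := Fin.ext (by simp [h0])
    rw [if_pos this, if_pos h0]
    rfl
  · have : (σ x).succ ≠ (⟨1, h⟩ : Fin (n + 1)) := by
      intro e
      apply h0
      have := congrArg Fin.val e
      simpa using this
    rw [if_neg this, if_neg h0]
    simp

theorem hess_dF_zero {n : ℕ} (σ : Equiv.Perm (Fin n)) :
    Hess (Equiv.Perm.decomposeFin.symm ((0 : Fin (n + 1)), σ)) ↔ Hess σ := by
  unfold Hess
  rw [Fin.forall_fin_succ]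
  simp only [Equiv.Perm.decomposeFin_symm_apply_zero, val_dF_zero, Fin.val_zero, Fin.val_succ]
  constructor
  · rintro ⟨_, h⟩ i
    have := h i
    omega
  · intro h
    exact ⟨by omega, fun i => by have := h i; omega⟩

theorem hess_dF_one {n : ℕ} (h1 : 1 < n + 1) (σ : Equiv.Perm (Fin n)) :
    Hess (Equiv.Perm.decomposeFin.symm ((⟨1, h1⟩ : Fin (n + 1)), σ)) ↔ Hess σ := by
  unfold Hess
  rw [Fin.forall_fin_succ]
  simp only [Equiv.Perm.decomposeFin_symm_apply_zero, val_dF_one, Fin.val_zero, Fin.val_succ]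
  constructor
  · rintro ⟨_, h⟩ i
    have := h i
    split_ifs at this with h0
    · omega
    · omega
  · intro h
    refine ⟨by omega, fun i => ?_⟩
    have := h i
    split_ifs with h0
    · omega
    · omega

theorem not_hess_dF {n : ℕ} (p : Fin (n + 1)) (hp : 2 ≤ p.val) (σ : Equiv.Perm (Fin n)) :
    ¬ Hess (Equiv.Perm.decomposeFin.symm (p, σ)) := by
  intro h
  have := h 0
  rw [Equiv.Perm.decomposeFin_symm_apply_zero] at this
  simp only [Fin.val_zero] at this
  omega

theorem Dset_dF_zero {n : ℕ} (σ : Equiv.Perm (Fin n)) :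
    Dset (Equiv.Perm.decomposeFin.symm ((0 : Fin (n + 1)), σ)) =
      insert 1 ((Dset σ).image (· + 1)) := by
  ext m
  simp only [Dset, Finset.mem_image, Finset.mem_filter, Finset.mem_univ, true_and,
    Finset.mem_insert]
  rw [Fin.exists_fin_succ]
  simp only [Equiv.Perm.decomposeFin_symm_apply_zero, val_dF_zero, Fin.val_zero, Fin.val_succ]
  constructor
  · rintro (⟨_, h⟩ | ⟨x, hx, h⟩)
    · left; omega
    · right
      exact ⟨x.val + 1, ⟨x, by omega, rfl⟩, h⟩
  · rintro (h | ⟨a, ⟨x, hx, rfl⟩, h⟩)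
    · left; exact ⟨le_refl _, by omega⟩
    · right
      exact ⟨x, by omega, h⟩

theorem Dset_dF_one {n : ℕ} (h1 : 1 < n + 1) (σ : Equiv.Perm (Fin n)) :
    Dset (Equiv.Perm.decomposeFin.symm ((⟨1, h1⟩ : Fin (n + 1)), σ)) =
      (Dset σ).image (· + 1) := by
  ext m
  simp only [Dset, Finset.mem_image, Finset.mem_filter, Finset.mem_univ, true_and]
  rw [Fin.exists_fin_succ]
  simp only [Equiv.Perm.decomposeFin_symm_apply_zero, val_dF_one, Fin.val_zero, Fin.val_succ]
  constructor
  · rintro (⟨h, _⟩ | ⟨x, hx, h⟩)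
    · omega
    · refine ⟨x.val + 1, ⟨x, ?_, rfl⟩, h⟩
      split_ifs at hx with h0
      · omega
      · omega
  · rintro ⟨a, ⟨x, hx, rfl⟩, h⟩
    right
    refine ⟨x, ?_, h⟩
    split_ifs with h0
    · omega
    · omega


/-- the permutation side -/
noncomputable def LL {R : Type*} [CommRing R] (n : ℕ) (Ψ : Finset ℕ → R) : R :=
  ∑ κ : Equiv.Perm (Fin n),
    if Hess κ then ((Equiv.Perm.sign κ : ℤ) : R) * Ψ (Dset κ) else 0

/-- the subset side -/
def RR {R : Type*} [CommRing R] (n : ℕ) (Ψ : Finset ℕ → R) : R :=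
  ∑ D ∈ (Finset.Icc 1 n).powerset.filter (fun D => n ∈ D), (-1 : R) ^ (n - D.card) * Ψ D

theorem LL_succ {R : Type*} [CommRing R] (n : ℕ) (hn : 1 ≤ n) (Ψ : Finset ℕ → R) :
    LL (n + 1) Ψ = LL n (fun D => Ψ (insert 1 (D.image (· + 1)))) -
      LL n (fun D => Ψ (D.image (· + 1))) := by
  have h1 : 1 < n + 1 := by omega
  unfold LL
  rw [← Equiv.sum_comp (Equiv.Perm.decomposeFin.symm), Fintype.sum_prod_type]
  rw [Fintype.sum_eq_add (0 : Fin (n + 1)) ⟨1, h1⟩ (by intro h; simp [Fin.ext_iff] at h)]
  · rw [sub_eq_add_neg, ← Finset.sum_neg_distrib]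
    congr 1
    · apply Finset.sum_congr rfl
      intro σ _
      by_cases hσ : Hess σ
      · rw [if_pos ((hess_dF_zero σ).mpr hσ), if_pos hσ, Dset_dF_zero,
          Equiv.Perm.decomposeFin.symm_sign]
        simp
      · rw [if_neg (fun h => hσ ((hess_dF_zero σ).mp h)), if_neg hσ]
    · apply Finset.sum_congr rfl
      intro σ _
      by_cases hσ : Hess σ
      · rw [if_pos ((hess_dF_one h1 σ).mpr hσ), if_pos hσ, Dset_dF_one,
          Equiv.Perm.decomposeFin.symm_sign]
        have : (⟨1, h1⟩ : Fin (n + 1)) ≠ 0 := by intro h; simp [Fin.ext_iff] at h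
        rw [if_neg this]
        simp
      · rw [if_neg (fun h => hσ ((hess_dF_one h1 σ).mp h)), if_neg hσ, neg_zero]
  · rintro p ⟨hp0, hp1⟩
    apply Finset.sum_eq_zero
    intro σ _
    have hp : 2 ≤ p.val := by
      have h0 : p.val ≠ 0 := fun h => hp0 (Fin.ext h)
      have h1' : p.val ≠ 1 := fun h => hp1 (Fin.ext h)
      omega
    rw [if_neg (not_hess_dF p hp σ)]


/-! ### the recursion on the subset side -/

theorem mem_PP {n : ℕ} {D : Finset ℕ} :
    D ∈ (Finset.Icc 1 n).powerset.filter (fun D => n ∈ D) ↔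
      (∀ a ∈ D, 1 ≤ a ∧ a ≤ n) ∧ n ∈ D := by
  rw [Finset.mem_filter, Finset.mem_powerset]
  constructor
  · rintro ⟨h1, h2⟩
    exact ⟨fun a ha => Finset.mem_Icc.mp (h1 ha), h2⟩
  · rintro ⟨h1, h2⟩
    exact ⟨fun a ha => Finset.mem_Icc.mpr (h1 a ha), h2⟩

theorem card_le_of_PP {n : ℕ} {D : Finset ℕ} (h : ∀ a ∈ D, 1 ≤ a ∧ a ≤ n) : D.card ≤ n := by
  have : D ⊆ Finset.Icc 1 n := fun a ha => Finset.mem_Icc.mpr (h a ha)
  have h2 := Finset.card_le_card this
  rw [Nat.card_Icc] at h2
  omega

theorem RR_succ {R : Type*} [CommRing R] (n : ℕ) (hn : 1 ≤ n) (Ψ : Finset ℕ → R) :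
    RR (n + 1) Ψ = RR n (fun D => Ψ (insert 1 (D.image (· + 1)))) -
      RR n (fun D => Ψ (D.image (· + 1))) := by
  unfold RR
  rw [← Finset.sum_filter_add_sum_filter_not _ (fun D => 1 ∈ D)]
  rw [sub_eq_add_neg, ← Finset.sum_neg_distrib]
  congr 1
  · symm
    apply Finset.sum_bij (fun D _ => insert 1 (D.image (· + 1)))
    · intro D hD
      rw [mem_PP] at hD
      rw [Finset.mem_filter, mem_PP]
      refine ⟨⟨?_, ?_⟩, Finset.mem_insert_self _ _⟩
      · intro a ha
        rw [Finset.mem_insert, Finset.mem_image] at ha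
        rcases ha with rfl | ⟨b, hb, rfl⟩
        · omega
        · have := hD.1 b hb
          omega
      · exact Finset.mem_insert_of_mem (Finset.mem_image_of_mem _ hD.2)
    · intro D₁ h₁ D₂ h₂ h
      rw [mem_PP] at h₁ h₂
      have aux : ∀ A B : Finset ℕ, (∀ a ∈ A, 1 ≤ a ∧ a ≤ n) →
          insert 1 (A.image (· + 1)) = insert 1 (B.image (· + 1)) → A ⊆ B := by
        intro A B hA hAB b hb
        have hb' : b + 1 ∈ insert 1 (A.image (· + 1)) :=
          Finset.mem_insert_of_mem (Finset.mem_image_of_mem _ hb)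
        rw [hAB, Finset.mem_insert, Finset.mem_image] at hb'
        rcases hb' with h0 | ⟨c, hc, hcb⟩
        · have := hA b hb
          omega
        · have : c = b := by omega
          rw [← this]; exact hc
      exact Finset.Subset.antisymm (aux D₁ D₂ h₁.1 h) (aux D₂ D₁ h₂.1 h.symm)
    · intro D hD
      rw [Finset.mem_filter, mem_PP] at hD
      obtain ⟨⟨hD1, hD2⟩, hD3⟩ := hD
      refine ⟨(D.erase 1).image (· - 1), ?_, ?_⟩
      · rw [mem_PP]
        constructor
        · intro a ha
          rw [Finset.mem_image] at ha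
          obtain ⟨c, hc, rfl⟩ := ha
          rw [Finset.mem_erase] at hc
          have := hD1 c hc.2
          have := hc.1
          omega
        · rw [Finset.mem_image]
          exact ⟨n + 1, Finset.mem_erase.mpr ⟨by omega, hD2⟩, by omega⟩
      · ext a
        rw [Finset.mem_insert, Finset.mem_image]
        constructor
        · rintro (rfl | ⟨b, hb, rfl⟩)
          · exact hD3
          · rw [Finset.mem_image] at hb
            obtain ⟨c, hc, rfl⟩ := hb
            rw [Finset.mem_erase] at hc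
            have h1 := hD1 c hc.2
            have h2 := hc.1
            have : c - 1 + 1 = c := by omega
            rw [this]; exact hc.2
        · intro ha
          by_cases h1 : a = 1
          · left; exact h1
          · right
            refine ⟨a - 1, Finset.mem_image.mpr ⟨a, Finset.mem_erase.mpr ⟨h1, ha⟩, rfl⟩, ?_⟩
            have := hD1 a ha
            omega
    · intro D hD
      rw [mem_PP] at hD
      have h1 : (1 : ℕ) ∉ D.image (· + 1) := by
        intro h
        rw [Finset.mem_image] at h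
        obtain ⟨b, hb, hb1⟩ := h
        have := hD.1 b hb
        omega
      rw [Finset.card_insert_of_notMem h1,
        Finset.card_image_of_injective _ (add_left_injective 1)]
      have : n + 1 - (D.card + 1) = n - D.card := by omega
      rw [this]
  · symm
    apply Finset.sum_bij (fun D _ => D.image (· + 1))
    · intro D hD
      rw [mem_PP] at hD
      rw [Finset.mem_filter, mem_PP]
      refine ⟨⟨?_, ?_⟩, ?_⟩
      · intro a ha
        rw [Finset.mem_image] at ha
        obtain ⟨b, hb, rfl⟩ := ha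
        have := hD.1 b hb
        omega
      · exact Finset.mem_image_of_mem _ hD.2
      · intro h
        rw [Finset.mem_image] at h
        obtain ⟨b, hb, hb1⟩ := h
        have := hD.1 b hb
        omega
    · intro D₁ _ D₂ _ h
      exact Finset.image_injective (add_left_injective 1) h
    · intro D hD
      rw [Finset.mem_filter, mem_PP] at hD
      obtain ⟨⟨hD1, hD2⟩, hD3⟩ := hD
      have hne : ∀ a ∈ D, a ≠ 1 := fun a ha h => hD3 (h ▸ ha)
      refine ⟨D.image (· - 1), ?_, ?_⟩
      · rw [mem_PP]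
        constructor
        · intro a ha
          rw [Finset.mem_image] at ha
          obtain ⟨c, hc, rfl⟩ := ha
          have := hD1 c hc
          have := hne c hc
          omega
        · rw [Finset.mem_image]
          exact ⟨n + 1, hD2, by omega⟩
      · ext a
        rw [Finset.mem_image]
        constructor
        · rintro ⟨b, hb, rfl⟩
          rw [Finset.mem_image] at hb
          obtain ⟨c, hc, rfl⟩ := hb
          have h1 := hD1 c hc
          have : c - 1 + 1 = c := by omega
          rw [this]; exact hc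
        · intro ha
          refine ⟨a - 1, Finset.mem_image.mpr ⟨a, ha, rfl⟩, ?_⟩
          have := hD1 a ha
          omega
    · intro D hD
      rw [mem_PP] at hD
      rw [Finset.card_image_of_injective _ (add_left_injective 1)]
      have hc := card_le_of_PP hD.1
      have : n + 1 - D.card = (n - D.card) + 1 := by omega
      rw [this, pow_succ]
      ring

theorem LL_eq_RR {R : Type*} [CommRing R] (n : ℕ) (hn : 1 ≤ n) :
    ∀ Ψ : Finset ℕ → R, LL n Ψ = RR n Ψ := by
  induction n, hn using Nat.le_induction with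
  | base =>
    intro Ψ
    unfold LL RR
    rw [Fintype.sum_eq_single (1 : Equiv.Perm (Fin 1))
      (fun κ hκ => absurd (Subsingleton.elim κ 1) hκ)]
    have hH : Hess (1 : Equiv.Perm (Fin 1)) := by
      intro i
      simp
    have hD : Dset (1 : Equiv.Perm (Fin 1)) = {1} := by
      unfold Dset
      decide
    have hP : (Finset.Icc 1 1).powerset.filter (fun D => 1 ∈ D) = {({1} : Finset ℕ)} := by
      decide
    rw [if_pos hH, hD, hP, Finset.sum_singleton, Finset.card_singleton]
    simp
  | succ n hn ih =>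
    intro Ψ
    rw [LL_succ n hn, RR_succ n hn, ih, ih]

/-- **(K) Hessenberg permutations.** -/
theorem hessenberg_sum {R : Type*} [CommRing R] (n : ℕ) (hn : 1 ≤ n) (Ψ : Finset ℕ → R) :
    (∑ κ : Equiv.Perm (Fin n), (if ∀ i : Fin n, (κ i).val ≤ 1 + i.val then
        ((Equiv.Perm.sign κ : ℤ) : R) * Ψ (dimSet (fun i : Fin n => 1 + i.val - (κ i).val)) else 0)) =
    ∑ D ∈ (Finset.Icc 1 n).powerset.filter (fun D => n ∈ D), (-1 : R) ^ (n - D.card) * Ψ D := by
  have h := LL_eq_RR (R := R) n hn Ψ
  unfold LL RR at h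
  rw [← h]
  apply Finset.sum_congr rfl
  intro κ _
  by_cases hκ : ∀ i : Fin n, (κ i).val ≤ 1 + i.val
  · rw [if_pos hκ, if_pos (show Hess κ from hκ), dimSet_eq_Dset κ hκ]
  · rw [if_neg hκ, if_neg (show ¬ Hess κ from hκ)]

end Cfsg.Agent.Helper95.STV
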