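import Mathlib

set_option autoImplicit false

/-!
The action of a subgroup on an invariant subset, and sharp multiple transitivity given in
`∃!` form (helper95).
-/

namespace Cfsg.Agent.Helper95

open MulAction

variable {G : Type*} [Group G] {α : Type*} [MulAction G α]

/-- the action of a subgroup `K` on a `K`-invariant set `Δ`. -/
def subAct (K : Subgroup G) (Δ : Set α) (h : ∀ g ∈ K, ∀ x ∈ Δ, g • x ∈ Δ) : SubMulAction K α where
  carrier := Δ
  smul_mem' := fun g x hx => h g.1 g.2 x hx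

theorem mem_subAct (K : Subgroup G) (Δ : Set α) (h : ∀ g ∈ K, ∀ x ∈ Δ, g • x ∈ Δ) (x : α) :
    x ∈ subAct K Δ h ↔ x ∈ Δ := Iff.rfl

theorem subAct_smul_coe (K : Subgroup G) (Δ : Set α) (h : ∀ g ∈ K, ∀ x ∈ Δ, g • x ∈ Δ) (g : K)
    (x : subAct K Δ h) : ((g • x : subAct K Δ h) : α) = (g : G) • (x : α) := rfl

/-- sharp `k`-transitivity in `∃!` form gives `k`-transitivity, trivial stabilizers of `k`-tuples
and faithfulness of the action on the invariant set. -/
theorem sharp_of_existsUnique (K : Subgroup G) (Δ : Set α) (h : ∀ g ∈ K, ∀ x ∈ Δ, g • x ∈ Δ)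
    (k : ℕ) (hne : Nonempty (Fin k ↪ subAct K Δ h))
    (hex : ∀ x y : Fin k ↪ α, (∀ i, x i ∈ Δ) → (∀ i, y i ∈ Δ) →
      ∃! g : K, ∀ i, (g : G) • x i = y i) :
    IsMultiplyPretransitive K (subAct K Δ h) k ∧
      (∀ x : Fin k ↪ subAct K Δ h, stabilizer K x = ⊥) ∧ FaithfulSMul K (subAct K Δ h) := by
  let ι : subAct K Δ h ↪ α := ⟨fun x => (x : α), Subtype.val_injective⟩
  have key : ∀ x y : Fin k ↪ subAct K Δ h, ∃! g : K, g • x = y := by
    intro x y
    obtain ⟨g, hg, hguniq⟩ := hex (x.trans ι) (y.trans ι) (fun i => (x i).2) (fun i => (y i).2)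
    refine ⟨g, ?_, ?_⟩
    · ext i
      exact hg i
    · intro g' hg'
      apply hguniq
      intro i
      have := congrArg (fun f : Fin k ↪ subAct K Δ h => ((f i : subAct K Δ h) : α)) hg'
      exact this
  refine ⟨⟨fun x y => (key x y).exists⟩, fun x => ?_, ⟨fun {g g'} hgg' => ?_⟩⟩
  · rw [eq_bot_iff]
    intro g hg
    rw [mem_stabilizer_iff] at hg
    rw [Subgroup.mem_bot]
    exact (key x x).unique hg (one_smul _ _)
  · obtain ⟨x⟩ := hne
    apply (key x (g • x)).unique rfl
    ext i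
    have := hgg' (x i)
    exact (congrArg (fun z : subAct K Δ h => (z : α)) this).symm

end Cfsg.Agent.Helper95
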