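import Mathlib
import Cfsg.Agent.S1017
import Cfsg.Agent.Lib.Helper17.Simple
import Cfsg.Agent.Lib.Helper17.SylowCount
import Cfsg.Agent.Lib.Helper17.PrimeTID
import Cfsg.Agent.Lib.Helper17.PrimeTIApp
import Cfsg.Agent.Lib.Helper78.CharSchur
import Cfsg.Agent.Lib.Helper79.CharBasic
import Cfsg.Agent.Lib.Helper79.Inflation
import Cfsg.Agent.Lib.Helper85.O4320BASE1
import Cfsg.Agent.Lib.Helper85.O4320BASE2
import Cfsg.Agent.Lib.Helper10.O4320B2d
import Cfsg.Agent.Lib.Helper7.O5760Defs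

set_option autoImplicit false

namespace Cfsg.Agent.Helper95.O5760

open Cfsg MulAction Cfsg.Agent.Helper7.O5760
open scoped ComplexConjugate

universe u v

open Cfsg.Agent.Helper17.PrimeTI in
/-- (A1) the exceptional-character data for `p = 5`, `e = 2`, `t = 2` -/
theorem ti_data {G : Type u} [Group G] [Fintype G] (R : Sylow 5 G)
    (hR : Nat.card (R : Subgroup G) = 5)
    (hN : Nat.card (Subgroup.normalizer ((R : Subgroup G) : Set G)) = 10)
    (hC : Nat.card (Subgroup.centralizer ((R : Subgroup G) : Set G)) = 5) :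
    ∃ (ε w : ℤ) (d x : ℕ) (X θ₁ θ₂ : IrrCharacter G),
      (ε = 1 ∨ ε = -1) ∧ (w = 1 ∨ w = -1) ∧ 1 + ε * (x : ℤ) + (d : ℤ) * w = 0 ∧
      charDegree (X : G → ℂ) = x ∧ charDegree (θ₁ : G → ℂ) = d ∧ charDegree (θ₂ : G → ℂ) = d ∧
      θ₁ ≠ θ₂ ∧ X ≠ θ₁ ∧ X ≠ θ₂ ∧
      ((X : G → ℂ) ≠ fun _ => 1) ∧ ((θ₁ : G → ℂ) ≠ fun _ => 1) ∧ ((θ₂ : G → ℂ) ≠ fun _ => 1) ∧
      (∀ k ∈ (R : Subgroup G), k ≠ 1 → (X : G → ℂ) k = (ε : ℂ)) ∧
      (∀ k ∈ (R : Subgroup G), k ≠ 1 → (θ₁ : G → ℂ) k + (θ₂ : G → ℂ) k = (w : ℂ)) ∧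
      (∀ ψ : IrrCharacter G, ((ψ : G → ℂ) ≠ fun _ => 1) → ψ ≠ X → ψ ≠ θ₁ → ψ ≠ θ₂ →
        ∀ k ∈ (R : Subgroup G), k ≠ 1 → (ψ : G → ℂ) k = 0) ∧
      (∀ y : G, (∀ g : G, g * y * g⁻¹ ∉ (R : Subgroup G)) → (θ₁ : G → ℂ) y = (θ₂ : G → ℂ) y) := by
  classical
  haveI : Fact (Nat.Prime 5) := ⟨by norm_num⟩
  set P : Subgroup G := (R : Subgroup G) with hPdef
  have hab : ∀ a ∈ P, ∀ b ∈ P, a * b = b * a := by
    intro a ha b hb
    have hcyc : IsCyclic P := isCyclic_of_prime_card hR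
    have := IsCyclic.commGroup.mul_comm (⟨a, ha⟩ : P) ⟨b, hb⟩
    exact congrArg Subtype.val this
  have hPC : P ≤ Subgroup.centralizer (P : Set G) := by
    intro a ha
    rw [Subgroup.mem_centralizer_iff]
    intro b hb
    exact hab b hb a ha
  have hCeq : Subgroup.centralizer (P : Set G) = P := by
    symm
    apply Subgroup.eq_of_le_of_card_ge hPC
    rw [hC, hR]
  obtain ⟨w, d, E, a, hEcard, hEdeg, hEne, haE, haK, hcong, hnorm, hdegeq, hsumE, hoff⟩ :=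
    prime_degree_equation_ext P 5 2 2 hR hCeq (by rw [hN]) le_rfl (by norm_num) le_rfl
  set ψ1 : IrrCharacter G := ⟨fun _ => 1, Cfsg.Agent.Helper81.isIrrCharacter_one⟩ with hψ1
  have hψ1E : ψ1 ∉ E := fun h => hEne ψ1 h rfl
  obtain ⟨k, hk, hk1⟩ := exists_ne_one_of_prime_card P hR
  have ha1 : a ψ1 = 1 := by
    have h := haK ψ1 hψ1E k hk hk1
    have h' : ((1 : ℤ) : ℂ) = ((a ψ1 : ℤ) : ℂ) := by
      rw [← h]; simp [hψ1]
    exact_mod_cast h'.symm
  have hdeg1 : charDegree (ψ1 : G → ℂ) = 1 := charDegree_one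
  have hsplit1 := Finset.add_sum_erase Finset.univ (fun ψ => (a ψ) ^ 2) (Finset.mem_univ ψ1)
  have hsplit2 := Finset.add_sum_erase Finset.univ
    (fun ψ => a ψ * (charDegree (ψ : G → ℂ) : ℤ)) (Finset.mem_univ ψ1)
  simp only [ha1, hdeg1] at hsplit1 hsplit2
  have hrest : 0 ≤ ∑ ψ ∈ Finset.univ.erase ψ1, (a ψ) ^ 2 :=
    Finset.sum_nonneg (fun i _ => sq_nonneg _)
  rw [← hsplit1] at hnorm
  rw [← hsplit2] at hdegeq
  push_cast at hnorm
  have hle1 : ∑ ψ ∈ Finset.univ.erase ψ1, (a ψ) ^ 2 ≤ 1 := by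
    by_contra hgt
    push Not at hgt
    have h2 : (2 : ℤ) ≤ ∑ ψ ∈ Finset.univ.erase ψ1, (a ψ) ^ 2 := hgt
    nlinarith [sq_nonneg w]
  have hcases : ∑ ψ ∈ Finset.univ.erase ψ1, (a ψ) ^ 2 = 0 ∨
      ∑ ψ ∈ Finset.univ.erase ψ1, (a ψ) ^ 2 = 1 := by omega
  rcases hcases with h0 | h1
  · exfalso
    rw [h0] at hnorm
    have hw3 : w ^ 2 = 3 := by linarith
    have hb : -2 < w ∧ w < 2 := by constructor <;> nlinarith
    obtain ⟨hb1, hb2⟩ := hb
    interval_cases w <;> omega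
  · obtain ⟨X, hX, haX, hrest0⟩ := peel (Finset.univ.erase ψ1) a 0 (by norm_num)
      (by rw [h1]; norm_num)
    have hXne : X ≠ ψ1 := (Finset.mem_erase.1 hX).1
    have hz := all_zero _ a (by exact_mod_cast hrest0)
    have hsplit3 := Finset.add_sum_erase (Finset.univ.erase ψ1)
      (fun ψ => a ψ * (charDegree (ψ : G → ℂ) : ℤ)) hX
    have hs0 : ∑ ψ ∈ (Finset.univ.erase ψ1).erase X, a ψ * (charDegree (ψ : G → ℂ) : ℤ) = 0 :=
      Finset.sum_eq_zero (fun ψ hψ => by rw [hz ψ hψ, zero_mul])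
    rw [hs0, add_zero] at hsplit3
    rw [← hsplit3] at hdegeq
    push_cast at hdegeq
    rw [h1] at hnorm
    have hw1 : w ^ 2 = 1 := by nlinarith
    have hw : w = 1 ∨ w = -1 := by
      have h : (w - 1) * (w + 1) = 0 := by ring_nf; linarith
      rcases mul_eq_zero.1 h with h | h
      · left; linarith
      · right; linarith
    have hXE : X ∉ E := by
      intro h
      have := haE X h
      rcases haX with h' | h' <;> rw [h'] at this <;> norm_num at this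
    obtain ⟨θ₁, θ₂, hθne, hEeq⟩ := Finset.card_eq_two.mp hEcard
    have hθ₁E : θ₁ ∈ E := by rw [hEeq]; exact Finset.mem_insert_self _ _
    have hθ₂E : θ₂ ∈ E := by rw [hEeq]; exact Finset.mem_insert_of_mem (Finset.mem_singleton_self _)
    refine ⟨a X, w, d, charDegree (X : G → ℂ), X, θ₁, θ₂, haX, hw, ?_, rfl, hEdeg θ₁ hθ₁E,
      hEdeg θ₂ hθ₂E, hθne, ?_, ?_, ?_, hEne θ₁ hθ₁E, hEne θ₂ hθ₂E, ?_, ?_, ?_, ?_⟩
    · linarith
    · intro h; exact hXE (h ▸ hθ₁E)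
    · intro h; exact hXE (h ▸ hθ₂E)
    · intro h
      apply hXne
      apply Subtype.ext
      exact h
    · intro k hk hk1
      exact haK X hXE k hk hk1
    · intro k hk hk1
      have := hsumE k hk hk1
      rw [hEeq, Finset.sum_pair hθne] at this
      exact this
    · intro ψ hψ1' hψX hψθ₁ hψθ₂ k hk hk1
      have hψE : ψ ∉ E := by
        rw [hEeq]
        intro h
        rcases Finset.mem_insert.mp h with h | h
        · exact hψθ₁ h
        · exact hψθ₂ (Finset.mem_singleton.mp h)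
      have hψne1 : ψ ≠ ψ1 := by
        intro h
        apply hψ1'
        rw [h]
      have hmem : ψ ∈ (Finset.univ.erase ψ1).erase X :=
        Finset.mem_erase.mpr ⟨hψX, Finset.mem_erase.mpr ⟨hψne1, Finset.mem_univ _⟩⟩
      rw [haK ψ hψE k hk hk1, hz ψ hmem]
      simp
    · intro y hy
      exact hoff θ₁ hθ₁E θ₂ hθ₂E y hy

end Cfsg.Agent.Helper95.O5760
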