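import Mathlib
import Cfsg.Agent.Lib.Helper32.C3Defs
import Cfsg.Agent.Lib.Helper9.C3M3Defs

set_option autoImplicit false

namespace Cfsg.Agent.Helper95.C3M3

open Cfsg.Agent.Helper32.C3 Cfsg.Agent.Helper9.C3M3

universe u v

/-- the word lemma in `S_4` -/
theorem h95_word_lemma : ∀ c τ : Equiv.Perm (Fin 4), c ^ 3 = 1 → c ≠ 1 → ¬ InV4 τ →
    (τ ^ 3 = 1 ∧ τ ≠ 1) ∨ ∃ k l : Fin 3,
      ((c ^ k.val * τ * (c ^ k.val)⁻¹) * (c ^ l.val * τ * (c ^ l.val)⁻¹)) ^ 3 = 1 ∧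
      (c ^ k.val * τ * (c ^ k.val)⁻¹) * (c ^ l.val * τ * (c ^ l.val)⁻¹) ≠ 1 := by
  decide +kernel

section Perm

variable {G : Type u} [Group G] [Finite G] (R : Subgroup G) (b : G)
  (π : G →* Equiv.Perm (Fin 4))

/-- (D) `π R ≤ V_4` -/
theorem pi_R_V4 [R.Normal] (hcop : (Nat.card ↥R).Coprime 3) (hb3 : b ^ 3 = 1) (hb1 : π b ≠ 1) :
    ∀ r ∈ R, InV4 (π r) := by
  have key : ∀ x ∈ R, (π x) ^ 3 = 1 → π x ≠ 1 → False := by
    intro x hx h3 h1
    haveI : Fact (Nat.Prime 3) := ⟨Nat.prime_three⟩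
    have ho : orderOf (π x) = 3 := orderOf_eq_prime h3 h1
    have hd1 : orderOf (π x) ∣ orderOf x := orderOf_map_dvd π x
    have hd2 : orderOf x ∣ Nat.card ↥R := Subgroup.orderOf_dvd_natCard R hx
    have hd : 3 ∣ Nat.card ↥R := by
      rw [← ho]
      exact hd1.trans hd2
    have := Nat.Coprime.eq_one_of_dvd hcop.symm hd
    omega
  intro r hr
  by_contra hV
  have hc3 : (π b) ^ 3 = 1 := by rw [← map_pow, hb3, map_one]
  rcases h95_word_lemma (π b) (π r) hc3 hb1 hV with ⟨h3, h1⟩ | ⟨k, l, h3, h1⟩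
  · exact key r hr h3 h1
  · have hmem : (b ^ k.val * r * (b ^ k.val)⁻¹) * (b ^ l.val * r * (b ^ l.val)⁻¹) ∈ R :=
      R.mul_mem (Subgroup.Normal.conj_mem inferInstance r hr _)
        (Subgroup.Normal.conj_mem inferInstance r hr _)
    have hπ : π ((b ^ k.val * r * (b ^ k.val)⁻¹) * (b ^ l.val * r * (b ^ l.val)⁻¹)) =
        ((π b) ^ k.val * π r * ((π b) ^ k.val)⁻¹) * ((π b) ^ l.val * π r * ((π b) ^ l.val)⁻¹) := by
      simp only [map_mul, map_inv, map_pow]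
    exact key _ hmem (by rw [hπ]; exact h3) (by rw [hπ]; exact h1)

end Perm

end Cfsg.Agent.Helper95.C3M3
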