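import Mathlib
import Cfsg.Agent.Lib.Helper30.BG144cCommon
import Cfsg.Agent.Lib.Helper25.BGHallConj
import Cfsg.Agent.Lib.Helper25.BGNat

/-!
# BG144c piece (D2): `sylow_le_sigmaCore_Nst` (helper30's lemma server for row S1376, B-G 14.4(c))

For `s ∈ τ₂(M)` with the data of `SetupD`: `s ∈ σ(Nst)` and `S ≤ (Nst)_σ`.
-/

set_option autoImplicit false
set_option linter.unusedVariables false

namespace Cfsg.Agent.Helper95.BG144c

open Cfsg Subgroup
open Cfsg.Agent.Helper30.BG144c
open Cfsg.Agent.Helper79.BG10 (cj mem_cj)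

universe u

variable {G : Type u} [Group G] [Finite G]

/-- **(D2) sylow_le_sigmaCore_Nst.** -/
theorem sylow_le_sigmaCore_Nst (hG : IsMinSimpleOddOrder G) (r1350 : R1350 G) (r1367 : R1367 G)
    (r1432 : R1432 G)
    {M N Nst : Subgroup G} (hM : IsCoatom M) (hN : IsCoatom N) {x0 : G} {q p : ℕ}
    {K U : Subgroup G}
    (A : SetupA M N x0 q K U) (B : SetupB M N Nst x0 K U p)
    (hcomm : ∀ a ∈ M ⊓ Nst, ∀ b ∈ M ⊓ Nst, a * b = b * a)
    {s : ℕ} {A' S : Subgroup G} {a : G} (D : SetupD M Nst s A' S a) :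
    s ∈ sigma Nst ∧ S ≤ sigmaCore Nst := by
  classical
  have hNst := B.hNst
  have hKσ : K ≤ sigmaCore Nst := le_of_eq_of_le B.hKst inf_le_left
  obtain ⟨k, hk, hk1⟩ := B.exists_k
  have haE : a ∈ M ⊓ Nst := D.hAE D.haA
  have hkE : k ∈ M ⊓ Nst := B.hKE hk
  have horder : orderOf a = s := by
    haveI := Fact.mk D.hs
    exact orderOf_eq_prime (D.hA.2 a D.haA) D.ha1
  have hsσ : s ∈ sigma Nst := by
    by_contra hsσ
    have hak : a ∈ Nst ⊓ centralizer ({k} : Set G) := by
      refine ⟨haE.2, Subgroup.mem_centralizer_iff.mpr ?_⟩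
      intro z hz
      rw [Set.mem_singleton_iff] at hz
      subst hz
      exact hcomm z hkE a haE
    have hprime : ∀ p' : ℕ, p'.Prime → p' ∣ orderOf a → p' = s := by
      intro p' hp' hd
      rw [horder] at hd
      exact (Nat.prime_dvd_prime_iff_eq hp' D.hs).mp hd
    rcases r1432 Nst hNst k (hKσ hk) hk1 a hak D.ha1
      (fun p' hp' hd => by rw [hprime p' hp' hd]; exact hsσ) with ⟨hκs, -⟩ | ⟨-, -, hCa, -⟩
    · -- `s ∈ κ(Nst)`: `a` is `Nst`-conjugate into `Kst`
      have hsκ : s ∈ kappa Nst := hκs s D.hs (by rw [horder])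
      obtain ⟨h, hhNst, hconj⟩ :=
        Cfsg.Agent.Helper25.BGHallConj.exists_conj_mem_of_isPiHallOf B.hKstH
          (Cfsg.Agent.Helper34.BG.solvable_of_ne_top hG hNst.1) a haE.2
          (fun q' hq' hd => by rw [hprime q' hq' hd]; exact hsκ)
      have hX : zpowers (h * a * h⁻¹) ≤ sigmaCore N ⊓ centralizer (K : Set G) :=
        (zpowers_le).mpr hconj
      have hXp : (Nat.card (zpowers (h * a * h⁻¹))).Prime := by
        rw [Nat.card_zpowers]
        have : orderOf (h * a * h⁻¹) = orderOf a := by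
          have := orderOf_injective (MulAut.conj h).toMonoidHom (MulAut.conj h).injective a
          simpa using this
        rw [this, horder]
        exact D.hs
      obtain ⟨h67a, -⟩ := r1367 N hN K U A.hKU A.hK1 Nst hNst B.hKst B.hKstH
      obtain ⟨-, huniq⟩ := h67a _ hX hXp
      have hle : centralizer ((zpowers (h * a * h⁻¹) : Subgroup G) : Set G) ≤ cj h M := by
        intro g hg
        rw [mem_cj]
        apply D.haM
        have hc : (h * a * h⁻¹) * g = g * (h * a * h⁻¹) :=
          Subgroup.mem_centralizer_iff.mp hg _ (mem_zpowers _)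
        refine Subgroup.mem_centralizer_iff.mpr ?_
        intro z hz
        rw [Set.mem_singleton_iff] at hz
        subst hz
        calc z * (h⁻¹ * g * h) = h⁻¹ * ((h * z * h⁻¹) * g) * h := by group
          _ = h⁻¹ * (g * (h * z * h⁻¹)) * h := by rw [hc]
          _ = h⁻¹ * g * h * z := by group
      have heq : cj h M = N := huniq (cj h M) (Cfsg.Agent.Helper25.BGNat.isCoatom_cj hM) hle
      exact A.hnc h heq.symm
    · -- `C_G(a)` lies in `Nst` only
      have hNM : Nst = M := D.hauniq Nst hNst hCa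
      have hkσ : k ∈ sigmaCore M := by
        have := hKσ hk
        rwa [hNM] at this
      exact hk1 (B.mem_E_sigmaCore hkE hkσ)
  exact ⟨hsσ, Cfsg.Agent.Helper55.BGB.le_sigmaCore_of_isPGroup D.hs (r1350 Nst hNst).1 hsσ
    (D.hSE.trans inf_le_right) D.hSp⟩

end Cfsg.Agent.Helper95.BG144c
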