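import Mathlib
import Cfsg.Agent.Lib.Helper32.C3Defs
import Cfsg.Agent.Lib.Helper9.C3M3Defs

set_option autoImplicit false

namespace Cfsg.Agent.Helper95.C3M3

open Cfsg.Agent.Helper32.C3 Cfsg.Agent.Helper9.C3M3

universe u v

/-- every even permutation of `Fin 4` is a `V_4`-element times a power of any 3-cycle -/
theorem h95_even_decomp : ∀ c σ : Equiv.Perm (Fin 4), c ^ 3 = 1 → c ≠ 1 → Equiv.Perm.sign σ = 1 →
    ∃ k : Fin 3, InV4 (σ * (c ^ k.val)⁻¹) := by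
  decide +kernel

section Perm

variable {G : Type u} [Group G] [Finite G] (R : Subgroup G) (b : G)
  (π : G →* Equiv.Perm (Fin 4))

/-- (A4) every even permutation is `π g` -/
theorem pi_even (hsurj : ∀ σ : Equiv.Perm (Fin 4), InV4 σ → ∃ r ∈ R, π r = σ) (hb3 : b ^ 3 = 1)
    (hb1 : π b ≠ 1) : ∀ σ : Equiv.Perm (Fin 4), Equiv.Perm.sign σ = 1 → ∃ g : G, π g = σ := by
  intro σ hσ
  have hc3 : (π b) ^ 3 = 1 := by rw [← map_pow, hb3, map_one]
  obtain ⟨k, hk⟩ := h95_even_decomp (π b) σ hc3 hb1 hσ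
  obtain ⟨r, _, hr⟩ := hsurj _ hk
  refine ⟨r * b ^ k.val, ?_⟩
  rw [map_mul, map_pow, hr, inv_mul_cancel_right]

end Perm

end Cfsg.Agent.Helper95.C3M3
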