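import Mathlib
import Cfsg.Agent.Lib.Helper32.C3Defs
import Cfsg.Agent.Lib.Helper9.C3M3Defs

set_option autoImplicit false

namespace Cfsg.Agent.Helper95.C3M3

open Cfsg.Agent.Helper32.C3 Cfsg.Agent.Helper9.C3M3

universe u v

section Mono

variable {G : Type u} [Group G] [Finite G] {V : Type v} [AddCommGroup V] [Module (ZMod 3) V]
  [Finite V] (ρ : Representation (ZMod 3) G V) (R Q : Subgroup G) (b : G)
  (e : Module.Basis (Fin 4) (ZMod 3) V) (π : G →* Equiv.Perm (Fin 4))
  (s : G → Fin 4 → (ZMod 3)ˣ)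

/-- (E) determinant one on `R` -/
theorem sign_prod (hsm : ∀ g h i, s (g * h) i = s h i * s g (π h i))
    (hcomm : ⁅R, Subgroup.zpowers b⁆ = R) : ∀ r ∈ R, ∏ i, s r i = 1 := by
  let χ : G →* (ZMod 3)ˣ := MonoidHom.mk' (fun g => ∏ i, s g i) (by
    intro g h
    change ∏ i, s (g * h) i = (∏ i, s g i) * ∏ i, s h i
    rw [Finset.prod_congr rfl (fun i _ => hsm g h i), Finset.prod_mul_distrib,
      Equiv.prod_comp (π h) (s g), mul_comm])
  have hker : ⁅R, Subgroup.zpowers b⁆ ≤ χ.ker := by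
    rw [Subgroup.commutator_le]
    intro g₁ _ g₂ _
    rw [MonoidHom.mem_ker, map_commutatorElement, commutatorElement_eq_one_iff_commute]
    exact Commute.all _ _
  intro r hr
  rw [← hcomm] at hr
  exact MonoidHom.mem_ker.mp (hker hr)

end Mono

end Cfsg.Agent.Helper95.C3M3
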