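import Mathlib
import Cfsg.Agent.Lib.Helper25.N5400Defs

/-!
# N5400 sub-server (helper25, order 5400 of helper17's O6232 server, S0983): piece (FIB) `card_meeting`
-/

set_option autoImplicit false

namespace Cfsg.Agent.Helper95.N5400

open Cfsg MulAction Cfsg.Agent.Helper25.N5400

universe u

section NoSimple

variable {G : Type u} [Group G] [Finite G]

/-- if two distinct Sylow 5-subgroups of order 25 meet nontrivially, the intersection has order 5. -/
theorem h95_card_inf_eq_five (hP25 : ∀ Q : Sylow 5 G, Nat.card (Q : Subgroup G) = 25) (P R : Sylow 5 G)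
    (hRP : R ≠ P) (hne : (P : Subgroup G) ⊓ (R : Subgroup G) ≠ ⊥) :
    Nat.card ↥((P : Subgroup G) ⊓ (R : Subgroup G)) = 5 := by
  have hdvd : Nat.card ↥((P : Subgroup G) ⊓ (R : Subgroup G)) ∣ 5 ^ 2 := by
    have h := Subgroup.card_dvd_of_le (inf_le_left : (P : Subgroup G) ⊓ (R : Subgroup G) ≤ (P : Subgroup G))
    rw [hP25 P] at h
    exact h
  have h1 : Nat.card ↥((P : Subgroup G) ⊓ (R : Subgroup G)) ≠ 1 := by
    intro h
    exact hne (Subgroup.card_eq_one.mp h)
  have h25 : Nat.card ↥((P : Subgroup G) ⊓ (R : Subgroup G)) ≠ 25 := by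
    intro h
    have hPeq : (P : Subgroup G) ⊓ (R : Subgroup G) = (P : Subgroup G) :=
      Subgroup.eq_of_le_of_card_ge inf_le_left (by rw [h, hP25 P])
    have hPR : (P : Subgroup G) ≤ (R : Subgroup G) := by rw [← hPeq]; exact inf_le_right
    have h2 : (P : Subgroup G) = (R : Subgroup G) :=
      Subgroup.eq_of_le_of_card_ge hPR (by rw [hP25 P, hP25 R])
    exact hRP (Sylow.ext h2).symm
  obtain ⟨m, hm, hcm⟩ := (Nat.dvd_prime_pow Nat.prime_five).1 hdvd
  interval_cases m
  · exact absurd hcm h1
  · simpa using hcm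
  · exact absurd hcm (by simpa using h25)

/-- (FIB) -/
theorem card_meeting (hP25 : ∀ Q : Sylow 5 G, Nat.card (Q : Subgroup G) = 25) (P : Sylow 5 G)
    (h6 : ∀ F : Subgroup G, Shared P F → Nat.card {Q : Sylow 5 G // F ≤ (Q : Subgroup G)} = 6) :
    Nat.card {R : Sylow 5 G // R ≠ P ∧ (P : Subgroup G) ⊓ (R : Subgroup G) ≠ ⊥} =
      5 * Nat.card {F : Subgroup G // Shared P F} := by
  classical
  haveI : Fintype (Sylow 5 G) := Fintype.ofFinite _
  haveI : Fintype (Subgroup G) := Fintype.ofFinite _
  rw [Nat.card_eq_fintype_card, Nat.card_eq_fintype_card, Fintype.card_subtype, Fintype.card_subtype]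
  rw [Finset.card_eq_sum_card_fiberwise
    (f := fun R : Sylow 5 G => (P : Subgroup G) ⊓ (R : Subgroup G))
    (t := Finset.univ.filter (Shared P))]
  · rw [Finset.sum_const_nat (m := 5)]
    · ring
    · intro F hF
      have hF' : Shared P F := by simpa using hF
      have hset : ((Finset.univ.filter
          (fun R : Sylow 5 G => R ≠ P ∧ (P : Subgroup G) ⊓ (R : Subgroup G) ≠ ⊥)).filter
            (fun R : Sylow 5 G => (P : Subgroup G) ⊓ (R : Subgroup G) = F)) =
          (Finset.univ.filter (fun Q : Sylow 5 G => F ≤ (Q : Subgroup G))).erase P := by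
        ext R
        simp only [Finset.mem_filter, Finset.mem_univ, true_and, Finset.mem_erase]
        constructor
        · rintro ⟨⟨hRP, _⟩, hE⟩
          exact ⟨hRP, hE ▸ inf_le_right⟩
        · rintro ⟨hRP, hFR⟩
          have hle : F ≤ (P : Subgroup G) ⊓ (R : Subgroup G) := le_inf hF'.1 hFR
          have hne : (P : Subgroup G) ⊓ (R : Subgroup G) ≠ ⊥ := by
            intro hbot
            rw [hbot, le_bot_iff] at hle
            have h5 := hF'.2.1
            rw [hle, Subgroup.card_bot] at h5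
            omega
          have h5 := h95_card_inf_eq_five hP25 P R hRP hne
          refine ⟨⟨hRP, hne⟩, ?_⟩
          exact (Subgroup.eq_of_le_of_card_ge hle (by rw [h5, hF'.2.1])).symm
      rw [hset, Finset.card_erase_of_mem (by simpa using hF'.1)]
      have h6' := h6 F hF'
      rw [Nat.card_eq_fintype_card, Fintype.card_subtype] at h6'
      rw [h6']
  · intro R hR
    have hR' : R ≠ P ∧ (P : Subgroup G) ⊓ (R : Subgroup G) ≠ ⊥ := by simpa using hR
    exact Finset.mem_coe.2 (Finset.mem_filter.2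
      ⟨Finset.mem_univ _, inf_le_left, h95_card_inf_eq_five hP25 P R hR'.1 hR'.2, R, hR'.1, inf_le_right⟩)

end NoSimple

end Cfsg.Agent.Helper95.N5400
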