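import Mathlib
import Cfsg.Agent.Lib.Helper17.Simple
import Cfsg.Agent.Lib.Helper17.InvolutionParity
import Cfsg.Agent.Lib.Helper87.SVKit

/-!
# O175560 server (helper24, S4274): piece (N35112) — no simple group of order `35112 = 2^3 * 3 * 7 * 11 * 19`

Elementary proof (no characters).  `n_19 = 77`, `|N(P19)| = 456`, `4 ∣ |C(P19)|`: pick `K ≤ C(P19)` of order `4`.
`|C(P7)|` is even: an involution `v` commuting with an element `z` of order `7`.
Thompson transfer: on `G ⧸ K` (`8778 ≡ 2 mod 4` points) the involution `v` has a fixed point, so a conjugate `u` of `v`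
lies in `K ≤ C(P19)`, and commutes with a conjugate `z'` of `z`.  On the `77` Sylow `19`-subgroups `f = |Fix u|` is
`≡ 77 mod 4`, `≡ 1 mod 19` (a generator of `P19` commutes with `u` and fixes only `P19`), `≡ 0 mod 7` (`z'` normalizes
no Sylow `19`-subgroup since `7 ∤ 456`), `f ≤ 77`: `f = 77`, so `u` lies in the normal core of `N(P19)`, `u = 1`.
-/

set_option autoImplicit false

namespace Cfsg.Agent.Helper95.O175560

open Cfsg MulAction

universe u

/-- the only admissible number of Sylow `19`-subgroups is `77` -/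
theorem h95_cert19 : ∀ d ∈ List.range (1848 + 1), d ∣ 1848 → d % 19 = 1 →
    ¬ Cfsg.Agent.Helper17.Sieve.Bad (19 ^ 1 * 1848) 19 1 1848 d → d = 77 := by
  decide +kernel

/-- two-level form of the certificate for `p = 7` (short lists, no large factorial is evaluated) -/
theorem h95_cert7_aux : ∀ i ∈ List.range 71, ∀ j ∈ List.range 71, (71 * i + j) ∣ 5016 → (71 * i + j) % 7 = 1 →
    (71 * i + j = 22 ∨ 71 * i + j = 57 ∨ 71 * i + j = 1254 ∨
      Cfsg.Agent.Helper17.Sieve.Bad (7 ^ 1 * 5016) 7 1 5016 (71 * i + j)) := by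
  decide +kernel

/-- the admissible numbers of Sylow `7`-subgroups are `22`, `57`, `1254` -/
theorem h95_cert7 : ∀ d ∈ List.range (5016 + 1), d ∣ 5016 → d % 7 = 1 →
    ¬ Cfsg.Agent.Helper17.Sieve.Bad (7 ^ 1 * 5016) 7 1 5016 d → d = 22 ∨ d = 57 ∨ d = 1254 := by
  intro d hd hdvd hmod hnb
  have hlt := List.mem_range.1 hd
  have h := h95_cert7_aux (d / 71) (List.mem_range.2 (by omega)) (d % 71)
    (List.mem_range.2 (Nat.mod_lt _ (by norm_num)))
  rw [Nat.div_add_mod] at h
  rcases h hdvd hmod with h | h | h | h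
  · exact Or.inl h
  · exact Or.inr (Or.inl h)
  · exact Or.inr (Or.inr h)
  · exact absurd h hnb

/-- an element of order `p` of a Sylow `p`-subgroup `P` of order `p` fixes only `P` among the Sylow `p`-subgroups. -/
theorem h95_fixed_of_gen {G : Type u} [Group G] [Finite G] {p : ℕ} [Fact p.Prime]
    (hP : ∀ Q : Sylow p G, Nat.card (Q : Subgroup G) = p) (P Q : Sylow p G) (y : G)
    (hyP : y ∈ (P : Subgroup G)) (hy : orderOf y = p) (hfix : y • Q = Q) : Q = P := by
  have hyN : y ∈ Subgroup.normalizer ((Q : Subgroup G) : Set G) := Sylow.smul_eq_iff_mem_normalizer.1 hfix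
  have hyQ : y ∈ (Q : Subgroup G) := by
    have h1 : y ∈ (P : Subgroup G) ⊓ Subgroup.normalizer ((Q : Subgroup G) : Set G) := ⟨hyP, hyN⟩
    have h3 : y ∈ (P : Subgroup G) ⊓ (Q : Subgroup G) := by
      rw [← IsPGroup.inf_normalizer_sylow P.2 Q]
      exact h1
    exact h3.2
  have hzP : Subgroup.zpowers y = (P : Subgroup G) :=
    Subgroup.eq_of_le_of_card_ge ((Subgroup.zpowers_le).2 hyP) (by rw [Nat.card_zpowers, hy, hP P])
  have hzQ : Subgroup.zpowers y = (Q : Subgroup G) :=
    Subgroup.eq_of_le_of_card_ge ((Subgroup.zpowers_le).2 hyQ) (by rw [Nat.card_zpowers, hy, hP Q])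
  exact Sylow.ext (hzQ.symm.trans hzP)

/-- (N35112) -/
theorem no_35112 {G : Type u} [Group G] [Finite G] [IsSimpleGroup G] : Nat.card G ≠ 35112 := by
  intro hG
  have hna : ¬ IsMulCommutative G :=
    Cfsg.Agent.Helper17.not_comm_of_not_prime (by rw [hG]; norm_num)
  have h2 : 2 < Nat.card G := by rw [hG]; norm_num
  haveI : Fact (Nat.Prime 19) := ⟨by norm_num⟩
  haveI : Fact (Nat.Prime 7) := ⟨by norm_num⟩
  haveI : Fact (Nat.Prime 2) := ⟨Nat.prime_two⟩
  -- Sylow data
  obtain ⟨hP19, hr19, hd19, hm19, hnb19, -, hC19⟩ :=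
    Cfsg.Agent.Helper87.SV.h87_data hna 19 1848 (by norm_num) (by rw [hG]; norm_num) (by norm_num)
  have hn19 : Nat.card (Sylow 19 G) = 77 := h95_cert19 _ hr19 hd19 hm19 hnb19
  obtain ⟨hP7, hr7, hd7, hm7, hnb7, -, hC7⟩ :=
    Cfsg.Agent.Helper87.SV.h87_data hna 7 5016 (by norm_num) (by rw [hG]; norm_num) (by norm_num)
  have hn7 := h95_cert7 _ hr7 hd7 hm7 hnb7
  obtain ⟨P⟩ : Nonempty (Sylow 19 G) := inferInstance
  obtain ⟨R⟩ : Nonempty (Sylow 7 G) := inferInstance
  set C := Subgroup.centralizer ((P : Subgroup G) : Set G) with hCdef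
  have hN19 : ∀ Q : Sylow 19 G, Nat.card ↥(Subgroup.normalizer ((Q : Subgroup G) : Set G)) = 456 := by
    intro Q
    rw [Cfsg.Agent.Helper87.SV.h87_card_normalizer Q, hG, hn19]
  -- `4 ∣ |C(P)|`
  have h4 : 2 ^ 2 ∣ Nat.card ↥C := by
    obtain ⟨e, he1, he2, he3⟩ := hC19 P
    rw [hn19] at he3
    have he18 : e ∣ 18 := by simpa using he1
    have hle : e ≤ 18 := Nat.le_of_dvd (by norm_num) he18
    generalize Nat.card ↥C = c at he3 ⊢
    interval_cases e <;> omega
  -- `2 ∣ |C(R)|`
  have h2C : 2 ∣ Nat.card ↥(Subgroup.centralizer ((R : Subgroup G) : Set G)) := by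
    obtain ⟨e, he1, he2, he3⟩ := hC7 R
    have he6 : e ∣ 6 := by simpa using he1
    have hle : e ≤ 6 := Nat.le_of_dvd (by norm_num) he6
    generalize Nat.card ↥(Subgroup.centralizer ((R : Subgroup G) : Set G)) = c at he3 ⊢
    rcases hn7 with h | h | h <;> rw [h] at he3 <;> interval_cases e <;> omega
  -- the subgroup `K` of order 4
  obtain ⟨K0, hK0⟩ := Sylow.exists_subgroup_card_pow_prime 2 h4
  let K : Subgroup G := K0.map C.subtype
  have hKcard : Nat.card K = 4 := by
    rw [Subgroup.card_map_of_injective C.subtype_injective, hK0]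
    norm_num
  have hKC : K ≤ C := Subgroup.map_subtype_le K0
  -- the involution `v` and the element `z` of order 7
  obtain ⟨v', hv'⟩ := exists_prime_orderOf_dvd_card'
    (G := ↥(Subgroup.centralizer ((R : Subgroup G) : Set G))) 2 h2C
  obtain ⟨z', hz'⟩ := exists_prime_orderOf_dvd_card' (G := ↥(R : Subgroup G)) 7 (by rw [hP7 R])
  have hv : orderOf (v' : G) = 2 := by rw [Subgroup.orderOf_coe]; exact hv'
  have hz : orderOf (z' : G) = 7 := by rw [Subgroup.orderOf_coe]; exact hz'
  have hzv : Commute (z' : G) (v' : G) := (Subgroup.mem_centralizer_iff.1 v'.2) (z' : G) z'.2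
  -- Thompson transfer: `v` fixes a coset of `K`
  have hidx : Nat.card (G ⧸ K) = 8778 := by
    have h := Subgroup.card_mul_index K
    rw [hKcard, hG, Subgroup.index_eq_card] at h
    omega
  have hfixK := Cfsg.Agent.Helper17.Parity.card_fixedBy_mod_four h2 (α := G ⧸ K) (v' : G) hv
  rw [hidx] at hfixK
  have hne : Nat.card (fixedBy (G ⧸ K) (v' : G)) ≠ 0 := by
    intro h0
    rw [h0] at hfixK
    exact absurd hfixK (by decide)
  obtain ⟨⟨q, hq⟩⟩ : Nonempty (fixedBy (G ⧸ K) (v' : G)) := by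
    by_contra hemp
    rw [not_nonempty_iff] at hemp
    exact hne Nat.card_of_isEmpty
  obtain ⟨g, rfl⟩ := QuotientGroup.mk_surjective q
  have hgK : g⁻¹ * (v' : G) * g ∈ K := by
    have h1 : ((v' : G) • (g : G ⧸ K)) = (g : G ⧸ K) := hq
    rw [MulAction.Quotient.smul_coe, QuotientGroup.eq, smul_eq_mul] at h1
    have h3 := K.inv_mem h1
    simpa [mul_assoc] using h3
  -- conjugate
  let c : G ≃* G := MulAut.conj g⁻¹
  have hcv : c (v' : G) = g⁻¹ * (v' : G) * g := by simp [c]
  set uu : G := c (v' : G) with huu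
  set zz : G := c (z' : G) with hzz
  have huK : uu ∈ K := by rw [hcv]; exact hgK
  have huo : orderOf uu = 2 := by rw [huu, MulEquiv.orderOf_eq]; exact hv
  have hzo : orderOf zz = 7 := by rw [hzz, MulEquiv.orderOf_eq]; exact hz
  have hzu : Commute zz uu := hzv.map c
  -- the generator `y` of `P`
  obtain ⟨y', hy'⟩ := exists_prime_orderOf_dvd_card' (G := ↥(P : Subgroup G)) 19 (by rw [hP19 P])
  have hy : orderOf (y' : G) = 19 := by rw [Subgroup.orderOf_coe]; exact hy'
  have hyu : Commute (y' : G) uu := (Subgroup.mem_centralizer_iff.1 (hKC huK)) (y' : G) y'.2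
  -- fixed points of `uu` on the Sylow 19-subgroups
  have hf4 := Cfsg.Agent.Helper17.Parity.card_fixedBy_mod_four h2 (α := Sylow 19 G) uu huo
  rw [hn19] at hf4
  have hf19 := Cfsg.Agent.Helper17.Parity.card_fixedBy_modEq_inter (α := Sylow 19 G) (y' : G) uu hyu hy
  have hf7 := Cfsg.Agent.Helper17.Parity.card_fixedBy_modEq_inter (α := Sylow 19 G) zz uu hzu hzo
  have hPN : ∀ x ∈ (P : Subgroup G), x • P = P := fun x hx =>
    Sylow.smul_eq_iff_mem_normalizer.2 (Subgroup.le_normalizer hx)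
  have huP : uu • P = P := by
    apply Sylow.smul_eq_iff_mem_normalizer.2
    exact Subgroup.centralizer_le_normalizer _ (hKC huK)
  have hone : fixedBy (Sylow 19 G) uu ∩ fixedBy (Sylow 19 G) (y' : G) = {P} := by
    rw [Set.eq_singleton_iff_unique_mem]
    refine ⟨⟨huP, hPN _ y'.2⟩, ?_⟩
    rintro Q ⟨-, hQy⟩
    exact h95_fixed_of_gen hP19 P Q (y' : G) y'.2 hy hQy
  have hzero : fixedBy (Sylow 19 G) uu ∩ fixedBy (Sylow 19 G) zz = ∅ := by
    rw [Set.eq_empty_iff_forall_notMem]
    rintro Q ⟨-, hQz⟩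
    have hzN : zz ∈ Subgroup.normalizer ((Q : Subgroup G) : Set G) :=
      Sylow.smul_eq_iff_mem_normalizer.1 hQz
    have hdvd := Subgroup.orderOf_dvd_natCard _ hzN
    rw [hzo, hN19 Q] at hdvd
    omega
  rw [hone] at hf19
  rw [hzero] at hf7
  have hc1 : Nat.card ↥({P} : Set (Sylow 19 G)) = 1 := by
    rw [Nat.card_coe_set_eq, Set.ncard_singleton]
  have hc0 : Nat.card ↥(∅ : Set (Sylow 19 G)) = 0 := by
    rw [Nat.card_coe_set_eq, Set.ncard_empty]
  rw [hc1] at hf19
  rw [hc0] at hf7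
  have hle : Nat.card (fixedBy (Sylow 19 G) uu) ≤ 77 := by
    rw [← hn19]
    exact Nat.card_le_card_of_injective _ Subtype.val_injective
  have hf77 : Nat.card (fixedBy (Sylow 19 G) uu) = 77 := by
    unfold Nat.ModEq at hf4 hf19 hf7
    omega
  -- `uu` fixes every Sylow 19-subgroup
  have hbij : Function.Bijective (Subtype.val : fixedBy (Sylow 19 G) uu → Sylow 19 G) :=
    Function.Injective.bijective_of_nat_card_le Subtype.val_injective (by rw [hf77, hn19])
  have hall : ∀ Q : Sylow 19 G, uu • Q = Q := by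
    intro Q
    obtain ⟨⟨Q', hQ'⟩, rfl⟩ := hbij.2 Q
    exact hQ'
  -- `uu` lies in the normal core of `N(P)`
  have hcore : uu ∈ (Subgroup.normalizer ((P : Subgroup G) : Set G)).normalCore := by
    show ∀ b : G, b * uu * b⁻¹ ∈ Subgroup.normalizer ((P : Subgroup G) : Set G)
    intro b
    apply Sylow.smul_eq_iff_mem_normalizer.1
    rw [mul_smul, mul_smul, hall (b⁻¹ • P), smul_inv_smul]
  rcases (Subgroup.normalCore_normal
      (Subgroup.normalizer ((P : Subgroup G) : Set G))).eq_bot_or_eq_top with h0 | h1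
  · rw [h0, Subgroup.mem_bot] at hcore
    rw [hcore, orderOf_one] at huo
    omega
  · have hle' : (⊤ : Subgroup G) ≤ Subgroup.normalizer ((P : Subgroup G) : Set G) :=
      h1 ▸ Subgroup.normalCore_le _
    have htop : Subgroup.normalizer ((P : Subgroup G) : Set G) = ⊤ := top_le_iff.mp hle'
    have h456 := hN19 P
    rw [htop, Subgroup.card_top, hG] at h456
    omega

end Cfsg.Agent.Helper95.O175560
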