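import Mathlib

/-!
# O2520 / S3C piece (Q1) `s3c_structure` (helper20 sub-server of helper55's O2520 server, row S0984)

`P` of order 9, exponent 3, self-centralising, `|N(P)| = 36`, no element of order 4 in `N(P)`:
there are generators `x, x'` of `P` and commuting involutions `a, b` of `N(P)` acting as
`a : (x, x') ↦ (x, x'⁻¹)`, `b : (x, x') ↦ (x⁻¹, x')`.
-/

set_option autoImplicit false

namespace Cfsg.Agent.Helper95.O2520

universe u

section aux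

variable {G : Type u} [Group G]

theorem h95q1_inv_of_sq {a : G} (ha : a ^ 2 = 1) : a⁻¹ = a := by
  rw [inv_eq_iff_mul_eq_one, ← pow_two, ha]

theorem h95q1_comm_of_sq {a b : G} (ha : a ^ 2 = 1) (hb : b ^ 2 = 1) (hab : (a * b) ^ 2 = 1) :
    a * b = b * a := by
  have h := h95q1_inv_of_sq hab
  rw [mul_inv_rev, h95q1_inv_of_sq ha, h95q1_inv_of_sq hb] at h
  exact h.symm

theorem h95q1_cc {a : G} (ha : a ^ 2 = 1) (z : G) : a * (a * z * a⁻¹) * a⁻¹ = z := by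
  have h : a * (a * z * a⁻¹) * a⁻¹ = (a * a) * z * (a * a)⁻¹ := by group
  have haa : a * a = 1 := by rw [← pow_two, ha]
  rw [h, haa, one_mul, inv_one, mul_one]

theorem h95q1_cswap {a b : G} (hab : a * b = b * a) (z : G) :
    a * (b * z * b⁻¹) * a⁻¹ = b * (a * z * a⁻¹) * b⁻¹ := by
  have h1 : a * (b * z * b⁻¹) * a⁻¹ = (a * b) * z * (a * b)⁻¹ := by group
  have h2 : b * (a * z * a⁻¹) * b⁻¹ = (b * a) * z * (b * a)⁻¹ := by group
  rw [h1, h2, hab]

theorem h95q1_cmul (a z w : G) : a * (z * w) * a⁻¹ = (a * z * a⁻¹) * (a * w * a⁻¹) := by group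

theorem h95q1_cinv (a z : G) : a * z⁻¹ * a⁻¹ = (a * z * a⁻¹)⁻¹ := by group

theorem h95q1_cprod (a b z : G) : a * b * z * (a * b)⁻¹ = a * (b * z * b⁻¹) * a⁻¹ := by group

/-- In a group of order 3 every element is `1`, `x` or `x⁻¹`. -/
theorem h95q1_card_three {H : Type*} [Group H] (hH : Nat.card H = 3) (x w : H) (hx1 : x ≠ 1) :
    w = 1 ∨ w = x ∨ w = x⁻¹ := by
  have : Fact (Nat.Prime 3) := ⟨Nat.prime_three⟩
  have hmem : w ∈ Subgroup.zpowers x := mem_zpowers_of_prime_card hH hx1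
  obtain ⟨k, hk⟩ := Subgroup.mem_zpowers_iff.1 hmem
  have hx3 : x ^ 3 = 1 := by
    have := pow_card_eq_one' (G := H) (x := x)
    rwa [hH] at this
  have hord : orderOf x = 3 := orderOf_eq_prime hx3 hx1
  have hk' : x ^ (k % 3) = w := by
    rw [← hk]
    have := zpow_mod_orderOf x k
    rw [hord] at this
    exact_mod_cast this
  have h0 : 0 ≤ k % 3 := Int.emod_nonneg _ (by norm_num)
  have h2 : k % 3 < 3 := Int.emod_lt_of_pos _ (by norm_num)
  obtain h | h | h : k % 3 = 0 ∨ k % 3 = 1 ∨ k % 3 = 2 := by omega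
  · left; rw [← hk', h, zpow_zero]
  · right; left; rw [← hk', h, zpow_one]
  · right; right
    rw [← hk', h]
    have h3 : x ^ (2 : ℤ) * x = 1 := by
      have : x ^ (2 : ℤ) * x = x ^ 3 := by
        rw [zpow_ofNat, pow_succ x 2]
      rw [this, hx3]
    exact eq_inv_of_mul_eq_one_left h3

theorem h95q1_mem_three (H : Subgroup G) (hH : Nat.card H = 3) {x w : G} (hx : x ∈ H)
    (hw : w ∈ H) (hx1 : x ≠ 1) : w = 1 ∨ w = x ∨ w = x⁻¹ := by
  have h := h95q1_card_three hH (⟨x, hx⟩ : H) ⟨w, hw⟩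
    (fun h => hx1 (by simpa using congrArg Subtype.val h))
  rcases h with h | h | h
  · left; simpa using congrArg Subtype.val h
  · right; left; simpa using congrArg Subtype.val h
  · right; right; simpa using congrArg Subtype.val h

theorem h95q1_card_eq_three [Finite G] (P K : Subgroup G) (hP : Nat.card P = 9) (hKP : K ≤ P)
    (hbot : ∃ x ∈ K, x ≠ 1) (hne : ∃ y ∈ P, y ∉ K) : Nat.card K = 3 := by
  have hdvd : Nat.card K ∣ 3 ^ 2 := by
    have := Subgroup.card_dvd_of_le hKP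
    rwa [hP] at this
  obtain ⟨k, hk, hkc⟩ := (Nat.dvd_prime_pow Nat.prime_three).1 hdvd
  interval_cases k
  · exfalso
    obtain ⟨x, hx, hx1⟩ := hbot
    have : K = ⊥ := Subgroup.card_eq_one.1 (by simpa using hkc)
    rw [this, Subgroup.mem_bot] at hx
    exact hx1 hx
  · simpa using hkc
  · exfalso
    obtain ⟨y, hy, hyK⟩ := hne
    have : K = P := Subgroup.eq_of_le_of_card_ge hKP (by rw [hP, hkc]; norm_num)
    exact hyK (this ▸ hy)

/-- elements of `P` fixed by `a` -/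
def h95q1_Pp (P : Subgroup G) (a : G) : Subgroup G where
  carrier := {w | w ∈ P ∧ a * w * a⁻¹ = w}
  mul_mem' := by
    rintro u v ⟨hu, hu'⟩ ⟨hv, hv'⟩
    exact ⟨P.mul_mem hu hv, by rw [h95q1_cmul, hu', hv']⟩
  one_mem' := ⟨P.one_mem, by simp⟩
  inv_mem' := by
    rintro u ⟨hu, hu'⟩
    exact ⟨P.inv_mem hu, by rw [h95q1_cinv, hu']⟩

/-- elements of the abelian group `P` inverted by `a` -/
def h95q1_Pm (P : Subgroup G) (hcomm : ∀ z ∈ P, ∀ w ∈ P, z * w = w * z) (a : G) : Subgroup G where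
  carrier := {w | w ∈ P ∧ a * w * a⁻¹ = w⁻¹}
  mul_mem' := by
    rintro u v ⟨hu, hu'⟩ ⟨hv, hv'⟩
    refine ⟨P.mul_mem hu hv, ?_⟩
    rw [h95q1_cmul, hu', hv', mul_inv_rev]
    exact hcomm _ (P.inv_mem hu) _ (P.inv_mem hv)
  one_mem' := ⟨P.one_mem, by simp⟩
  inv_mem' := by
    rintro u ⟨hu, hu'⟩
    exact ⟨P.inv_mem hu, by rw [h95q1_cinv, hu']⟩

theorem h95q1_two_tor (P : Subgroup G) (hexp : ∀ x ∈ P, x ^ 3 = 1) (w : G) (hw : w ∈ P)
    (h2 : w ^ 2 = 1) : w = 1 := by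
  have h3 := hexp w hw
  have : w ^ 3 = w ^ 2 * w := pow_succ w 2
  rw [h3, h2, one_mul] at this
  exact this.symm

theorem h95q1_notC (P : Subgroup G) (hexp : ∀ x ∈ P, x ^ 3 = 1)
    (hC : Subgroup.centralizer (P : Set G) = P) (t : G) (ht2 : t ^ 2 = 1)
    (hcen : ∀ z ∈ P, t * z * t⁻¹ = z) : t = 1 := by
  have : t ∈ Subgroup.centralizer (P : Set G) := by
    rw [Subgroup.mem_centralizer_iff]
    intro z hz
    have := hcen z hz
    rw [mul_inv_eq_iff_eq_mul] at this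
    exact this.symm
  rw [hC] at this
  exact h95q1_two_tor P hexp t this ht2

theorem h95q1_key [Finite G] (P : Subgroup G) (hP : Nat.card P = 9)
    (hexp : ∀ x ∈ P, x ^ 3 = 1) (hC : Subgroup.centralizer (P : Set G) = P)
    (a b : G) (haN : a ∈ Subgroup.normalizer (P : Set G))
    (hbN : b ∈ Subgroup.normalizer (P : Set G))
    (ha2 : a ^ 2 = 1) (hb2 : b ^ 2 = 1) (ha1 : a ≠ 1) (hb1 : b ≠ 1) (hne : a ≠ b)
    (hab : a * b = b * a) (hninv : ∃ z ∈ P, a * z * a⁻¹ ≠ z⁻¹) :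
    ∃ x x' a' b' : G, x ∈ P ∧ x' ∈ P ∧ x ≠ 1 ∧ x' ≠ 1 ∧
      a' ∈ Subgroup.normalizer (P : Set G) ∧ b' ∈ Subgroup.normalizer (P : Set G) ∧
      orderOf a' = 2 ∧ orderOf b' = 2 ∧ a' * b' = b' * a' ∧
      a' * x * a'⁻¹ = x ∧ a' * x' * a'⁻¹ = x'⁻¹ ∧ b' * x * b'⁻¹ = x⁻¹ ∧ b' * x' * b'⁻¹ = x' := by
  classical
  have : Fact (Nat.Prime 2) := ⟨Nat.prime_two⟩
  have hcomm : ∀ z ∈ P, ∀ w ∈ P, z * w = w * z := by
    intro z hz w hw
    have : w ∈ Subgroup.centralizer (P : Set G) := by rw [hC]; exact hw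
    exact Subgroup.mem_centralizer_iff.1 this z hz
  have hconj : ∀ t ∈ Subgroup.normalizer (P : Set G), ∀ z ∈ P, t * z * t⁻¹ ∈ P := by
    intro t ht z hz
    exact (Subgroup.mem_normalizer_iff.1 ht z).1 hz
  have h2tor := h95q1_two_tor P hexp
  have hnotC := h95q1_notC P hexp hC
  have hfi : ∀ w ∈ P, a * w * a⁻¹ = w → a * w * a⁻¹ = w⁻¹ → w = 1 := by
    intro w hw h1 h2
    apply h2tor w hw
    have h3 : w = w⁻¹ := h1.symm.trans h2
    rw [pow_two]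
    exact mul_eq_one_iff_eq_inv.2 h3
  -- the fixed vector x
  obtain ⟨z, hzP, hz⟩ := hninv
  obtain ⟨x, hx⟩ : ∃ x, x = z * (a * z * a⁻¹) := ⟨_, rfl⟩
  have hxP : x ∈ P := by rw [hx]; exact P.mul_mem hzP (hconj a haN z hzP)
  have hx1 : x ≠ 1 := by
    intro h
    apply hz
    rw [hx] at h
    exact eq_inv_of_mul_eq_one_right h
  have hax : a * x * a⁻¹ = x := by
    rw [hx, h95q1_cmul, h95q1_cc ha2]
    exact hcomm _ (hconj a haN z hzP) _ hzP
  -- the inverted vector x'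
  have hanc : ∃ z' ∈ P, a * z' * a⁻¹ ≠ z' := by
    by_contra hcon
    push Not at hcon
    exact ha1 (hnotC a ha2 hcon)
  obtain ⟨z', hz'P, hz'⟩ := hanc
  obtain ⟨x', hx'⟩ : ∃ x', x' = z' * (a * z' * a⁻¹)⁻¹ := ⟨_, rfl⟩
  have hx'P : x' ∈ P := by
    rw [hx']; exact P.mul_mem hz'P (P.inv_mem (hconj a haN z' hz'P))
  have hx'1 : x' ≠ 1 := by
    intro h
    apply hz'
    rw [hx'] at h
    exact (mul_inv_eq_one.1 h).symm
  have hax' : a * x' * a⁻¹ = x'⁻¹ := by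
    rw [hx', h95q1_cmul, h95q1_cinv a (a * z' * a⁻¹), h95q1_cc ha2 z', mul_inv_rev, inv_inv]
  -- the two eigenspaces have order 3
  have hcPp : Nat.card (h95q1_Pp P a) = 3 :=
    h95q1_card_eq_three P _ hP (fun w hw => hw.1) ⟨x, ⟨hxP, hax⟩, hx1⟩
      ⟨x', hx'P, fun h => hx'1 (hfi x' hx'P h.2 hax')⟩
  have hcPm : Nat.card (h95q1_Pm P hcomm a) = 3 :=
    h95q1_card_eq_three P _ hP (fun w hw => hw.1) ⟨x', ⟨hx'P, hax'⟩, hx'1⟩
      ⟨x, hxP, fun h => hx1 (hfi x hxP hax h.2)⟩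
  have hPp3 : ∀ w ∈ P, a * w * a⁻¹ = w → w = 1 ∨ w = x ∨ w = x⁻¹ := fun w hw h =>
    h95q1_mem_three _ hcPp (x := x) (w := w) ⟨hxP, hax⟩ ⟨hw, h⟩ hx1
  have hPm3 : ∀ w ∈ P, a * w * a⁻¹ = w⁻¹ → w = 1 ∨ w = x' ∨ w = x'⁻¹ := fun w hw h =>
    h95q1_mem_three _ hcPm (x := x') (w := w) ⟨hx'P, hax'⟩ ⟨hw, h⟩ hx'1
  -- anything fixing x and x' centralises P
  have hD : ∀ s : G, s * x * s⁻¹ = x → s * x' * s⁻¹ = x' → ∀ w ∈ P, s * w * s⁻¹ = w := by
    intro s hsx hsx' w hw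
    have hfixp : ∀ u ∈ P, a * u * a⁻¹ = u → s * u * s⁻¹ = u := by
      intro u hu h
      rcases hPp3 u hu h with h | h | h
      · rw [h]; simp
      · rw [h]; exact hsx
      · rw [h, h95q1_cinv, hsx]
    have hfixm : ∀ v ∈ P, a * v * a⁻¹ = v⁻¹ → s * v * s⁻¹ = v := by
      intro v hv h
      rcases hPm3 v hv h with h | h | h
      · rw [h]; simp
      · rw [h]; exact hsx'
      · rw [h, h95q1_cinv, hsx']
    obtain ⟨w2, hw2⟩ : ∃ w2, w2 = w ^ 2 := ⟨_, rfl⟩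
    have hw2P : w2 ∈ P := by rw [hw2]; exact P.pow_mem hw 2
    obtain ⟨y, hy⟩ : ∃ y, y = a * w2 * a⁻¹ := ⟨_, rfl⟩
    have hyP : y ∈ P := by rw [hy]; exact hconj a haN w2 hw2P
    have hay : a * y * a⁻¹ = w2 := by rw [hy, h95q1_cc ha2]
    have hc : y * w2 = w2 * y := hcomm y hyP w2 hw2P
    have hw4 : w2 * w2 = w := by
      rw [hw2, ← pow_add]
      calc w ^ (2 + 2) = w ^ 3 * w := pow_succ w 3
        _ = w := by rw [hexp w hw, one_mul]
    have hdec : (w2 * y) * (w2 * y⁻¹) = w := by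
      rw [← hw4, mul_assoc, ← mul_assoc y, hc, mul_assoc, mul_inv_cancel, mul_one]
    have hu : s * (w2 * y) * s⁻¹ = w2 * y := by
      apply hfixp _ (P.mul_mem hw2P hyP)
      rw [h95q1_cmul, hay, ← hy, hc]
    have hv : s * (w2 * y⁻¹) * s⁻¹ = w2 * y⁻¹ := by
      apply hfixm _ (P.mul_mem hw2P (P.inv_mem hyP))
      rw [h95q1_cmul, h95q1_cinv, hay, ← hy, mul_inv_rev, inv_inv]
    rw [← hdec, h95q1_cmul, hu, hv]
  -- the action of b
  have hbx : b * x * b⁻¹ = x ∨ b * x * b⁻¹ = x⁻¹ := by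
    have h1 : a * (b * x * b⁻¹) * a⁻¹ = b * x * b⁻¹ := by rw [h95q1_cswap hab, hax]
    rcases hPp3 _ (hconj b hbN x hxP) h1 with h | h | h
    · exact absurd (conj_eq_one_iff.1 h) hx1
    · exact Or.inl h
    · exact Or.inr h
  have hbx' : b * x' * b⁻¹ = x' ∨ b * x' * b⁻¹ = x'⁻¹ := by
    have h1 : a * (b * x' * b⁻¹) * a⁻¹ = (b * x' * b⁻¹)⁻¹ := by
      rw [h95q1_cswap hab, hax', h95q1_cinv]
    rcases hPm3 _ (hconj b hbN x' hx'P) h1 with h | h | h
    · exact absurd (conj_eq_one_iff.1 h) hx'1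
    · exact Or.inl h
    · exact Or.inr h
  have hoa : orderOf a = 2 := orderOf_eq_prime ha2 ha1
  have hob : orderOf b = 2 := orderOf_eq_prime hb2 hb1
  have hab2 : (a * b) ^ 2 = 1 := by
    rw [(show Commute a b from hab).mul_pow, ha2, hb2, one_mul]
  have hab1 : a * b ≠ 1 := by
    intro h
    apply hne
    rw [mul_eq_one_iff_eq_inv, h95q1_inv_of_sq hb2] at h
    exact h
  rcases hbx with h1 | h1 <;> rcases hbx' with h2 | h2
  · exact absurd (hnotC b hb2 (hD b h1 h2)) hb1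
  · exfalso
    apply hab1
    apply hnotC (a * b) hab2
    apply hD
    · rw [h95q1_cprod, h1, hax]
    · rw [h95q1_cprod, h2, h95q1_cinv, hax', inv_inv]
  · exact ⟨x, x', a, b, hxP, hx'P, hx1, hx'1, haN, hbN, hoa, hob, hab, hax, hax', h1, h2⟩
  · refine ⟨x, x', a, a * b, hxP, hx'P, hx1, hx'1, haN, mul_mem haN hbN, hoa,
      orderOf_eq_prime hab2 hab1, ?_, hax, hax', ?_, ?_⟩
    · rw [mul_assoc, hab]
    · rw [h95q1_cprod, h1, h95q1_cinv, hax]
    · rw [h95q1_cprod, h2, h95q1_cinv, hax', inv_inv]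

end aux

theorem s3c_structure {G : Type u} [Group G] [Finite G] (P : Subgroup G) (hP : Nat.card P = 9)
    (hexp : ∀ x ∈ P, x ^ 3 = 1) (hC : Subgroup.centralizer (P : Set G) = P)
    (hN : Nat.card (Subgroup.normalizer (P : Set G)) = 36)
    (h4 : ∀ u ∈ Subgroup.normalizer (P : Set G), orderOf u ≠ 4) :
    ∃ x x' a b : G, x ∈ P ∧ x' ∈ P ∧ x ≠ 1 ∧ x' ≠ 1 ∧
      a ∈ Subgroup.normalizer (P : Set G) ∧ b ∈ Subgroup.normalizer (P : Set G) ∧
      orderOf a = 2 ∧ orderOf b = 2 ∧ a * b = b * a ∧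
      a * x * a⁻¹ = x ∧ a * x' * a⁻¹ = x'⁻¹ ∧ b * x * b⁻¹ = x⁻¹ ∧ b * x' * b⁻¹ = x' := by
  classical
  have : Fact (Nat.Prime 2) := ⟨Nat.prime_two⟩
  obtain ⟨T0, hT0⟩ := Sylow.exists_subgroup_card_pow_prime
    (G := ↥(Subgroup.normalizer (P : Set G))) 2 (n := 2) (by rw [hN]; norm_num)
  obtain ⟨T, hTdef⟩ : ∃ T : Subgroup G,
      T = T0.map (Subgroup.normalizer (P : Set G)).subtype := ⟨_, rfl⟩
  have hTc : Nat.card T = 4 := by
    rw [hTdef, Subgroup.card_map_of_injective (Subgroup.subtype_injective _), hT0]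
    norm_num
  have hTN : T ≤ Subgroup.normalizer (P : Set G) := by
    rw [hTdef]; exact Subgroup.map_subtype_le T0
  have hsq : ∀ t ∈ T, t ^ 2 = 1 := by
    intro t ht
    have h1 : orderOf t ∣ 2 ^ 2 := by
      have := Subgroup.orderOf_dvd_natCard T ht
      rwa [hTc] at this
    obtain ⟨k, hk, hkc⟩ := (Nat.dvd_prime_pow Nat.prime_two).1 h1
    have h3 : orderOf t ≠ 4 := h4 t (hTN ht)
    have h5 : orderOf t ∣ 2 := by
      interval_cases k
      · rw [hkc]; norm_num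
      · rw [hkc]; norm_num
      · exfalso; apply h3; rw [hkc]; norm_num
    exact orderOf_dvd_iff_pow_eq_one.1 h5
  have hTb : T ≠ ⊥ := by
    intro h
    rw [h, Subgroup.card_bot] at hTc
    omega
  obtain ⟨a, haT, ha1⟩ : ∃ a ∈ T, a ≠ 1 := by
    by_contra hcon
    push Not at hcon
    exact hTb ((Subgroup.eq_bot_iff_forall T).2 hcon)
  have ha2 := hsq a haT
  have hoa : orderOf a = 2 := orderOf_eq_prime ha2 ha1
  obtain ⟨b, hbT, hbz⟩ : ∃ b ∈ T, b ∉ Subgroup.zpowers a := by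
    by_contra hcon
    push Not at hcon
    have hle : T ≤ Subgroup.zpowers a := hcon
    have hc := Subgroup.card_le_of_le hle
    rw [hTc, Nat.card_zpowers, hoa] at hc
    omega
  have hb1 : b ≠ 1 := fun h => hbz (h ▸ Subgroup.one_mem _)
  have hne : a ≠ b := fun h => hbz (h ▸ Subgroup.mem_zpowers a)
  have hb2 := hsq b hbT
  have hab2 : (a * b) ^ 2 = 1 := hsq _ (T.mul_mem haT hbT)
  have hab : a * b = b * a := h95q1_comm_of_sq ha2 hb2 hab2
  by_cases hA : ∃ z ∈ P, a * z * a⁻¹ ≠ z⁻¹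
  · exact h95q1_key P hP hexp hC a b (hTN haT) (hTN hbT) ha2 hb2 ha1 hb1 hne hab hA
  · by_cases hB : ∃ z ∈ P, b * z * b⁻¹ ≠ z⁻¹
    · exact h95q1_key P hP hexp hC b a (hTN hbT) (hTN haT) hb2 ha2 hb1 ha1 (Ne.symm hne)
        hab.symm hB
    · exfalso
      push Not at hA hB
      have h1 : a * b = 1 := by
        apply h95q1_notC P hexp hC (a * b) hab2
        intro z hz
        rw [h95q1_cprod, hB z hz, hA _ (P.inv_mem hz), inv_inv]
      apply hne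
      rw [mul_eq_one_iff_eq_inv, h95q1_inv_of_sq hb2] at h1
      exact h1

end Cfsg.Agent.Helper95.O2520
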