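import Mathlib
import Cfsg.Agent.S1017
import Cfsg.Agent.Lib.Helper17.Simple
import Cfsg.Agent.Lib.Helper17.SylowCount
import Cfsg.Agent.Lib.Helper17.PrimeTID
import Cfsg.Agent.Lib.Helper17.PrimeTIApp
import Cfsg.Agent.Lib.Helper78.CharSchur
import Cfsg.Agent.Lib.Helper79.CharBasic
import Cfsg.Agent.Lib.Helper79.Inflation
import Cfsg.Agent.Lib.Helper85.O4320BASE1
import Cfsg.Agent.Lib.Helper85.O4320BASE2
import Cfsg.Agent.Lib.Helper10.O4320B2d
import Cfsg.Agent.Lib.Helper7.O5760Defs

set_option autoImplicit false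

namespace Cfsg.Agent.Helper95.O5760

open Cfsg MulAction Cfsg.Agent.Helper7.O5760
open scoped ComplexConjugate

universe u v

/-- (A5) a central involution of a Sylow 2-subgroup -/
theorem exists_central_invol {G : Type u} [Group G] [Finite G] (hG : Nat.card G = 5760) :
    ∃ u : G, orderOf u = 2 ∧ 128 ∣ Nat.card (Subgroup.centralizer ({u} : Set G)) := by
  haveI : Fact (Nat.Prime 2) := ⟨Nat.prime_two⟩
  obtain ⟨S⟩ : Nonempty (Sylow 2 G) := inferInstance
  have hS : Nat.card (S : Subgroup G) = 2 ^ 7 :=
    Cfsg.Agent.S1017.sylow_card_eq S 7 45 (by rw [hG]; norm_num) (by decide)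
  have hp : IsPGroup 2 (S : Subgroup G) := S.isPGroup'
  haveI : Nontrivial (S : Subgroup G) := by
    rw [← Finite.one_lt_card_iff_nontrivial, hS]
    norm_num
  haveI hZ : Nontrivial (Subgroup.center (S : Subgroup G)) := hp.center_nontrivial
  have h2 : 2 ∣ Nat.card (Subgroup.center (S : Subgroup G)) := by
    have hpz : IsPGroup 2 (Subgroup.center (S : Subgroup G)) := hp.to_subgroup _
    obtain ⟨n, hn⟩ := hpz.exists_card_eq
    have hn0 : n ≠ 0 := by
      intro h0
      rw [h0, pow_zero] at hn
      have := Finite.one_lt_card_iff_nontrivial.mpr hZ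
      omega
    rw [hn]
    exact dvd_pow_self 2 hn0
  obtain ⟨z, hz⟩ := exists_prime_orderOf_dvd_card' 2 h2
  refine ⟨((z : (S : Subgroup G)) : G), ?_, ?_⟩
  · rw [Subgroup.orderOf_coe, Subgroup.orderOf_coe]
    exact hz
  · have hle : (S : Subgroup G) ≤ Subgroup.centralizer ({((z : (S : Subgroup G)) : G)} : Set G) := by
      intro s hs
      rw [Subgroup.mem_centralizer_iff]
      intro h hh
      rw [Set.mem_singleton_iff] at hh
      subst hh
      have hzc := z.2
      rw [Subgroup.mem_center_iff] at hzc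
      have := hzc ⟨s, hs⟩
      have h3 := congrArg (Subtype.val) this
      simpa using h3.symm
    have := Subgroup.card_dvd_of_le hle
    rw [hS] at this
    norm_num at this
    exact this

end Cfsg.Agent.Helper95.O5760
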