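import Cfsg.Agent.Lib.Helper93.OR0

set_option autoImplicit false

namespace Cfsg.Agent.Helper95.OR

open Matrix Cfsg.Agent.Helper93.OR

local notation "SL3" => Matrix.SpecialLinearGroup (Fin 3)

/-- (C1) a non-scalar 2 x 2 matrix is conjugate to one with prescribed (0,0) entry. -/
theorem two_conj {F : Type*} [Field F] (S : Matrix (Fin 2) (Fin 2) F)
    (hS : ∀ c : F, S ≠ c • (1 : Matrix (Fin 2) (Fin 2) F)) (μ : F) :
    ∃ T : GL (Fin 2) F, ((T⁻¹ : GL (Fin 2) F).1 * S * T.1) 0 0 = μ := by
  have hSe : S = !![S 0 0, S 0 1; S 1 0, S 1 1] := Matrix.eta_fin_two S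
  generalize S 0 0 = a at hSe
  generalize S 0 1 = b at hSe
  generalize S 1 0 = c at hSe
  generalize S 1 1 = d at hSe
  obtain ⟨w0, w1, hdet⟩ : ∃ w0 w1 : F, c * w0 ^ 2 + (d - a) * w0 * w1 - b * w1 ^ 2 ≠ 0 := by
    by_cases hc : c = 0
    · by_cases hb : b = 0
      · refine ⟨1, 1, ?_⟩
        intro h
        apply hS a
        rw [hSe, hc, hb]
        have hda : d = a := by
          rw [hc, hb] at h
          linear_combination h
        rw [hda]
        ext i j
        fin_cases i <;> fin_cases j <;> simp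
      · refine ⟨0, 1, ?_⟩
        intro h
        apply hb
        linear_combination -h
    · refine ⟨1, 0, ?_⟩
      intro h
      apply hc
      linear_combination h
  let M : Matrix (Fin 2) (Fin 2) F :=
    !![w0, a * w0 + b * w1 - μ * w0; w1, c * w0 + d * w1 - μ * w1]
  have hMdet : M.det ≠ 0 := by
    intro h
    apply hdet
    rw [Matrix.det_fin_two_of] at h
    linear_combination h
  have hu : IsUnit M.det := isUnit_iff_ne_zero.mpr hMdet
  let N' : Matrix (Fin 2) (Fin 2) F := !![μ, (a + d - μ) * μ - (a * d - b * c); 1, a + d - μ]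
  have hSM : S * M = M * N' := by
    rw [hSe]
    simp only [M, N', Matrix.mul_fin_two]
    ext i j
    fin_cases i <;> fin_cases j <;> simp <;> ring
  refine ⟨⟨M, M⁻¹, Matrix.mul_nonsing_inv M hu, Matrix.nonsing_inv_mul M hu⟩, ?_⟩
  change (M⁻¹ * S * M) 0 0 = μ
  rw [Matrix.mul_assoc, hSM, Matrix.nonsing_inv_mul_cancel_left _ _ hu]
  simp [N']

end Cfsg.Agent.Helper95.OR
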