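import Cfsg.Agent.Lib.Helper93.OR0

set_option autoImplicit false

namespace Cfsg.Agent.Helper95.OR

open Matrix Cfsg.Agent.Helper93.OR

local notation "SL3" => Matrix.SpecialLinearGroup (Fin 3)

/-- (EX) a field with at least 4 elements has an element other than 0, 1, -1. -/
theorem exists_good_elt {F : Type*} [Field F] [Fintype F] (h : 4 ≤ Fintype.card F) :
    ∃ a : F, a ≠ 0 ∧ a ≠ 1 ∧ a * a ≠ 1 := by
  classical
  by_contra hno
  have hno' : ∀ a : F, a ≠ 0 → a ≠ 1 → a * a = 1 := by
    intro a h0 h1
    by_contra h2
    exact hno ⟨a, h0, h1, h2⟩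
  have hsub : (Finset.univ : Finset F) ⊆ {0, 1, -1} := by
    intro a _
    simp only [Finset.mem_insert, Finset.mem_singleton]
    by_cases h0 : a = 0
    · left; exact h0
    by_cases h1 : a = 1
    · right; left; exact h1
    right; right
    rcases mul_self_eq_one_iff.mp (hno' a h0 h1) with h | h
    · exact absurd h h1
    · exact h
  have h1 := Finset.card_le_card hsub
  have h3 : ({0, 1, -1} : Finset F).card ≤ 3 := Finset.card_le_three
  rw [Finset.card_univ] at h1
  omega

end Cfsg.Agent.Helper95.OR
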