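import Cfsg.Agent.Lib.Helper93.OR0

set_option autoImplicit false

namespace Cfsg.Agent.Helper95.OR

open Matrix Cfsg.Agent.Helper93.OR

local notation "SL3" => Matrix.SpecialLinearGroup (Fin 3)

/-- (ORD) a diagonal element of `SL₃(F)` has order dividing `q - 1`. -/
theorem diag_pow {F : Type*} [Field F] [Fintype F] (X : SL3 F) (β : Fin 3 → F)
    (hX : X.1 = Matrix.diagonal β) (hβ0 : ∀ i, β i ≠ 0) : X ^ (Fintype.card F - 1) = 1 := by
  apply Subtype.ext
  have hβ : β ^ (Fintype.card F - 1) = 1 := by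
    funext i
    rw [Pi.pow_apply, FiniteField.pow_card_sub_one_eq_one _ (hβ0 i)]
    rfl
  change (X ^ (Fintype.card F - 1)).1 = (1 : SL3 F).1
  rw [Matrix.SpecialLinearGroup.coe_pow, Matrix.SpecialLinearGroup.coe_one]
  change X.1 ^ (Fintype.card F - 1) = 1
  rw [hX, Matrix.diagonal_pow, hβ]
  exact Matrix.diagonal_one

end Cfsg.Agent.Helper95.OR
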