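import Cfsg.Agent.Lib.Helper93.OR0

set_option autoImplicit false

namespace Cfsg.Agent.Helper95.OR

open Matrix Cfsg.Agent.Helper93.OR

local notation "SL3" => Matrix.SpecialLinearGroup (Fin 3)

/-- (P3) a field with 3 elements has characteristic 3. -/
theorem char_three {F : Type*} [Field F] [Fintype F] (p : ℕ) [Fact p.Prime] [CharP F p]
    (h3 : Fintype.card F = 3) : p = 3 := by
  obtain ⟨n, hp, hq⟩ := FiniteField.card F p
  rw [h3] at hq
  have hdvd : p ∣ 3 := by
    rw [hq]
    exact dvd_pow_self p n.ne_zero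
  exact (Nat.prime_dvd_prime_iff_eq hp Nat.prime_three).mp hdvd

end Cfsg.Agent.Helper95.OR
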