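import Cfsg.Agent.Lib.Helper93.OR0

set_option autoImplicit false

namespace Cfsg.Agent.Helper95.OR

open Matrix Cfsg.Agent.Helper93.OR

local notation "SL3" => Matrix.SpecialLinearGroup (Fin 3)

/-- common core of (SL) and (SL3): a matrix `U` of determinant one with `P Y P⁻¹ U = U Y` -/
theorem h95_sl_conj_aux {F : Type*} [Field F] (Y : SL3 F) (P : GL (Fin 3) F)
    (U : Matrix (Fin 3) (Fin 3) F) (hU : U.det = 1)
    (hcomm : P.1 * Y.1 * (P⁻¹ : GL (Fin 3) F).1 * U = U * Y.1) :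
    ∃ u : SL3 F, ((u * Y * u⁻¹ : SL3 F) : Matrix (Fin 3) (Fin 3) F)
      = P.1 * Y.1 * (P⁻¹ : GL (Fin 3) F).1 := by
  let u : SL3 F := ⟨U, hU⟩
  refine ⟨u, ?_⟩
  rw [Matrix.SpecialLinearGroup.coe_mul, Matrix.SpecialLinearGroup.coe_mul,
    Matrix.SpecialLinearGroup.coe_inv]
  change U * Y.1 * Matrix.adjugate U = _
  have h1 : U * Matrix.adjugate U = 1 := by rw [Matrix.mul_adjugate, hU, one_smul]
  calc U * Y.1 * Matrix.adjugate U
      = (P.1 * Y.1 * (P⁻¹ : GL (Fin 3) F).1 * U) * Matrix.adjugate U := by rw [hcomm]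
    _ = P.1 * Y.1 * (P⁻¹ : GL (Fin 3) F).1 * (U * Matrix.adjugate U) := by
        rw [Matrix.mul_assoc]
    _ = P.1 * Y.1 * (P⁻¹ : GL (Fin 3) F).1 := by rw [h1, Matrix.mul_one]

/-- (SL3) over `ZMod 3`, every `GL₃`-conjugate is an `SL₃`-conjugate (use `u = det P • P`). -/
theorem sl_conj_of_gl_three (Y : SL3 (ZMod 3)) (P : GL (Fin 3) (ZMod 3)) :
    ∃ u : SL3 (ZMod 3), ((u * Y * u⁻¹ : SL3 (ZMod 3)) : Matrix (Fin 3) (Fin 3) (ZMod 3))
      = P.1 * Y.1 * (P⁻¹ : GL (Fin 3) (ZMod 3)).1 := by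
  have h4 : ∀ x : ZMod 3, x ≠ 0 → x ^ 3 * x = 1 := by decide
  have hδ : P.1.det ≠ 0 := by
    have h := congrArg Matrix.det (Units.mul_inv P)
    rw [Matrix.det_mul, Matrix.det_one] at h
    intro h0
    rw [h0, zero_mul] at h
    exact zero_ne_one h
  apply h95_sl_conj_aux Y P (P.1.det • P.1)
  · rw [Matrix.det_smul, Fintype.card_fin]
    exact h4 _ hδ
  · rw [Matrix.mul_smul, Matrix.smul_mul, Matrix.mul_assoc, Matrix.mul_assoc, Units.inv_mul,
      Matrix.mul_one]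

end Cfsg.Agent.Helper95.OR
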