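import Mathlib

set_option autoImplicit false

/-!
Orbit-kernel machinery (helper95): for a normal subgroup `Q` of a group `M` acting on `α`, the
group `M` permutes the nontrivial `Q`-orbits; the kernel of this action, the restriction to the
fixed points of `Q`, and counting lemmas.
-/

namespace Cfsg.Agent.Helper95.OrbKer

open MulAction
open scoped Pointwise

/-- if the image of `φ` is larger than `m!` while `ψ` maps to permutations of at most `m` points,
some element of `ker ψ` is not in `ker φ`. -/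
theorem exists_ker_not_ker {M H T : Type*} [Group M] [Group H] [Finite M] [Finite T]
    (ψ : M →* Equiv.Perm T) (φ : M →* H) (m : ℕ) (hT : Nat.card T ≤ m)
    (h : m.factorial < Nat.card φ.range) : ∃ g, ψ g = 1 ∧ φ g ≠ 1 := by
  by_contra hcon
  push_neg at hcon
  have hle : ψ.ker ≤ φ.ker := fun g hg => hcon g hg
  have h1 : φ.ker.index ∣ ψ.ker.index := Subgroup.index_dvd_of_le hle
  rw [Subgroup.index_ker, Subgroup.index_ker] at h1
  have h2 : Nat.card ψ.range ≤ (Nat.card T).factorial := by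
    rw [← Nat.card_perm]
    exact Subgroup.card_le_card_group _
  have h3 : Nat.card φ.range ≤ Nat.card ψ.range := Nat.le_of_dvd Nat.card_pos h1
  have h4 := Nat.factorial_le hT
  omega

variable {M : Type*} [Group M] {α : Type*} [MulAction M α] (Q : Subgroup M) [hQ : Q.Normal]

theorem smul_mem_fixedPoints_iff (g : M) (ω : α) :
    g • ω ∈ fixedPoints Q α ↔ ω ∈ fixedPoints Q α := by
  constructor
  · intro h q
    have h1 := h ⟨g * q * g⁻¹, hQ.conj_mem q.1 q.2 g⟩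
    have h2 : (g * (q : M) * g⁻¹) • g • ω = g • ω := h1
    rw [← mul_smul, inv_mul_cancel_right, mul_smul] at h2
    exact smul_left_cancel g h2
  · intro h q
    have h1 := h ⟨g⁻¹ * q * g, by simpa using hQ.conj_mem q.1 q.2 g⁻¹⟩
    have h2 : (g⁻¹ * (q : M) * g) • ω = ω := h1
    show (q : M) • g • ω = g • ω
    have h3 : (q : M) • g • ω = g • (g⁻¹ * (q : M) * g) • ω := by
      rw [← mul_smul, ← mul_smul]
      congr 1
      group
    rw [h3, h2]

/-- the fixed points of `Q` as an `M`-set. -/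
def fixSub (Q : Subgroup M) [hQ : Q.Normal] (α : Type*) [MulAction M α] : SubMulAction M α where
  carrier := fixedPoints Q α
  smul_mem' := fun g ω h => (smul_mem_fixedPoints_iff Q g ω).mpr h

theorem mem_fixSub (ω : α) : ω ∈ fixSub Q α ↔ ω ∈ fixedPoints Q α := Iff.rfl

/-- the nontrivial orbits of `Q`. -/
def NT (Q : Subgroup M) (α : Type*) [MulAction M α] : Set (Set α) :=
  {s | ∃ ω, ω ∉ fixedPoints Q α ∧ s = orbit Q ω}

/-- the nontrivial orbits of `Q` as an `M`-set. -/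
def T (Q : Subgroup M) [hQ : Q.Normal] (α : Type*) [MulAction M α] : SubMulAction M (Set α) where
  carrier := NT Q α
  smul_mem' := by
    rintro g s ⟨ω, hω, rfl⟩
    exact ⟨g • ω, fun h => hω ((smul_mem_fixedPoints_iff Q g ω).mp h),
      smul_orbit_eq_orbit_smul Q ω g⟩

/-- the kernel of the action on nontrivial orbits. -/
def ker (Q : Subgroup M) [hQ : Q.Normal] (α : Type*) [MulAction M α] : Subgroup M := (toPermHom M (T Q α)).ker

instance : (ker Q α).Normal := by unfold ker; infer_instance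

theorem mem_ker_iff (g : M) :
    g ∈ ker Q α ↔ ∀ ω, ω ∉ fixedPoints Q α → g • orbit Q ω = orbit Q ω := by
  unfold ker
  rw [MonoidHom.mem_ker]
  constructor
  · intro h ω hω
    have h1 := DFunLike.congr_fun h (⟨orbit Q ω, ω, hω, rfl⟩ : T Q α)
    exact congrArg Subtype.val h1
  · intro h
    ext t : 1
    obtain ⟨ω, hω, ht⟩ := t.2
    apply Subtype.ext
    show g • (t : Set α) = t
    rw [ht]
    exact h ω hω

theorem smul_mem_orbit_of_mem_ker {g : M} (hg : g ∈ ker Q α) {ω : α} (hω : ω ∉ fixedPoints Q α) :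
    g • ω ∈ orbit Q ω := by
  have h := (mem_ker_iff Q g).mp hg ω hω
  rw [← h]
  exact Set.smul_mem_smul_set (mem_orbit_self ω)

theorem le_ker : Q ≤ ker Q α := by
  intro q hq
  rw [mem_ker_iff]
  intro ω _
  rw [smul_orbit_eq_orbit_smul Q ω q]
  exact orbit_smul (⟨q, hq⟩ : Q) ω

theorem orbit_subset_compl {ω : α} (hω : ω ∉ fixedPoints Q α) :
    orbit Q ω ⊆ (fixedPoints Q α)ᶜ := by
  intro y hy hyf
  obtain ⟨q, rfl⟩ := hy
  apply hω
  intro q'
  have h1 := hyf (q * q' * q⁻¹)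
  rw [← mul_smul, inv_mul_cancel_right, mul_smul] at h1
  exact smul_left_cancel q h1

/-- nontrivial orbits of a `p`-group moving fewer than `p ^ 2` points have size `p`. -/
theorem card_orbit_eq (p : ℕ) [Fact p.Prime] [Finite α] (hQp : IsPGroup p Q)
    (hsmall : Nat.card α < Nat.card (fixedPoints Q α) + p ^ 2) (ω : α)
    (hω : ω ∉ fixedPoints Q α) : Nat.card (orbit Q ω) = p := by
  obtain ⟨e, he⟩ := hQp.card_orbit ω
  have h1 : Nat.card (orbit Q ω) ≤ Nat.card ((fixedPoints Q α)ᶜ : Set α) :=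
    Nat.card_mono (Set.toFinite _) (orbit_subset_compl Q hω)
  have h2 : Nat.card ((fixedPoints Q α)ᶜ : Set α) + Nat.card (fixedPoints Q α) = Nat.card α := by
    classical
    rw [add_comm, ← Nat.card_sum]
    exact Nat.card_congr (Equiv.Set.sumCompl _)
  have h3 : p ^ e < p ^ 2 := by rw [← he]; omega
  have h4 : e < 2 := (Nat.pow_lt_pow_iff_right (Fact.out : p.Prime).one_lt).mp h3
  have h5 : e ≠ 0 := by
    rintro rfl
    apply hω
    haveI := Fintype.ofFinite (orbit Q ω)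
    rw [mem_fixedPoints_iff_card_orbit_eq_one, ← Nat.card_eq_fintype_card, he, pow_zero]
  have h6 : e = 1 := by omega
  rw [he, h6, pow_one]

/-- counting the nontrivial orbits. -/
theorem card_T (p : ℕ) [Finite α]
    (hp : ∀ ω, ω ∉ fixedPoints Q α → Nat.card (orbit Q ω) = p) :
    Nat.card (T Q α) * p + Nat.card (fixedPoints Q α) = Nat.card α := by
  have h2 : Nat.card ((fixedPoints Q α)ᶜ : Set α) + Nat.card (fixedPoints Q α) = Nat.card α := by
    classical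
    rw [add_comm, ← Nat.card_sum]
    exact Nat.card_congr (Equiv.Set.sumCompl _)
  rw [← h2]
  congr 1
  let f : ((fixedPoints Q α)ᶜ : Set α) → T Q α := fun ω => ⟨orbit Q ω.1, ω.1, ω.2, rfl⟩
  have hfib : ∀ t : T Q α, Nat.card {ω // f ω = t} = p := by
    intro t
    obtain ⟨ω₀, hω₀, ht⟩ := t.2
    rw [← hp ω₀ hω₀]
    apply Nat.card_congr
    refine
      { toFun := fun ω => ⟨ω.1.1, ?_⟩
        invFun := fun y => ⟨⟨y.1, orbit_subset_compl Q hω₀ y.2⟩, ?_⟩
        left_inv := fun ω => rfl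
        right_inv := fun y => rfl }
    · have h := congrArg Subtype.val ω.2
      have h' : orbit Q ω.1.1 = orbit Q ω₀ := h.trans ht
      rw [← h']
      exact mem_orbit_self _
    · apply Subtype.ext
      show orbit Q y.1 = t.1
      rw [ht]
      exact orbit_eq_iff.mpr y.2
  haveI := Fintype.ofFinite (T Q α)
  rw [← Nat.card_congr (Equiv.sigmaFiberEquiv f), Nat.card_sigma, Finset.sum_congr rfl
    (fun t _ => hfib t), Finset.sum_const, Finset.card_univ, Nat.card_eq_fintype_card, smul_eq_mul]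

/-- the restriction to the fixed points of `Q`. -/
def res (Q : Subgroup M) [hQ : Q.Normal] (α : Type*) [MulAction M α] :
    M →* Equiv.Perm (fixSub Q α) := toPermHom M (fixSub Q α)

theorem res_apply_coe (g : M) (y : fixSub Q α) : ((res Q α g y : fixSub Q α) : α) = g • (y : α) :=
  rfl

section general

variable {N : Type*} [Group N] {X : Type*} [MulAction N X]

theorem pow_smul_of_commute (z y : N) (h : Commute z y) (x₀ : X) (hz : z • x₀ = y • x₀) (m : ℕ) :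
    z ^ m • x₀ = y ^ m • x₀ := by
  induction m with
  | zero => simp
  | succ m ih =>
    rw [pow_succ, mul_smul, hz, ← mul_smul, (h.pow_left m).eq, mul_smul, ih, ← mul_smul,
      ← pow_succ']

theorem conj_zpow_of' (g n : N) (s m : ℤ) (h : n * g * n⁻¹ = g ^ s) :
    n * g ^ m * n⁻¹ = g ^ (s * m) := by
  rw [← conj_zpow, h, zpow_mul]

/-- a commutator of elements normalizing `⟨g⟩` centralizes `g`. -/
theorem comm_centralizes' (g n1 n2 : N) (s1 t1 s2 t2 : ℤ)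
    (h1 : n1 * g * n1⁻¹ = g ^ s1) (h1' : n1⁻¹ * g * n1 = g ^ t1)
    (h2 : n2 * g * n2⁻¹ = g ^ s2) (h2' : n2⁻¹ * g * n2 = g ^ t2) :
    (n1 * n2 * n1⁻¹ * n2⁻¹) * g = g * (n1 * n2 * n1⁻¹ * n2⁻¹) := by
  have e1 : g ^ (s1 * t1) = g := by
    have := conj_zpow_of' g n1 s1 t1 h1
    rw [← h1'] at this
    rw [← this]; group
  have e2 : g ^ (s2 * t2) = g := by
    have := conj_zpow_of' g n2 s2 t2 h2
    rw [← h2'] at this
    rw [← this]; group
  have h1'' : n1⁻¹ * g * n1⁻¹⁻¹ = g ^ t1 := by rw [inv_inv]; exact h1'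
  have step : (n1 * n2 * n1⁻¹ * n2⁻¹) * g * (n1 * n2 * n1⁻¹ * n2⁻¹)⁻¹ = g := by
    have a1 : n2⁻¹ * g * n2 = g ^ t2 := h2'
    have a2 : n1⁻¹ * g ^ t2 * n1 = g ^ (t1 * t2) := by
      have := conj_zpow_of' g n1⁻¹ t1 t2 h1''
      rwa [inv_inv] at this
    have a3 : n2 * g ^ (t1 * t2) * n2⁻¹ = g ^ (s2 * (t1 * t2)) := conj_zpow_of' g n2 s2 _ h2
    have a4 : n1 * g ^ (s2 * (t1 * t2)) * n1⁻¹ = g ^ (s1 * (s2 * (t1 * t2))) :=
      conj_zpow_of' g n1 s1 _ h1
    have : (n1 * n2 * n1⁻¹ * n2⁻¹) * g * (n1 * n2 * n1⁻¹ * n2⁻¹)⁻¹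
        = n1 * (n2 * (n1⁻¹ * (n2⁻¹ * g * n2) * n1) * n2⁻¹) * n1⁻¹ := by group
    rw [this, a1, a2, a3, a4]
    have : s1 * (s2 * (t1 * t2)) = (s1 * t1) * (s2 * t2) := by ring
    rw [this, zpow_mul, e1, e2]
  calc (n1 * n2 * n1⁻¹ * n2⁻¹) * g
      = ((n1 * n2 * n1⁻¹ * n2⁻¹) * g * (n1 * n2 * n1⁻¹ * n2⁻¹)⁻¹) * (n1 * n2 * n1⁻¹ * n2⁻¹) := by
        group
    _ = g * (n1 * n2 * n1⁻¹ * n2⁻¹) := by rw [step]

end general

/-- Lemma K, cyclic case: an element of the orbit kernel commuting with a generator `x` of `Q`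
of order `p` has `p`-th power trivial off the fixed points of `Q`. -/
theorem pow_smul_eq_of_cyclic {p : ℕ} (x : M) (hx : x ^ p = 1) (hQx : Q = Subgroup.zpowers x)
    (c : M) (hc : c ∈ ker Q α) (hcx : Commute c x) (ω : α) (hω : ω ∉ fixedPoints Q α) :
    c ^ p • ω = ω := by
  obtain ⟨q, hq⟩ := smul_mem_orbit_of_mem_ker Q hc hω
  have hqx : (q : M) ∈ Subgroup.zpowers x := hQx ▸ q.2
  obtain ⟨i, hi⟩ := Subgroup.mem_zpowers_iff.mp hqx
  have h1 : c • ω = x ^ i • ω := by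
    rw [hi]
    exact hq.symm
  have h2 := pow_smul_of_commute c (x ^ i) (hcx.zpow_right i) ω h1 p
  rw [h2, ← zpow_natCast, ← zpow_mul, mul_comm, zpow_mul, zpow_natCast, hx, one_zpow, one_smul]

/-- Lemma K, general case: if all nontrivial orbits of the `p`-group `Q` have size `p`, the
`p`-th power of a commutator of two elements of the orbit kernel is trivial off the fixed points
of `Q`. -/
theorem pow_smul_eq_of_comm {p : ℕ} [hp : Fact p.Prime] [Finite α]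
    (hQp : IsPGroup p Q) (horb : ∀ ω, ω ∉ fixedPoints Q α → Nat.card (orbit Q ω) = p)
    (a b : M) (ha : a ∈ ker Q α) (hb : b ∈ ker Q α) (ω : α) (hω : ω ∉ fixedPoints Q α) :
    (a * b * a⁻¹ * b⁻¹) ^ p • ω = ω := by
  let K := ker Q α
  let X : SubMulAction K α :=
    { carrier := orbit Q ω
      smul_mem' := fun g y hy => by
        have h := (mem_ker_iff Q g.1).mp g.2 ω hω
        rw [← h]
        exact Set.smul_mem_smul_set hy }
  have hXcard : Nat.card X = p := horb ω hω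
  let ρ : K →* Equiv.Perm X := toPermHom K X
  let R : Subgroup (Equiv.Perm X) := (Q.subgroupOf K).map ρ
  have hRp : IsPGroup p R := (hQp.comap_subtype).map ρ
  haveI : IsPretransitive R X := by
    refine ⟨fun y1 y2 => ?_⟩
    obtain ⟨q1, hq1⟩ := y1.2
    obtain ⟨q2, hq2⟩ := y2.2
    have hqK : ((q2 * q1⁻¹ : Q) : M) ∈ K := le_ker Q (q2 * q1⁻¹ : Q).2
    refine ⟨⟨ρ ⟨((q2 * q1⁻¹ : Q) : M), hqK⟩,
      Subgroup.mem_map.mpr ⟨⟨((q2 * q1⁻¹ : Q) : M), hqK⟩, (q2 * q1⁻¹ : Q).2, rfl⟩⟩, ?_⟩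
    apply Subtype.ext
    show ((q2 * q1⁻¹ : Q) : M) • (y1 : α) = y2
    have e1 : (y1 : α) = (q1 : M) • ω := hq1.symm
    have e2 : (y2 : α) = (q2 : M) • ω := hq2.symm
    rw [e1, e2, ← mul_smul]
    congr 1
    simp
  have hdvd1 : p ∣ Nat.card R := by
    have h := index_stabilizer_of_transitive R (⟨ω, mem_orbit_self ω⟩ : X)
    rw [hXcard] at h
    rw [← h]
    exact Subgroup.index_dvd_card _
  have hdvd2 : Nat.card R ∣ p.factorial := by
    have h := Subgroup.card_subgroup_dvd_card R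
    rwa [Nat.card_perm, hXcard] at h
  obtain ⟨e, he⟩ := IsPGroup.iff_card.mp hRp
  have hRcard : Nat.card R = p := by
    have hp1 : p * (p - 1).factorial = p.factorial := Nat.mul_factorial_pred hp.out.ne_zero
    have hcop : Nat.Coprime (p ^ e) (p - 1).factorial := by
      apply Nat.Coprime.pow_left
      rw [Nat.Prime.coprime_iff_not_dvd hp.out]
      intro h
      have := (Nat.Prime.dvd_factorial hp.out).mp h
      have := hp.out.pos
      omega
    have h3 : p ^ e ∣ p := by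
      apply Nat.Coprime.dvd_of_dvd_mul_right hcop
      rw [hp1, ← he]
      exact hdvd2
    rcases (Nat.dvd_prime hp.out).mp h3 with h4 | h4
    · rw [he, h4] at hdvd1
      exact absurd (Nat.le_of_dvd one_pos hdvd1) (by have := hp.out.one_lt; omega)
    · rw [he, h4]
  have hnt : Nontrivial R := Finite.one_lt_card_iff_nontrivial.mp (hRcard ▸ hp.out.one_lt)
  obtain ⟨y, hy⟩ : ∃ y : R, y ≠ 1 := exists_ne 1
  have hgen : ∀ u : Equiv.Perm X, u ∈ R → ∃ s : ℤ, u = (y : Equiv.Perm X) ^ s := by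
    intro u hu
    have h := mem_zpowers_of_prime_card hRcard hy (g' := ⟨u, hu⟩)
    obtain ⟨s, hs⟩ := Subgroup.mem_zpowers_iff.mp h
    refine ⟨s, ?_⟩
    have h2 := congrArg Subtype.val hs
    rw [Subgroup.coe_zpow] at h2
    exact h2.symm
  have hnorm : ∀ g : K, ∃ s : ℤ, ρ g * (y : Equiv.Perm X) * (ρ g)⁻¹ = (y : Equiv.Perm X) ^ s := by
    intro g
    obtain ⟨q₁, hq₁, hq₁y⟩ := Subgroup.mem_map.mp y.2
    have hn : (Q.subgroupOf K).Normal := inferInstance
    have h1 : g * q₁ * g⁻¹ ∈ Q.subgroupOf K := hn.conj_mem q₁ hq₁ g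
    have h2 : ρ (g * q₁ * g⁻¹) ∈ R := Subgroup.mem_map_of_mem ρ h1
    rw [map_mul, map_mul, map_inv, hq₁y] at h2
    exact hgen _ h2
  obtain ⟨s1, h1⟩ := hnorm ⟨a, ha⟩
  obtain ⟨t1, h1'⟩ := hnorm ⟨a, ha⟩⁻¹
  obtain ⟨s2, h2⟩ := hnorm ⟨b, hb⟩
  obtain ⟨t2, h2'⟩ := hnorm ⟨b, hb⟩⁻¹
  rw [map_inv, inv_inv] at h1' h2'
  have hz := comm_centralizes' (y : Equiv.Perm X) (ρ ⟨a, ha⟩) (ρ ⟨b, hb⟩) s1 t1 s2 t2 h1 h1' h2 h2'
  obtain ⟨u, hu⟩ := exists_smul_eq R (⟨ω, mem_orbit_self ω⟩ : X)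
    ((ρ ⟨a, ha⟩ * ρ ⟨b, hb⟩ * (ρ ⟨a, ha⟩)⁻¹ * (ρ ⟨b, hb⟩)⁻¹) • (⟨ω, mem_orbit_self ω⟩ : X))
  obtain ⟨i, hi⟩ := hgen u.1 u.2
  have hu' : (ρ ⟨a, ha⟩ * ρ ⟨b, hb⟩ * (ρ ⟨a, ha⟩)⁻¹ * (ρ ⟨b, hb⟩)⁻¹) • (⟨ω, mem_orbit_self ω⟩ : X)
      = ((y : Equiv.Perm X) ^ i) • (⟨ω, mem_orbit_self ω⟩ : X) := by
    rw [← hi]
    exact hu.symm
  have hcomm : Commute (ρ ⟨a, ha⟩ * ρ ⟨b, hb⟩ * (ρ ⟨a, ha⟩)⁻¹ * (ρ ⟨b, hb⟩)⁻¹)
      ((y : Equiv.Perm X) ^ i) := Commute.zpow_right hz i
  have h5 := pow_smul_of_commute _ _ hcomm _ hu' p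
  have hyp : (y : Equiv.Perm X) ^ p = 1 := by
    have h := pow_card_eq_one' (x := y)
    rw [hRcard] at h
    have h2 := congrArg Subtype.val h
    rwa [Subgroup.coe_pow] at h2
  have hyip : ((y : Equiv.Perm X) ^ i) ^ p = 1 := by
    rw [← zpow_natCast, ← zpow_mul, mul_comm, zpow_mul, zpow_natCast, hyp, one_zpow]
  rw [hyip, one_smul] at h5
  have h6 : (ρ ⟨a, ha⟩ * ρ ⟨b, hb⟩ * (ρ ⟨a, ha⟩)⁻¹ * (ρ ⟨b, hb⟩)⁻¹) ^ p
      = ρ ((⟨a, ha⟩ * ⟨b, hb⟩ * ⟨a, ha⟩⁻¹ * ⟨b, hb⟩⁻¹) ^ p) := by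
    simp only [map_pow, map_mul, map_inv]
  rw [h6] at h5
  exact congrArg Subtype.val h5

end Cfsg.Agent.Helper95.OrbKer
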