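import Mathlib
import Cfsg.Agent.Lib.Helper95.OrbKer

set_option autoImplicit false

/-!
Core arguments producing small-support elements from the orbit-kernel machinery (helper95).
-/

namespace Cfsg.Agent.Helper95.OrbKer

open MulAction Equiv
open scoped Pointwise

theorem comm_three_cycles {β : Type*} [DecidableEq β] (w x y z : β) (hwx : w ≠ x) (hwy : w ≠ y)
    (hwz : w ≠ z) (hxy : x ≠ y) (hxz : x ≠ z) (hyz : y ≠ z) :
    (swap w x * swap x y) * (swap w x * swap x z) * (swap w x * swap x y)⁻¹ *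
      (swap w x * swap x z)⁻¹ = swap w x * swap y z := by
  simp only [mul_inv_rev, swap_inv]
  ext t
  simp only [Perm.coe_mul, Function.comp_apply]
  by_cases h1 : t = w
  · subst h1
    simp [swap_apply_of_ne_of_ne, hwx, hwy, hwz, hxy, hxz, hyz, hwx.symm, hwy.symm, hwz.symm,
      hxy.symm, hxz.symm, hyz.symm]
  by_cases h2 : t = x
  · subst h2
    simp [swap_apply_of_ne_of_ne, hwx, hwy, hwz, hxy, hxz, hyz, hwx.symm, hwy.symm, hwz.symm,
      hxy.symm, hxz.symm, hyz.symm]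
  by_cases h3 : t = y
  · subst h3
    simp [swap_apply_of_ne_of_ne, hwx, hwy, hwz, hxy, hxz, hyz, hwx.symm, hwy.symm, hwz.symm,
      hxy.symm, hxz.symm, hyz.symm]
  by_cases h4 : t = z
  · subst h4
    simp [swap_apply_of_ne_of_ne, hwx, hwy, hwz, hxy, hxz, hyz, hwx.symm, hwy.symm, hwz.symm,
      hxy.symm, hxz.symm, hyz.symm]
  · simp [swap_apply_of_ne_of_ne, h1, h2, h3, h4]

theorem swap_mul_swap_sq {β : Type*} [DecidableEq β] (w x y z : β) (hwy : w ≠ y) (hwz : w ≠ z)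
    (hxy : x ≠ y) (hxz : x ≠ z) :
    (swap w x * swap y z) * (swap w x * swap y z) = 1 := by
  ext t
  simp only [Perm.coe_mul, Function.comp_apply, Perm.coe_one, id_eq]
  by_cases h1 : t = w
  · subst h1
    simp [swap_apply_of_ne_of_ne, hwy, hwz, hxy, hxz, hwy.symm, hwz.symm, hxy.symm, hxz.symm]
  by_cases h2 : t = x
  · subst h2
    simp [swap_apply_of_ne_of_ne, hwy, hwz, hxy, hxz, hwy.symm, hwz.symm, hxy.symm, hxz.symm]
  by_cases h3 : t = y
  · subst h3
    simp [swap_apply_of_ne_of_ne, hwy, hwz, hxy, hxz, hwy.symm, hwz.symm, hxy.symm, hxz.symm]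
  by_cases h4 : t = z
  · subst h4
    simp [swap_apply_of_ne_of_ne, hwy, hwz, hxy, hxz, hwy.symm, hwz.symm, hxy.symm, hxz.symm]
  · simp [swap_apply_of_ne_of_ne, h1, h2, h3, h4]

/-- an involution raised to an odd power. -/
theorem pow_odd_of_sq {N : Type*} [Group N] (d : N) (hd : d * d = 1) {p : ℕ} (hp : Odd p) :
    d ^ p = d := by
  obtain ⟨i, rfl⟩ := hp
  rw [pow_succ, pow_mul, pow_two, hd, one_pow, one_mul]

/-- the commutator of a transposition with a permutation moving one of its points has a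
nontrivial `p`-th power for `p ≥ 5` prime. -/
theorem swap_comm_pow_ne_one {β : Type*} [DecidableEq β] [Fintype β] (u : Perm β) (δ ζ : β)
    (hδ : u δ ≠ δ) (hζδ : ζ ≠ δ) (hζ : ζ ≠ u δ) {p : ℕ} (hp : p.Prime) (hp5 : 5 ≤ p) :
    (swap δ ζ * u * (swap δ ζ)⁻¹ * u⁻¹) ^ p ≠ 1 := by
  have e0 : swap δ ζ * u * (swap δ ζ)⁻¹ * u⁻¹ = swap δ ζ * swap (u δ) (u ζ) := by
    rw [swap_apply_apply, swap_inv]
    group
  rw [e0]
  have hεη : u δ ≠ u ζ := fun h => hζδ (u.injective h).symm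
  by_cases h1 : u ζ = δ
  · -- 3-cycle
    rw [h1, swap_comm (u δ) δ]
    have h3 : (swap δ ζ * swap δ (u δ)).IsThreeCycle :=
      Perm.isThreeCycle_swap_mul_swap_same hζδ.symm hδ.symm hζ
    intro h
    have h4 := orderOf_dvd_of_pow_eq_one h
    rw [h3.orderOf] at h4
    have := (Nat.prime_dvd_prime_iff_eq Nat.prime_three hp).mp h4
    omega
  by_cases h2 : u ζ = ζ
  · rw [h2, swap_comm δ ζ, swap_comm (u δ) ζ]
    have h3 : (swap ζ δ * swap ζ (u δ)).IsThreeCycle :=
      Perm.isThreeCycle_swap_mul_swap_same hζδ hζ hδ.symm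
    intro h
    have h4 := orderOf_dvd_of_pow_eq_one h
    rw [h3.orderOf] at h4
    have := (Nat.prime_dvd_prime_iff_eq Nat.prime_three hp).mp h4
    omega
  · have hsq := swap_mul_swap_sq δ ζ (u δ) (u ζ) hδ.symm (fun h => h1 h.symm) hζ
      (fun h => h2 h.symm)
    have hodd : Odd p := hp.odd_of_ne_two (by omega)
    rw [pow_odd_of_sq _ hsq hodd]
    intro h
    have h5 := congrArg (fun f : Perm β => f δ) h
    simp only [Perm.coe_mul, Function.comp_apply, Perm.coe_one, id_eq] at h5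
    rw [swap_apply_of_ne_of_ne hδ.symm (fun h => h1 h.symm), swap_apply_left] at h5
    exact hζδ h5

section cores

variable {M : Type*} [Group M] [Finite M] {α : Type*} [Finite α] [MulAction M α]
  (Q : Subgroup M) [hQ : Q.Normal]

/-- Core of the cyclic case. -/
theorem caseB_core {p k : ℕ} (hp : p.Prime) (hp5 : 5 ≤ p) (x : M) (hx : x ^ p = 1)
    (hQx : Q = Subgroup.zpowers x) (hT : Nat.card (T Q α) ≤ k)
    (hsurj : Function.Surjective (res Q α))
    (hr : 3 ≤ Nat.card (fixSub Q α))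
    (hkr : k.factorial < (Nat.card (fixSub Q α)).factorial) :
    ∃ g : M, (∃ ω : α, g • ω ≠ ω) ∧ ∀ ω : α, ω ∉ fixedPoints Q α → g • ω = ω := by
  classical
  haveI : Fintype (fixSub Q α) := Fintype.ofFinite _
  have hrange : Nat.card (res Q α).range = (Nat.card (fixSub Q α)).factorial := by
    rw [MonoidHom.range_eq_top.mpr hsurj, Subgroup.card_top, Nat.card_perm]
  obtain ⟨a, ha1, ha2⟩ := exists_ker_not_ker (toPermHom M (T Q α)) (res Q α) k hT
    (by rw [hrange]; exact hkr)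
  have ha : a ∈ ker Q α := ha1
  -- a point moved by `res a`
  obtain ⟨δ, hδ⟩ : ∃ δ, res Q α a δ ≠ δ := by
    by_contra hcon
    push_neg at hcon
    exact ha2 (Equiv.ext hcon)
  obtain ⟨ζ, hζ⟩ : ∃ ζ, ζ ∉ ({δ, res Q α a δ} : Finset (fixSub Q α)) := by
    by_contra hcon
    push_neg at hcon
    have h1 : ({δ, res Q α a δ} : Finset (fixSub Q α)) = Finset.univ :=
      Finset.eq_univ_iff_forall.mpr hcon
    have h2 := congrArg Finset.card h1
    rw [Finset.card_univ, ← Nat.card_eq_fintype_card] at h2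
    have h3 := Finset.card_le_two (a := δ) (b := res Q α a δ)
    omega
  rw [Finset.mem_insert, Finset.mem_singleton] at hζ
  push_neg at hζ
  obtain ⟨g, hg⟩ := hsurj (swap δ ζ)
  -- the commutator
  have hgag : g * a * g⁻¹ ∈ ker Q α := (inferInstance : (ker Q α).Normal).conj_mem a ha g
  have hc : g * a * g⁻¹ * a⁻¹ ∈ ker Q α := Subgroup.mul_mem _ hgag (Subgroup.inv_mem _ ha)
  have hxQ : x ∈ Q := by rw [hQx]; exact Subgroup.mem_zpowers x
  have hnorm : ∀ n : M, ∃ s : ℤ, n * x * n⁻¹ = x ^ s := by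
    intro n
    have h1 : n * x * n⁻¹ ∈ Q := hQ.conj_mem x hxQ n
    rw [hQx] at h1
    obtain ⟨s, hs⟩ := Subgroup.mem_zpowers_iff.mp h1
    exact ⟨s, hs.symm⟩
  obtain ⟨s1, h1⟩ := hnorm g
  obtain ⟨t1, h1'⟩ := hnorm g⁻¹
  obtain ⟨s2, h2⟩ := hnorm a
  obtain ⟨t2, h2'⟩ := hnorm a⁻¹
  rw [inv_inv] at h1' h2'
  have hcx : Commute (g * a * g⁻¹ * a⁻¹) x := comm_centralizes' x g a s1 t1 s2 t2 h1 h1' h2 h2'
  have hK := pow_smul_eq_of_cyclic Q x hx hQx (g * a * g⁻¹ * a⁻¹) hc hcx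
  refine ⟨(g * a * g⁻¹ * a⁻¹) ^ p, ?_, hK⟩
  -- nontrivial on the fixed points
  have hne : res Q α ((g * a * g⁻¹ * a⁻¹) ^ p) ≠ 1 := by
    rw [map_pow, map_mul, map_mul, map_mul, map_inv, map_inv, hg]
    exact swap_comm_pow_ne_one (res Q α a) δ ζ hδ hζ.1 hζ.2 hp hp5
  obtain ⟨y, hy⟩ : ∃ y, res Q α ((g * a * g⁻¹ * a⁻¹) ^ p) y ≠ y := by
    by_contra hcon
    push_neg at hcon
    exact hne (Equiv.ext hcon)
  refine ⟨(y : α), fun h => hy (Subtype.ext ?_)⟩
  rw [res_apply_coe]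
  exact h

/-- Core of the general case. -/
theorem caseA_core {p m : ℕ} [hp : Fact p.Prime] (hp2 : p ≠ 2) (hQp : IsPGroup p Q)
    (horb : ∀ ω : α, ω ∉ fixedPoints Q α → Nat.card (orbit Q ω) = p)
    (hT : Nat.card (T Q α) ≤ m) [Fintype (fixSub Q α)] [DecidableEq (fixSub Q α)]
    (hA : alternatingGroup (fixSub Q α) ≤ (res Q α).range)
    (h5 : 5 ≤ Nat.card (fixSub Q α))
    (hm : 2 * m.factorial + 2 ≤ (Nat.card (fixSub Q α)).factorial) :
    ∃ g : M, (∃ ω : α, g • ω ≠ ω) ∧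
      ∃ S : Set α, S.ncard ≤ 4 ∧ ∀ ω : α, ω ∉ S → g • ω = ω := by
  classical
  have hnt : Nontrivial (fixSub Q α) := by
    rw [← Finite.one_lt_card_iff_nontrivial]
    omega
  -- the preimage of the alternating group
  let M0 : Subgroup M := (alternatingGroup (fixSub Q α)).comap (res Q α)
  have hrange : ((res Q α).comp M0.subtype).range = alternatingGroup (fixSub Q α) := by
    ext a'
    constructor
    · rintro ⟨g, rfl⟩
      exact g.2
    · intro ha'
      obtain ⟨g, rfl⟩ := hA ha'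
      exact ⟨⟨g, ha'⟩, rfl⟩
  have hcardA : m.factorial < Nat.card ((res Q α).comp M0.subtype).range := by
    rw [hrange, nat_card_alternatingGroup]
    omega
  obtain ⟨g₀, hg1, hg2⟩ := exists_ker_not_ker ((toPermHom M (T Q α)).comp M0.subtype)
    ((res Q α).comp M0.subtype) m hT hcardA
  have hg0K : (g₀ : M) ∈ ker Q α := hg1
  -- the image of the kernel inside the alternating group is everything
  let B : Subgroup (alternatingGroup (fixSub Q α)) :=
    ((ker Q α).map (res Q α)).subgroupOf (alternatingGroup (fixSub Q α))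
  have hBn : B.Normal := by
    refine ⟨fun n hn g => ?_⟩
    rw [Subgroup.mem_subgroupOf] at hn ⊢
    obtain ⟨k, hk, hkn⟩ := Subgroup.mem_map.mp hn
    obtain ⟨g', hg'⟩ := hA g.2
    refine Subgroup.mem_map.mpr ⟨g' * k * g'⁻¹,
      (inferInstance : (ker Q α).Normal).conj_mem k hk g', ?_⟩
    rw [map_mul, map_mul, map_inv, hg', hkn]
    rfl
  have hBtop : B = ⊤ := by
    rcases alternatingGroup.normal_subgroup_eq_bot_or_eq_top h5 (N := B) with h | h
    · exfalso
      have hmem : (⟨res Q α g₀, g₀.2⟩ : alternatingGroup (fixSub Q α)) ∈ B := by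
        rw [Subgroup.mem_subgroupOf]
        exact Subgroup.mem_map_of_mem _ hg0K
      rw [h, Subgroup.mem_bot] at hmem
      exact hg2 (congrArg Subtype.val hmem)
    · exact h
  have hlift : ∀ a' : Perm (fixSub Q α), a' ∈ alternatingGroup (fixSub Q α) →
      ∃ k ∈ ker Q α, res Q α k = a' := by
    intro a' ha'
    have h1 : (⟨a', ha'⟩ : alternatingGroup (fixSub Q α)) ∈ B := by rw [hBtop]; trivial
    rw [Subgroup.mem_subgroupOf] at h1
    exact Subgroup.mem_map.mp h1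
  -- four points
  have h4 : Fintype.card (Fin 4) ≤ Fintype.card (fixSub Q α) := by
    rw [Fintype.card_fin, ← Nat.card_eq_fintype_card]
    omega
  obtain ⟨e⟩ := Function.Embedding.nonempty_of_card_le h4
  have hwx : e 0 ≠ e 1 := e.injective.ne (by decide)
  have hwy : e 0 ≠ e 2 := e.injective.ne (by decide)
  have hwz : e 0 ≠ e 3 := e.injective.ne (by decide)
  have hxy : e 1 ≠ e 2 := e.injective.ne (by decide)
  have hxz : e 1 ≠ e 3 := e.injective.ne (by decide)
  have hyz : e 2 ≠ e 3 := e.injective.ne (by decide)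
  have hc1 : swap (e 0) (e 1) * swap (e 1) (e 2) ∈ alternatingGroup (fixSub Q α) := by
    rw [Perm.mem_alternatingGroup, Perm.sign_mul, Perm.sign_swap hwx, Perm.sign_swap hxy]
    decide
  have hc2 : swap (e 0) (e 1) * swap (e 1) (e 3) ∈ alternatingGroup (fixSub Q α) := by
    rw [Perm.mem_alternatingGroup, Perm.sign_mul, Perm.sign_swap hwx, Perm.sign_swap hxz]
    decide
  obtain ⟨a, haK, ha⟩ := hlift _ hc1
  obtain ⟨b, hbK, hb⟩ := hlift _ hc2
  have hK := pow_smul_eq_of_comm Q hQp horb a b haK hbK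
  have hd : res Q α ((a * b * a⁻¹ * b⁻¹) ^ p) = swap (e 0) (e 1) * swap (e 2) (e 3) := by
    rw [map_pow, map_mul, map_mul, map_mul, map_inv, map_inv, ha, hb,
      comm_three_cycles _ _ _ _ hwx hwy hwz hxy hxz hyz]
    exact pow_odd_of_sq _ (swap_mul_swap_sq _ _ _ _ hwy hwz hxy hxz) (hp.out.odd_of_ne_two hp2)
  refine ⟨(a * b * a⁻¹ * b⁻¹) ^ p, ⟨((e 0 : fixSub Q α) : α), ?_⟩,
    {((e 0 : fixSub Q α) : α), ((e 1 : fixSub Q α) : α), ((e 2 : fixSub Q α) : α),
      ((e 3 : fixSub Q α) : α)}, ?_, ?_⟩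
  · rw [← res_apply_coe, hd]
    intro h
    have h' := Subtype.ext h
    simp only [Perm.coe_mul, Function.comp_apply] at h'
    rw [swap_apply_of_ne_of_ne hwy hwz, swap_apply_left] at h'
    exact hwx h'.symm
  · refine (Set.ncard_insert_le _ _).trans ?_
    refine (Nat.add_le_add_right (Set.ncard_insert_le _ _) 1).trans ?_
    refine (Nat.add_le_add_right (Nat.add_le_add_right (Set.ncard_insert_le _ _) 1) 1).trans ?_
    rw [Set.ncard_singleton]
  · intro ω hω
    simp only [Set.mem_insert_iff, Set.mem_singleton_iff, not_or] at hω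
    by_cases hfix : ω ∈ fixedPoints Q α
    · have h1 := res_apply_coe Q ((a * b * a⁻¹ * b⁻¹) ^ p) (⟨ω, hfix⟩ : fixSub Q α)
      rw [hd] at h1
      simp only [Perm.coe_mul, Function.comp_apply] at h1
      have n0 : (⟨ω, hfix⟩ : fixSub Q α) ≠ e 0 := fun h => hω.1 (congrArg Subtype.val h)
      have n1 : (⟨ω, hfix⟩ : fixSub Q α) ≠ e 1 := fun h => hω.2.1 (congrArg Subtype.val h)
      have n2 : (⟨ω, hfix⟩ : fixSub Q α) ≠ e 2 := fun h => hω.2.2.1 (congrArg Subtype.val h)
      have n3 : (⟨ω, hfix⟩ : fixSub Q α) ≠ e 3 := fun h => hω.2.2.2 (congrArg Subtype.val h)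
      rw [swap_apply_of_ne_of_ne n2 n3, swap_apply_of_ne_of_ne n0 n1] at h1
      exact h1.symm
    · exact hK ω hfix

end cores

end Cfsg.Agent.Helper95.OrbKer
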