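import Mathlib
import Cfsg.Agent.Lib.Helper95.OrbKerCore
import Cfsg.Agent.S4219

set_option autoImplicit false

/-!
Glue between Sylow subgroups of stabilizers in multiply transitive groups (Witt's lemma) and
the orbit-kernel machinery (helper95).
-/

namespace Cfsg.Agent.Helper95.OrbKer

open MulAction Equiv
open scoped Pointwise

universe u

variable {𝔾 : Type*} [Group 𝔾] {α : Type u} [MulAction 𝔾 α]

theorem fixedPoints_subgroupOf (H K : Subgroup 𝔾) (hHK : H ≤ K) :
    fixedPoints (H.subgroupOf K) α = fixedPoints H α := by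
  ext ω
  constructor
  · intro h g
    exact h ⟨⟨g.1, hHK g.2⟩, Subgroup.mem_subgroupOf.mpr g.2⟩
  · intro h q
    exact h ⟨q.1.1, Subgroup.mem_subgroupOf.mp q.2⟩

/-- the normalizer of `Q₀`. -/
abbrev Nz (Q₀ : Subgroup 𝔾) : Subgroup 𝔾 := Subgroup.normalizer (Q₀ : Set 𝔾)

/-- `Q₀` inside its normalizer. -/
abbrev QN (Q₀ : Subgroup 𝔾) : Subgroup (Nz Q₀) := Q₀.subgroupOf (Nz Q₀)

theorem fixedPoints_QN (Q₀ : Subgroup 𝔾) : fixedPoints (QN Q₀) α = fixedPoints Q₀ α :=
  fixedPoints_subgroupOf _ _ Subgroup.le_normalizer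

variable [Finite 𝔾] [Fintype α] {p : ℕ} [Fact p.Prime]

/-- Witt's lemma in the form: the normalizer of a Sylow subgroup of the stabilizer of `t` points
induces a `t`-transitive group on its fixed points. -/
theorem witt {t : ℕ} (hG : IsMultiplyPretransitive 𝔾 α t) (x : Fin t ↪ α)
    (P : Sylow p (stabilizer 𝔾 x)) (Q₀ : Subgroup 𝔾)
    (hQ₀ : Q₀ = (P : Subgroup (stabilizer 𝔾 x)).map (stabilizer 𝔾 x).subtype) :
    IsMultiplyPretransitive (res (QN Q₀) α).range (fixSub (QN Q₀) α) t := by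
  refine ⟨fun a' b' => ?_⟩
  let ι : fixSub (QN Q₀) α ↪ α := ⟨Subtype.val, Subtype.val_injective⟩
  have hfix : fixedPoints (QN Q₀) α = fixedPoints Q₀ α := fixedPoints_QN Q₀
  have ha : ∀ i, (a'.trans ι) i ∈ fixedPoints
      ((P : Subgroup (stabilizer 𝔾 x)).map (stabilizer 𝔾 x).subtype) α := by
    intro i
    rw [← hQ₀, ← hfix]
    exact (a' i).2
  have hb : ∀ i, (b'.trans ι) i ∈ fixedPoints
      ((P : Subgroup (stabilizer 𝔾 x)).map (stabilizer 𝔾 x).subtype) α := by
    intro i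
    rw [← hQ₀, ← hfix]
    exact (b' i).2
  obtain ⟨g, hgN, hg⟩ := Cfsg.Agent.S4219.result hG x P (a'.trans ι) (b'.trans ι) ha hb
  rw [← hQ₀] at hgN
  refine ⟨⟨res (QN Q₀) α ⟨g, hgN⟩, ⟨_, rfl⟩⟩, ?_⟩
  ext i
  have h1 := congrArg (fun f : Fin t ↪ α => f i) hg
  exact h1

theorem smul_eq_of_mem_map {t : ℕ} (x : Fin t ↪ α) (S : Subgroup (stabilizer 𝔾 x)) (q : 𝔾)
    (hq : q ∈ S.map (stabilizer 𝔾 x).subtype) (i : Fin t) : q • x i = x i := by
  obtain ⟨q', _, rfl⟩ := Subgroup.mem_map.mp hq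
  have h1 : (q' : 𝔾) • x = x := q'.2
  exact congrArg (fun f : Fin t ↪ α => f i) h1

theorem two_mul_factorial_le (k N : ℕ) (hk : 2 ≤ k) (hN : k + 1 ≤ N) :
    2 * (k - 1).factorial + 2 ≤ N.factorial := by
  obtain ⟨k', rfl⟩ : ∃ k', k = k' + 2 := ⟨k - 2, by omega⟩
  have h1 : (k' + 2 + 1).factorial ≤ N.factorial := Nat.factorial_le hN
  have h2 : (k' + 2 + 1).factorial = (k' + 3) * ((k' + 2) * (k' + 1).factorial) := by
    rw [Nat.factorial_succ, Nat.factorial_succ]
  have h3 : k' + 2 - 1 = k' + 1 := by omega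
  rw [h3]
  have h4 := Nat.factorial_pos (k' + 1)
  have h5 : 3 * (2 * (k' + 1).factorial) ≤ (k' + 3) * ((k' + 2) * (k' + 1).factorial) :=
    Nat.mul_le_mul (by omega) (Nat.mul_le_mul_right _ (by omega))
  omega

/-- Glue for the general case. -/
theorem glueA [DecidableEq α] [FaithfulSMul 𝔾 α] {k r : ℕ} (hp2 : p ≠ 2)
    (hn : Fintype.card α = k * p + r) (hk : 2 ≤ k) (hkp : k < p) (hkr : k < r)
    (hG : IsMultiplyPretransitive 𝔾 α (r + 1)) (x : Fin (r + 1) ↪ α)
    (hdvd : p ∣ Nat.card (stabilizer 𝔾 x))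
    (IH : ∀ (β : Type u) [Fintype β] [DecidableEq β] (G' : Subgroup (Equiv.Perm β)) (j : ℕ),
      1 ≤ j → j < k → Fintype.card β = j * p + r →
      IsMultiplyPretransitive G' β (r + 1) → alternatingGroup β ≤ G') :
    ∃ g : 𝔾, (∃ ω : α, g • ω ≠ ω) ∧
      ∃ S : Set α, S.ncard ≤ 4 ∧ ∀ ω : α, ω ∉ S → g • ω = ω := by
  classical
  have hpp : p.Prime := Fact.out
  obtain ⟨P⟩ : Nonempty (Sylow p (stabilizer 𝔾 x)) := inferInstance
  have hPne : (P : Subgroup (stabilizer 𝔾 x)) ≠ ⊥ := P.ne_bot_of_dvd_card hdvd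
  obtain ⟨Q₀, hQ₀⟩ : ∃ Q₀ : Subgroup 𝔾,
      Q₀ = (P : Subgroup (stabilizer 𝔾 x)).map (stabilizer 𝔾 x).subtype := ⟨_, rfl⟩
  have hQ₀p : IsPGroup p Q₀ := by rw [hQ₀]; exact P.isPGroup'.map _
  have hQp : IsPGroup p (QN Q₀) := hQ₀p.comap_subtype
  have hfix : fixedPoints (QN Q₀) α = fixedPoints Q₀ α := fixedPoints_QN Q₀
  have hxfix : ∀ i, x i ∈ fixedPoints (QN Q₀) α := by
    intro i
    rw [hfix]
    intro q
    exact smul_eq_of_mem_map x _ q.1 (by rw [← hQ₀]; exact q.2) i
  have hcardfix : r + 1 ≤ Nat.card (fixedPoints (QN Q₀) α) := by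
    have hinj : Function.Injective
        (fun i : Fin (r + 1) => (⟨x i, hxfix i⟩ : fixedPoints (QN Q₀) α)) := by
      intro i j hij
      exact x.injective (congrArg Subtype.val hij)
    have h := Nat.card_le_card_of_injective _ hinj
    rw [Nat.card_eq_fintype_card, Fintype.card_fin] at h
    exact h
  have hmoved : ∃ ω : α, ω ∉ fixedPoints (QN Q₀) α := by
    have hQ₀ne : Q₀ ≠ ⊥ := by
      intro h
      apply hPne
      rw [hQ₀] at h
      exact (Subgroup.map_eq_bot_iff_of_injective _ (Subgroup.subtype_injective _)).mp h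
    obtain ⟨q, hq⟩ := (Subgroup.ne_bot_iff_exists_ne_one).mp hQ₀ne
    by_contra hcon
    push_neg at hcon
    apply hq
    apply Subtype.ext
    apply FaithfulSMul.eq_of_smul_eq_smul (α := α)
    intro ω
    have h1 := hcon ω
    rw [hfix] at h1
    rw [Subgroup.coe_one, one_smul]
    exact h1 q
  have hcardα : Nat.card α = k * p + r := by rw [Nat.card_eq_fintype_card, hn]
  have hsmall : Nat.card α < Nat.card (fixedPoints (QN Q₀) α) + p ^ 2 := by
    rw [hcardα]
    nlinarith
  have horb := card_orbit_eq (QN Q₀) p hQp hsmall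
  have hcount := card_T (QN Q₀) p horb
  rw [hcardα] at hcount
  have hTpos : 1 ≤ Nat.card (T (QN Q₀) α) := by
    obtain ⟨ω, hω⟩ := hmoved
    haveI : Nonempty (T (QN Q₀) α) := ⟨⟨orbit (QN Q₀) ω, ω, hω, rfl⟩⟩
    exact Nat.card_pos
  have hlk : Nat.card (T (QN Q₀) α) < k := by
    by_contra hcon
    push_neg at hcon
    have := Nat.mul_le_mul_right p hcon
    omega
  obtain ⟨j, hj⟩ : ∃ j, k = Nat.card (T (QN Q₀) α) + j := ⟨k - Nat.card (T (QN Q₀) α), by omega⟩
  have hfixcard : Nat.card (fixedPoints (QN Q₀) α) = j * p + r := by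
    rw [hj] at hcount
    nlinarith
  have hj1 : 1 ≤ j := by omega
  have hjk : j < k := by omega
  -- the induction hypothesis on the fixed points
  haveI : Fintype (fixSub (QN Q₀) α) := Fintype.ofFinite _
  have hcardβ : Fintype.card (fixSub (QN Q₀) α) = j * p + r := by
    rw [← Nat.card_eq_fintype_card]
    exact hfixcard
  have hA := IH (fixSub (QN Q₀) α) (res (QN Q₀) α).range j hj1 hjk hcardβ (witt hG x P Q₀ hQ₀)
  have hcardβ' : Nat.card (fixSub (QN Q₀) α) = j * p + r := hfixcard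
  have hp3 : 3 ≤ p := by
    have := hpp.two_le
    omega
  have hjp : p ≤ j * p := Nat.le_mul_of_pos_left p hj1
  obtain ⟨g, hg1, S, hS, hg2⟩ := caseA_core (QN Q₀) (m := k - 1) hp2 hQp horb (by omega) hA
    (by rw [hcardβ']; omega)
    (two_mul_factorial_le k _ hk (by rw [hcardβ']; omega))
  exact ⟨g.1, hg1, S, hS, hg2⟩

/-- in an `(r + 1)`-transitive group the stabilizer of `r` points has order divisible by the
number of remaining points. -/
theorem sub_dvd_card_stabilizer_init {r : ℕ} (hG : IsMultiplyPretransitive 𝔾 α (r + 1))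
    (x : Fin (r + 1) ↪ α) :
    (Nat.card α - r) ∣ Nat.card (stabilizer 𝔾 (Fin.Embedding.init x)) := by
  classical
  let xr : Fin r ↪ α := Fin.Embedding.init x
  have hxr : ∀ i, xr i = x i.castSucc := fun i => rfl
  have hlast : x (Fin.last r) ∉ Set.range xr := by
    rintro ⟨i, hi⟩
    rw [hxr] at hi
    exact (Fin.castSucc_lt_last i).ne (x.injective hi)
  have horbit : orbit (stabilizer 𝔾 xr) (x (Fin.last r)) = (Set.range xr)ᶜ := by
    ext y
    constructor
    · rintro ⟨h, rfl⟩ ⟨i, hi⟩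
      have h1 : (h : 𝔾) • xr = xr := h.2
      have h2 : (h : 𝔾) • xr i = xr i := congrArg (fun f : Fin r ↪ α => f i) h1
      have h3 : (h : 𝔾) • xr i = (h : 𝔾) • x (Fin.last r) := by rw [h2]; exact hi
      exact hlast ⟨i, smul_left_cancel _ h3⟩
    · intro hy
      haveI : IsPretransitive 𝔾 (Fin (r + 1) ↪ α) := hG
      obtain ⟨g, hg⟩ := exists_smul_eq 𝔾 x (Fin.Embedding.snoc xr hy)
      have hgs : g ∈ stabilizer 𝔾 xr := by
        rw [mem_stabilizer_iff]
        ext i
        have h1 := congrArg (fun f : Fin (r + 1) ↪ α => f i.castSucc) hg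
        simp only [Function.Embedding.smul_apply] at h1
        rw [Fin.Embedding.snoc_castSucc] at h1
        rw [Function.Embedding.smul_apply, hxr]
        exact h1
      refine ⟨⟨g, hgs⟩, ?_⟩
      have h1 := congrArg (fun f : Fin (r + 1) ↪ α => f (Fin.last r)) hg
      simp only [Function.Embedding.smul_apply] at h1
      rw [Fin.Embedding.snoc_last] at h1
      exact h1
  have h1 := index_stabilizer (stabilizer 𝔾 xr) (x (Fin.last r))
  rw [horbit, Set.ncard_compl, Set.ncard_range_of_injective xr.injective,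
    Nat.card_eq_fintype_card (α := Fin r), Fintype.card_fin] at h1
  have h2 := Subgroup.index_dvd_card (stabilizer (stabilizer 𝔾 xr) (x (Fin.last r)))
  rw [h1] at h2
  exact h2

/-- Glue for the cyclic case. -/
theorem glueB [DecidableEq α] {k r : ℕ} (hp5 : 5 ≤ p)
    (hn : Fintype.card α = k * p + r) (hk : 2 ≤ k) (hkp : k < p) (hkr : k < r)
    (hG : IsMultiplyPretransitive 𝔾 α (r + 1)) (x : Fin (r + 1) ↪ α)
    (hndvd : ¬ p ∣ Nat.card (stabilizer 𝔾 x)) :
    ∃ g : 𝔾, (∃ ω : α, g • ω ≠ ω) ∧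
      ∃ S : Set α, S.ncard ≤ r ∧ ∀ ω : α, ω ∉ S → g • ω = ω := by
  classical
  have hpp : p.Prime := Fact.out
  have hcardα : Nat.card α = k * p + r := by rw [Nat.card_eq_fintype_card, hn]
  -- (a) no stabilizer of `r + 1` points has order divisible by `p`
  have hA : ∀ y : Fin (r + 1) ↪ α, ¬ p ∣ Nat.card (stabilizer 𝔾 y) := by
    intro y
    haveI : IsPretransitive 𝔾 (Fin (r + 1) ↪ α) := hG
    obtain ⟨g, rfl⟩ := exists_smul_eq 𝔾 x y
    rw [stabilizer_smul_eq_stabilizer_map_conj,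
      Subgroup.card_map_of_injective (MulAut.conj g).injective]
    exact hndvd
  -- (b) a `p`-subgroup fixing `r + 1` points is trivial
  have hB : ∀ S : Subgroup 𝔾, IsPGroup p S → ∀ y : Fin (r + 1) ↪ α,
      (∀ s ∈ S, ∀ i, s • y i = y i) → S = ⊥ := by
    intro S hS y hy
    have hle : S ≤ stabilizer 𝔾 y := by
      intro s hs
      rw [mem_stabilizer_iff]
      ext i
      exact hy s hs i
    have hdvd := Subgroup.card_dvd_of_le hle
    obtain ⟨e, he⟩ := IsPGroup.iff_card.mp hS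
    rcases Nat.eq_zero_or_pos e with rfl | hepos
    · rw [pow_zero] at he
      exact Subgroup.eq_bot_of_card_eq S he
    · exfalso
      apply hA y
      refine dvd_trans ?_ hdvd
      rw [he]
      exact dvd_pow_self p (by omega)
  -- the first `r` points
  let xr : Fin r ↪ α := Fin.Embedding.init x
  have hxr : ∀ i, xr i = x i.castSucc := fun i => rfl
  have hlast : x (Fin.last r) ∉ Set.range xr := by
    rintro ⟨i, hi⟩
    rw [hxr] at hi
    exact (Fin.castSucc_lt_last i).ne (x.injective hi)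
  have hGr : IsMultiplyPretransitive 𝔾 α r :=
    isMultiplyPretransitive_of_le (n := r + 1) (by omega) (by rw [hcardα]; nlinarith)
  -- (c) `p` divides the order of the stabilizer of `xr`
  have hC : p ∣ Nat.card (stabilizer 𝔾 xr) := by
    have horbit : orbit (stabilizer 𝔾 xr) (x (Fin.last r)) = (Set.range xr)ᶜ := by
      ext y
      constructor
      · rintro ⟨h, rfl⟩ ⟨i, hi⟩
        have h1 : (h : 𝔾) • xr = xr := h.2
        have h2 : (h : 𝔾) • xr i = xr i := congrArg (fun f : Fin r ↪ α => f i) h1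
        have h3 : (h : 𝔾) • xr i = (h : 𝔾) • x (Fin.last r) := by rw [h2]; exact hi
        exact hlast ⟨i, smul_left_cancel _ h3⟩
      · intro hy
        haveI : IsPretransitive 𝔾 (Fin (r + 1) ↪ α) := hG
        obtain ⟨g, hg⟩ := exists_smul_eq 𝔾 x (Fin.Embedding.snoc xr hy)
        have hgs : g ∈ stabilizer 𝔾 xr := by
          rw [mem_stabilizer_iff]
          ext i
          have h1 := congrArg (fun f : Fin (r + 1) ↪ α => f i.castSucc) hg
          simp only [Function.Embedding.smul_apply] at h1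
          rw [Fin.Embedding.snoc_castSucc] at h1
          rw [Function.Embedding.smul_apply, hxr]
          exact h1
        refine ⟨⟨g, hgs⟩, ?_⟩
        have h1 := congrArg (fun f : Fin (r + 1) ↪ α => f (Fin.last r)) hg
        simp only [Function.Embedding.smul_apply] at h1
        rw [Fin.Embedding.snoc_last] at h1
        exact h1
    have h1 := index_stabilizer (stabilizer 𝔾 xr) (x (Fin.last r))
    rw [horbit, Set.ncard_compl, Set.ncard_range_of_injective xr.injective, hcardα,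
      Nat.card_eq_fintype_card, Fintype.card_fin, Nat.add_sub_cancel] at h1
    have h2 := Subgroup.index_dvd_card (stabilizer (stabilizer 𝔾 xr) (x (Fin.last r)))
    rw [h1] at h2
    exact dvd_trans (dvd_mul_left p k) h2
  obtain ⟨P⟩ : Nonempty (Sylow p (stabilizer 𝔾 xr)) := inferInstance
  have hPne : (P : Subgroup (stabilizer 𝔾 xr)) ≠ ⊥ := P.ne_bot_of_dvd_card hC
  obtain ⟨Q₀, hQ₀⟩ : ∃ Q₀ : Subgroup 𝔾,
      Q₀ = (P : Subgroup (stabilizer 𝔾 xr)).map (stabilizer 𝔾 xr).subtype := ⟨_, rfl⟩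
  have hQ₀p : IsPGroup p Q₀ := by rw [hQ₀]; exact P.isPGroup'.map _
  have hQp : IsPGroup p (QN Q₀) := hQ₀p.comap_subtype
  have hfix : fixedPoints (QN Q₀) α = fixedPoints Q₀ α := fixedPoints_QN Q₀
  have hQ₀ne : Q₀ ≠ ⊥ := by
    intro h
    apply hPne
    rw [hQ₀] at h
    exact (Subgroup.map_eq_bot_iff_of_injective _ (Subgroup.subtype_injective _)).mp h
  -- (d) the fixed points of `Q₀` are exactly the range of `xr`
  have hfixeq : fixedPoints Q₀ α = Set.range xr := by
    ext ω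
    constructor
    · intro hω
      by_contra hnot
      apply hQ₀ne
      apply hB Q₀ hQ₀p (Fin.Embedding.snoc xr hnot)
      intro s hs i
      refine Fin.lastCases ?_ (fun i' => ?_) i
      · rw [Fin.Embedding.snoc_last]
        exact hω ⟨s, hs⟩
      · rw [Fin.Embedding.snoc_castSucc]
        exact smul_eq_of_mem_map xr _ s (by rw [← hQ₀]; exact hs) i'
    · rintro ⟨i, rfl⟩ q
      exact smul_eq_of_mem_map xr _ q.1 (by rw [← hQ₀]; exact q.2) i
  have hfixcard : Nat.card (fixedPoints (QN Q₀) α) = r := by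
    rw [hfix, hfixeq, Nat.card_coe_set_eq, Set.ncard_range_of_injective xr.injective,
      Nat.card_eq_fintype_card, Fintype.card_fin]
  have hsmall : Nat.card α < Nat.card (fixedPoints (QN Q₀) α) + p ^ 2 := by
    rw [hcardα, hfixcard]
    nlinarith
  have horb := card_orbit_eq (QN Q₀) p hQp hsmall
  have hcount := card_T (QN Q₀) p horb
  rw [hcardα, hfixcard] at hcount
  have hTk : Nat.card (T (QN Q₀) α) = k := by
    have h1 : Nat.card (T (QN Q₀) α) * p = k * p := by omega
    exact Nat.eq_of_mul_eq_mul_right hpp.pos h1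
  -- (e) `Q` has order `p`
  have hmoved : ∃ ω : α, ω ∉ fixedPoints (QN Q₀) α := by
    by_contra hcon
    push_neg at hcon
    have h1 : fixedPoints (QN Q₀) α = Set.univ := Set.eq_univ_of_forall hcon
    have h2 : Nat.card (fixedPoints (QN Q₀) α) = Nat.card α := by
      rw [h1, Nat.card_coe_set_eq, Set.ncard_univ]
    rw [hfixcard, hcardα] at h2
    have := Nat.mul_pos (by omega : 0 < k) hpp.pos
    omega
  obtain ⟨ω, hω⟩ := hmoved
  have hstab : stabilizer (QN Q₀) ω = ⊥ := by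
    rw [eq_bot_iff]
    intro q hq
    rw [Subgroup.mem_bot]
    have hnot : ω ∉ Set.range xr := by rw [← hfixeq, ← hfix]; exact hω
    have hS : Q₀ ⊓ stabilizer 𝔾 ω = ⊥ := by
      apply hB _ (hQ₀p.to_le inf_le_left) (Fin.Embedding.snoc xr hnot)
      intro s hs i
      refine Fin.lastCases ?_ (fun i' => ?_) i
      · rw [Fin.Embedding.snoc_last]
        exact hs.2
      · rw [Fin.Embedding.snoc_castSucc]
        exact smul_eq_of_mem_map xr _ s (by rw [← hQ₀]; exact hs.1) i'
    have h1 : ((q : Nz Q₀) : 𝔾) ∈ Q₀ ⊓ stabilizer 𝔾 ω :=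
      ⟨Subgroup.mem_subgroupOf.mp q.2, hq⟩
    rw [hS, Subgroup.mem_bot] at h1
    exact Subtype.ext (Subtype.ext h1)
  have hQcard : Nat.card (QN Q₀) = p := by
    have h1 := index_stabilizer (QN Q₀) ω
    rw [hstab, Subgroup.index_bot, ← Nat.card_coe_set_eq, horb ω hω] at h1
    exact h1
  -- a generator
  haveI : Nontrivial (QN Q₀) := Finite.one_lt_card_iff_nontrivial.mp (hQcard ▸ hpp.one_lt)
  obtain ⟨x₁, hx₁⟩ : ∃ x₁ : QN Q₀, x₁ ≠ 1 := exists_ne 1
  have hQx : QN Q₀ = Subgroup.zpowers (x₁ : Nz Q₀) := by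
    apply le_antisymm
    · intro q hq
      have h1 := mem_zpowers_of_prime_card hQcard hx₁ (g' := ⟨q, hq⟩)
      obtain ⟨i, hi⟩ := Subgroup.mem_zpowers_iff.mp h1
      refine Subgroup.mem_zpowers_iff.mpr ⟨i, ?_⟩
      have h2 := congrArg Subtype.val hi
      rw [Subgroup.coe_zpow] at h2
      exact h2
    · rw [Subgroup.zpowers_le]
      exact x₁.2
  have hx₁p : (x₁ : Nz Q₀) ^ p = 1 := by
    have h1 := pow_card_eq_one' (x := x₁)
    rw [hQcard] at h1
    have h2 := congrArg Subtype.val h1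
    rwa [Subgroup.coe_pow] at h2
  -- surjectivity of the restriction
  have hβcard : Nat.card (fixSub (QN Q₀) α) = r := hfixcard
  have hsurj : Function.Surjective (res (QN Q₀) α) := by
    intro σ
    haveI : Fintype (fixSub (QN Q₀) α) := Fintype.ofFinite _
    have hc : Fintype.card (fixSub (QN Q₀) α) = r := by
      rw [← Nat.card_eq_fintype_card]; exact hβcard
    let e : fixSub (QN Q₀) α ≃ Fin r := Fintype.equivFinOfCardEq hc
    have hW := witt hGr xr P Q₀ hQ₀
    haveI : IsPretransitive (res (QN Q₀) α).range (Fin r ↪ fixSub (QN Q₀) α) := hW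
    obtain ⟨g, hg⟩ := exists_smul_eq (res (QN Q₀) α).range e.symm.toEmbedding
      (e.symm.toEmbedding.trans σ.toEmbedding)
    obtain ⟨m, hm⟩ := g.2
    refine ⟨m, ?_⟩
    rw [hm]
    ext y : 1
    have h1 := congrArg (fun f : Fin r ↪ fixSub (QN Q₀) α => f (e y)) hg
    simp only [Function.Embedding.smul_apply, Function.Embedding.trans_apply,
      Equiv.coe_toEmbedding, Equiv.symm_apply_apply] at h1
    exact h1
  obtain ⟨g, hg1, hg2⟩ := caseB_core (QN Q₀) hpp hp5 (x₁ : Nz Q₀) hx₁p hQx hTk.le hsurj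
    (by rw [hβcard]; omega)
    (by rw [hβcard]; exact (Nat.factorial_lt (by omega)).mpr hkr)
  refine ⟨g.1, hg1, fixedPoints (QN Q₀) α, ?_, hg2⟩
  rw [← Nat.card_coe_set_eq, hfixcard]

end Cfsg.Agent.Helper95.OrbKer
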