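import Mathlib
import Cfsg.Agent.Lib.Helper38.SL2Lift
import Cfsg.Agent.Lib.Helper38.SL2PresMain

/-!
# R1 (KER) (helper83 server, S5022): the kernel of a hom from `SL₂(K)` separating root elements is central
-/

set_option autoImplicit false

namespace Cfsg.Agent.Helper95.R1

open Cfsg.Agent.Helper38.SL2Pres

/-- general-field version of (KER) -/
theorem ker_le_center_field {K : Type*} [Field K] {Γ : Type*} [Group Γ]
    (Φ : Matrix.SpecialLinearGroup (Fin 2) K →* Γ)
    (h2 : ∀ s : K, s ≠ 0 → Φ (xmat s) * Φ (ymat 1) ≠ Φ (ymat 1) * Φ (xmat s))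
    (h3 : ∀ t : K, Φ (xmat 1) ≠ Φ (ymat t)) :
    Φ.ker ≤ Subgroup.center (Matrix.SpecialLinearGroup (Fin 2) K) := by
  intro g hg
  rw [MonoidHom.mem_ker] at hg
  have h2' : ∀ s : K, Φ (xmat s) = 1 → s = 0 := by
    intro s hs
    by_contra hne
    exact h2 s hne (by rw [hs, one_mul, mul_one])
  obtain ⟨α, β, γ, δ, hgm, hdet⟩ : ∃ α β γ δ : K,
      (g : Matrix (Fin 2) (Fin 2) K) = !![α, β; γ, δ] ∧ α * δ - β * γ = 1 := by
    refine ⟨g.1 0 0, g.1 0 1, g.1 1 0, g.1 1 1, Matrix.eta_fin_two g.1, ?_⟩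
    have := g.2
    rwa [Matrix.det_fin_two] at this
  by_cases hγ : γ = 0
  · subst hγ
    have hαδ : α * δ = 1 := by
      rw [mul_zero, sub_zero] at hdet
      exact hdet
    have hα0 : α ≠ 0 := by
      intro h0
      rw [h0, zero_mul] at hαδ
      exact zero_ne_one hαδ
    have e1 : g * xmat 1 = xmat (α ^ 2) * g := by
      apply sl_ext
      simp only [Matrix.SpecialLinearGroup.coe_mul, xmat_coe, hgm, Matrix.mul_fin_two]
      apply mat2_ext
      · ring
      · linear_combination (-α) * hαδ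
      · ring
      · ring
    have e2 : Φ (xmat 1) = Φ (xmat (α ^ 2)) := by
      have := congrArg Φ e1
      rwa [map_mul, map_mul, hg, one_mul, mul_one] at this
    have e3 : Φ (xmat (α ^ 2 - 1)) = 1 := by
      have h := xmat_add (α ^ 2 - 1) (1 : K)
      rw [sub_add_cancel] at h
      have := congrArg Φ h
      rw [map_mul, ← e2] at this
      exact mul_eq_right.mp this
    have hα2 : α ^ 2 - 1 = 0 := h2' _ e3
    have hδ : α = δ := by linear_combination δ * hα2 - α * hαδ
    subst hδ
    -- the scalar part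
    have ez : ((g * xmat (-(α * β)) : Matrix.SpecialLinearGroup (Fin 2) K) :
        Matrix (Fin 2) (Fin 2) K) = !![α, 0; 0, α] := by
      simp only [Matrix.SpecialLinearGroup.coe_mul, xmat_coe, hgm, Matrix.mul_fin_two]
      apply mat2_ext
      · ring
      · linear_combination (-β) * hα2
      · ring
      · ring
    have ecomm : (g * xmat (-(α * β))) * ymat 1 = ymat 1 * (g * xmat (-(α * β))) := by
      apply sl_ext
      rw [Matrix.SpecialLinearGroup.coe_mul, Matrix.SpecialLinearGroup.coe_mul (ymat 1), ez]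
      simp only [ymat_coe, Matrix.mul_fin_two]
      apply mat2_ext <;> ring
    have e4 : Φ (xmat (-(α * β))) * Φ (ymat 1) = Φ (ymat 1) * Φ (xmat (-(α * β))) := by
      have := congrArg Φ ecomm
      rwa [map_mul, map_mul, map_mul, map_mul, hg, one_mul] at this
    have hαβ : -(α * β) = 0 := by
      by_contra hne
      exact h2 _ hne e4
    have hβ : β = 0 := by
      rw [neg_eq_zero, mul_eq_zero] at hαβ
      rcases hαβ with h | h
      · exact absurd h hα0
      · exact h
    subst hβ
    rw [Subgroup.mem_center_iff]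
    intro k
    apply sl_ext
    rw [Matrix.SpecialLinearGroup.coe_mul, Matrix.SpecialLinearGroup.coe_mul, hgm,
      Matrix.eta_fin_two k.1]
    simp only [Matrix.mul_fin_two]
    apply mat2_ext <;> ring
  · exfalso
    set t : K := -γ⁻¹ with ht
    have ht0 : t ≠ 0 := by
      rw [ht]
      exact neg_ne_zero.mpr (inv_ne_zero hγ)
    have ew : xmat t * ymat (-t⁻¹) * xmat t = xmat (-(α / γ)) * g * xmat (-(δ / γ)) := by
      apply sl_ext
      rw [wmat_coe ht0]
      simp only [Matrix.SpecialLinearGroup.coe_mul, xmat_coe, hgm, Matrix.mul_fin_two]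
      apply mat2_ext
      · field_simp
        ring
      · rw [ht]
        field_simp
        linear_combination hdet
      · rw [ht]
        field_simp
        ring
      · field_simp
        ring
    have eΦw : Φ (xmat t * ymat (-t⁻¹) * xmat t) = Φ (xmat (-(α / γ) + -(δ / γ))) := by
      rw [ew, map_mul, map_mul, hg, mul_one, ← map_mul, xmat_add]
    have ecomm : Φ (xmat t * ymat (-t⁻¹) * xmat t) * Φ (xmat 1) =
        Φ (xmat 1) * Φ (xmat t * ymat (-t⁻¹) * xmat t) := by
      rw [eΦw, ← map_mul, ← map_mul, xmat_add, xmat_add, add_comm]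
    have econj := congrArg Φ (wmat_conj_x ht0 (1 : K))
    rw [map_mul, map_mul, map_inv, ecomm, mul_inv_cancel_right] at econj
    exact h3 _ econj

variable {Γ : Type*} [Group Γ] {p : ℕ} [Fact p.Prime]

/-- (KER) -/
theorem ker_le_center (Φ : Matrix.SpecialLinearGroup (Fin 2) (ZMod p) →* Γ)
    (h2 : ∀ s : ZMod p, s ≠ 0 → Φ (xmat s) * Φ (ymat 1) ≠ Φ (ymat 1) * Φ (xmat s))
    (h3 : ∀ t : ZMod p, Φ (xmat 1) ≠ Φ (ymat t)) :
    Φ.ker ≤ Subgroup.center (Matrix.SpecialLinearGroup (Fin 2) (ZMod p)) :=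
  ker_le_center_field Φ h2 h3

end Cfsg.Agent.Helper95.R1
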