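import Mathlib
import Cfsg.Prelude.Def_RootSubgroups
import Cfsg.Agent.Lib.Helper83.Conj
import Cfsg.Agent.Lib.Helper83.CommMod
import Cfsg.Agent.Lib.Helper83.RankOne
import Cfsg.Agent.Lib.Helper83.RankOneNormal
import Cfsg.Agent.Lib.Helper83.RootBasic
import Cfsg.Agent.Lib.Helper83.RootLemmas
import Cfsg.Agent.Lib.Helper83.Root30
import Cfsg.Agent.Lib.Helper83.R2N1
import Cfsg.Agent.Lib.Helper83.R2E
import Cfsg.Agent.Lib.Helper83.R2G
import Cfsg.Agent.Lib.Helper83.R3Defs
import Cfsg.Agent.Lib.Helper94.RootComm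
import Cfsg.Agent.Lib.Helper94.RootMap
import Cfsg.Agent.S5029

set_option autoImplicit false

namespace Cfsg.Agent.Helper95.R3

open Cfsg Cfsg.Agent.Helper83 Cfsg.Agent.Helper83.R2 Cfsg.Agent.Helper83.R3 Cfsg.Agent.Helper94
open scoped commutatorElement

variable {G : Type*} [Group G] {S : Set (Subgroup G)} {N : Subgroup G}

/-- (CJ) All members of `S` are conjugate. -/
theorem conj_of_connected (h1 : IsConnectedFamily (FAdj S) S)
    (h4 : ∀ A ∈ S, ∀ B ∈ rankOnePartners S A, IsSpecialRankOnePair A B) :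
    ∀ A ∈ S, ∀ B ∈ S, ∃ g : G, B = conjBy A g := by
  intro A hA B hB
  have key : ∀ B, Relation.ReflTransGen (FAdj S) A B → ∃ g : G, B = conjBy A g := by
    intro B h
    induction h with
    | refl => exact ⟨1, (conjBy_one A).symm⟩
    | @tail C B' _ hCB ih =>
      obtain ⟨g, hg⟩ := ih
      obtain ⟨hC, hB', hr⟩ := hCB
      have hs := h4 C hC B' ⟨hB', hr⟩
      obtain ⟨c, hc, hc1⟩ := exists_mem_ne_one_of_ne_bot (rankOne_ne_bot_left hr)
      have h5 := (nEl_conj hs hc hc1).1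
      refine ⟨nEl C B' c * g, ?_⟩
      rw [← conjBy_conjBy, ← hg, h5]
  exact key B (h1 A hA B hB)

end Cfsg.Agent.Helper95.R3
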