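import Mathlib
import Cfsg.Prelude.Def_RootSubgroups
import Cfsg.Agent.Lib.Helper83.Conj
import Cfsg.Agent.Lib.Helper83.CommMod
import Cfsg.Agent.Lib.Helper83.RankOne
import Cfsg.Agent.Lib.Helper83.RankOneNormal
import Cfsg.Agent.Lib.Helper83.RootBasic
import Cfsg.Agent.Lib.Helper83.RootLemmas
import Cfsg.Agent.Lib.Helper83.Root30
import Cfsg.Agent.Lib.Helper83.R2N1
import Cfsg.Agent.Lib.Helper83.R2E
import Cfsg.Agent.Lib.Helper83.R2G
import Cfsg.Agent.Lib.Helper83.R3Defs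
import Cfsg.Agent.Lib.Helper94.RootComm
import Cfsg.Agent.Lib.Helper94.RootMap
import Cfsg.Agent.S5029

set_option autoImplicit false

namespace Cfsg.Agent.Helper95.R3

open Cfsg Cfsg.Agent.Helper83 Cfsg.Agent.Helper83.R2 Cfsg.Agent.Helper83.R3 Cfsg.Agent.Helper94
open scoped commutatorElement

variable {G : Type*} [Group G] {S : Set (Subgroup G)} {N : Subgroup G}

/-- (PT) Every member has a rank one partner. -/
theorem partner_of_connected (h2 : ∃ A ∈ S, ∃ B ∈ S, A ≠ B)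
    (h1 : IsConnectedFamily (FAdj S) S) : ∀ A ∈ S, ∃ B ∈ S, IsRankOnePair A B := by
  intro A hA
  obtain ⟨B, hB, hBA⟩ : ∃ B ∈ S, B ≠ A := by
    obtain ⟨A₁, hA₁, B₁, hB₁, hne⟩ := h2
    by_cases h : A₁ = A
    · exact ⟨B₁, hB₁, fun h' => hne (h.trans h'.symm)⟩
    · exact ⟨A₁, hA₁, h⟩
  have h := h1 A hA B hB
  rcases Relation.ReflTransGen.cases_head h with h | ⟨C, hAC, _⟩
  · exact absurd h.symm hBA
  · exact ⟨C, hAC.2.1, hAC.2.2⟩

end Cfsg.Agent.Helper95.R3
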