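import Mathlib
import Cfsg.Agent.S0711

/-!
# Maximality of set stabilisers in highly transitive groups

In an `(m+2)`-transitive permutation group of degree `> 2m`, the setwise stabiliser of an
`m`-set is a maximal subgroup (block argument, no arithmetic).
-/

set_option autoImplicit false
open scoped Pointwise
open Equiv MulAction

namespace Cfsg.Agent.Helper95

variable {α : Type*} [Fintype α] [DecidableEq α]

theorem smul_finset_eq_of_fix (G : Subgroup (Perm α)) (g : G) (t : Finset α)
    (h : ∀ a ∈ t, (g : Perm α) a = a) : g • t = t := by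
  change t.image (fun a => g • a) = t
  conv_rhs => rw [← Finset.image_id (s := t)]
  exact Finset.image_congr (fun a ha => h a ha)

theorem mem_smul_finset_of_mem (G : Subgroup (Perm α)) (g : G) (t : Finset α) (a : α)
    (h : a ∈ t) : (g : Perm α) a ∈ g • t :=
  Finset.smul_mem_smul_finset (a := g) h

theorem exists_of_mem_smul_finset (G : Subgroup (Perm α)) (g : G) (t : Finset α) (w : α)
    (h : w ∈ g • t) : ∃ a ∈ t, (g : Perm α) a = w := by
  obtain ⟨a, ha, rfl⟩ := Finset.mem_smul_finset.mp h
  exact ⟨a, ha, rfl⟩

/-- In an `(m+2)`-transitive group of degree `> 2m`, the setwise stabiliser of an `m`-set is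
maximal. -/
theorem isCoatom_stabilizer_finset (G : Subgroup (Perm α)) (m : ℕ) (hm : 1 ≤ m)
    (hn : 2 * m < Fintype.card α) (hG : IsMultiplyPretransitive G α (m + 2))
    (s : Finset α) (hs : s.card = m) : IsCoatom (stabilizer G s) := by
  have hkn : m + 2 ≤ Fintype.card α := by omega
  have hG1 : IsMultiplyPretransitive G α (m + 1) :=
    isMultiplyPretransitive_of_le (n := m + 2) (by omega)
      (by rw [Nat.card_eq_fintype_card]; exact hkn)
  constructor
  · obtain ⟨x, hx⟩ : s.Nonempty := Finset.card_pos.mp (by omega)
    obtain ⟨z, hz⟩ : ∃ z, z ∉ s := by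
      by_contra h
      push_neg at h
      have : s = Finset.univ := Finset.eq_univ_iff_forall.mpr h
      rw [this, Finset.card_univ] at hs
      omega
    obtain ⟨g, hgG, -, hgx⟩ := Cfsg.Agent.S0711.exists_fix_move G hkn hG ∅ (by simp) x z
      (by simp) (by simp)
    intro htop
    have h1 : (⟨g, hgG⟩ : G) ∈ stabilizer G s := by rw [htop]; trivial
    rw [mem_stabilizer_iff] at h1
    have hz' : z ∈ (⟨g, hgG⟩ : G) • s := by
      rw [← hgx]
      exact mem_smul_finset_of_mem G ⟨g, hgG⟩ s x hx
    rw [h1] at hz'
    exact hz hz'
  · intro K hK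
    let O : Finset α → Prop := fun t => ∃ k ∈ K, k • s = t
    have hsO : O s := ⟨1, K.one_mem, one_smul _ _⟩
    have hcard : ∀ t, O t → t.card = m := by
      rintro t ⟨k, -, rfl⟩
      rw [Finset.card_smul_finset, hs]
    have ha : ∀ (t : Finset α) (g : G), O t → O (g • t) → g ∈ K := by
      rintro t g ⟨k, hk, rfl⟩ ⟨k', hk', h⟩
      have h1 : (k'⁻¹ * g * k) ∈ stabilizer G s := by
        rw [mem_stabilizer_iff, mul_smul, mul_smul, ← h, inv_smul_smul]
      have h2 := K.mul_mem (K.mul_mem hk' (hK.le h1)) (K.inv_mem hk)
      have h3 : k' * (k'⁻¹ * g * k) * k⁻¹ = g := by group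
      rwa [h3] at h2
    have hb : ∀ (t u : Finset α) (g : G), O t → g • t = t → O u → O (g • u) := by
      intro t u g ht hgt hu
      have hgK : g ∈ K := ha t g ht (by rw [hgt]; exact ht)
      obtain ⟨k, hk, rfl⟩ := hu
      exact ⟨g * k, K.mul_mem hgK hk, mul_smul _ _ _⟩
    have hKO : ∀ (u : Finset α) (k : G), k ∈ K → O u → O (k • u) := by
      rintro u k hk ⟨k1, hk1, rfl⟩
      exact ⟨k * k1, K.mul_mem hk hk1, mul_smul _ _ _⟩
    obtain ⟨t0, ht0, hne0⟩ : ∃ t, O t ∧ t ≠ s := by
      obtain ⟨k, hkK, hk⟩ := SetLike.exists_of_lt hK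
      exact ⟨k • s, ⟨k, hkK, rfl⟩, fun h => hk (mem_stabilizer_iff.mpr h)⟩
    -- descent
    have hd : ∀ d, ∀ t, O t → t ≠ s → (s \ t).card = d → ∃ t', O t' ∧ (s \ t').card = 1 := by
      intro d
      induction d using Nat.strong_induction_on with
      | _ d ih =>
        intro t ht hne hdt
        rcases Nat.lt_or_ge d 2 with hd2 | hd2
        · interval_cases d
          · exfalso
            apply hne
            have : s ⊆ t := Finset.sdiff_eq_empty_iff_subset.mp (Finset.card_eq_zero.mp hdt)
            exact (Finset.eq_of_subset_of_card_le this (by rw [hcard t ht, hs])).symm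
          · exact ⟨t, ht, hdt⟩
        · obtain ⟨x, y, hx, hy, hxy⟩ : ∃ x y, x ∈ s \ t ∧ y ∈ s \ t ∧ x ≠ y := by
            have : 1 < (s \ t).card := by omega
            obtain ⟨x, hx, y, hy, hxy⟩ := Finset.one_lt_card.mp this
            exact ⟨x, y, hx, hy, hxy⟩
          obtain ⟨z, hz⟩ : ∃ z, z ∉ s ∪ t := by
            by_contra h
            push_neg at h
            have : s ∪ t = Finset.univ := Finset.eq_univ_iff_forall.mpr h
            have h2 := Finset.card_union_le s t
            rw [this, Finset.card_univ, hs, hcard t ht] at h2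
            omega
          rw [Finset.mem_sdiff] at hx hy
          rw [Finset.mem_union, not_or] at hz
          have hzx : z ≠ x := by rintro rfl; exact hz.1 hx.1
          obtain ⟨g, hgG, hgT, hgy⟩ := Cfsg.Agent.S0711.exists_fix_move G hkn hG (insert x t)
            (by rw [Finset.card_insert_of_notMem hx.2, hcard t ht]) y z
            (by simp [hy.2, hxy.symm]) (by simp [hz.2, hzx])
          have hgt : (⟨g, hgG⟩ : G) • t = t :=
            smul_finset_eq_of_fix G ⟨g, hgG⟩ t (fun a ha => hgT a (Finset.mem_insert_of_mem ha))
          have hO' : O ((⟨g, hgG⟩ : G) • s) := hb t s ⟨g, hgG⟩ ht hgt hsO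
          have hzt' : z ∈ (⟨g, hgG⟩ : G) • s := by
            rw [← hgy]
            exact mem_smul_finset_of_mem G ⟨g, hgG⟩ s y hy.1
          have hne' : (⟨g, hgG⟩ : G) • s ≠ s := fun h => hz.1 (h ▸ hzt')
          have hsub : s \ ((⟨g, hgG⟩ : G) • s) ⊆ (s \ t).erase x := by
            intro w hw
            rw [Finset.mem_sdiff] at hw
            rw [Finset.mem_erase, Finset.mem_sdiff]
            refine ⟨?_, hw.1, ?_⟩
            · rintro rfl
              apply hw.2
              have := mem_smul_finset_of_mem G ⟨g, hgG⟩ s w hw.1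
              rwa [show ((⟨g, hgG⟩ : G) : Perm α) w = w from hgT w (Finset.mem_insert_self _ _)]
                at this
            · intro hwt
              apply hw.2
              have := mem_smul_finset_of_mem G ⟨g, hgG⟩ s w hw.1
              rwa [show ((⟨g, hgG⟩ : G) : Perm α) w = w from
                hgT w (Finset.mem_insert_of_mem hwt)] at this
          have hlt : (s \ ((⟨g, hgG⟩ : G) • s)).card < d := by
            have h1 := Finset.card_le_card hsub
            rw [Finset.card_erase_of_mem (Finset.mem_sdiff.mpr hx), hdt] at h1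
            omega
          exact ih _ hlt _ hO' hne' rfl
    obtain ⟨t1, ht1, ht1c⟩ := hd _ t0 ht0 hne0 rfl
    -- all neighbours of `s`
    have he' : ∀ v : Finset α, v.card = m → (s \ v).card = 1 → O v := by
      intro v hv hsv
      have hvs : (v \ s).card = 1 := by
        rw [← hsv]; exact Finset.card_sdiff_comm (by rw [hv, hs])
      have ht1s : (t1 \ s).card = 1 := by
        rw [← ht1c]; exact Finset.card_sdiff_comm (by rw [hcard t1 ht1, hs])
      obtain ⟨x, hx⟩ := Finset.card_eq_one.mp ht1c
      obtain ⟨z, hz⟩ := Finset.card_eq_one.mp ht1s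
      obtain ⟨x', hx'⟩ := Finset.card_eq_one.mp hsv
      obtain ⟨z', hz'⟩ := Finset.card_eq_one.mp hvs
      have hxm : x ∈ s ∧ x ∉ t1 := by
        rw [← Finset.mem_sdiff, hx]; exact Finset.mem_singleton_self _
      have hzm : z ∈ t1 ∧ z ∉ s := by
        rw [← Finset.mem_sdiff, hz]; exact Finset.mem_singleton_self _
      have hxm' : x' ∈ s ∧ x' ∉ v := by
        rw [← Finset.mem_sdiff, hx']; exact Finset.mem_singleton_self _
      have hzm' : z' ∈ v ∧ z' ∉ s := by
        rw [← Finset.mem_sdiff, hz']; exact Finset.mem_singleton_self _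
      have hsv_iff : ∀ w, w ∈ s → w ≠ x' → w ∈ v := by
        intro w hw hne
        by_contra hwv
        have : w ∈ s \ v := Finset.mem_sdiff.mpr ⟨hw, hwv⟩
        rw [hx', Finset.mem_singleton] at this
        exact hne this
      have ht1_iff : ∀ w, w ∈ t1 → w ∉ s → w = z := by
        intro w hw hws
        have : w ∈ t1 \ s := Finset.mem_sdiff.mpr ⟨hw, hws⟩
        rwa [hz, Finset.mem_singleton] at this
      obtain ⟨g, hgG, hg⟩ := Cfsg.Agent.S0711.exists_agree G (m + 1) hG1 (insert z s)
        (by rw [Finset.card_insert_of_notMem hzm.2, hs]) (Equiv.swap x x' * Equiv.swap z z')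
      have hπs : ∀ w ∈ s, (Equiv.swap x x' * Equiv.swap z z') w = Equiv.swap x x' w := by
        intro w hw
        have h1 : w ≠ z := by rintro rfl; exact hzm.2 hw
        have h2 : w ≠ z' := by rintro rfl; exact hzm'.2 hw
        rw [Perm.mul_apply, Equiv.swap_apply_of_ne_of_ne h1 h2]
      have hswap_mem : ∀ w ∈ s, Equiv.swap x x' w ∈ s := by
        intro w hw
        by_cases h1 : w = x
        · rw [h1, Equiv.swap_apply_left]; exact hxm'.1
        · by_cases h2 : w = x'
          · rw [h2, Equiv.swap_apply_right]; exact hxm.1
          · rw [Equiv.swap_apply_of_ne_of_ne h1 h2]; exact hw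
      have hgs : (⟨g, hgG⟩ : G) • s = s := by
        apply Finset.eq_of_subset_of_card_le
        · intro w hw
          obtain ⟨a, ha, rfl⟩ := exists_of_mem_smul_finset G ⟨g, hgG⟩ s w hw
          change g a ∈ s
          rw [hg a (Finset.mem_insert_of_mem ha), hπs a ha]
          exact hswap_mem a ha
        · rw [Finset.card_smul_finset]
      have hgv : (⟨g, hgG⟩ : G) • t1 = v := by
        apply Finset.eq_of_subset_of_card_le
        · intro w hw
          obtain ⟨a, ha, rfl⟩ := exists_of_mem_smul_finset G ⟨g, hgG⟩ t1 w hw
          change g a ∈ v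
          by_cases has : a ∈ s
          · rw [hg a (Finset.mem_insert_of_mem has), hπs a has]
            have hax : a ≠ x := by rintro rfl; exact hxm.2 ha
            by_cases h2 : a = x'
            · rw [h2, Equiv.swap_apply_right]
              apply hsv_iff x hxm.1
              rintro rfl
              exact hax h2
            · rw [Equiv.swap_apply_of_ne_of_ne hax h2]
              exact hsv_iff a has h2
          · have haz : a = z := ht1_iff a ha has
            rw [haz, hg z (Finset.mem_insert_self _ _), Perm.mul_apply, Equiv.swap_apply_left,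
              Equiv.swap_apply_of_ne_of_ne]
            · exact hzm'.1
            · rintro rfl; exact hzm'.2 hxm.1
            · rintro rfl; exact hzm'.2 hxm'.1
        · rw [Finset.card_smul_finset, hcard t1 ht1, hv]
      rw [← hgv]
      exact hb s t1 ⟨g, hgG⟩ hsO hgs ht1
    -- all neighbours of any member of `O`
    have he'' : ∀ u, O u → ∀ v : Finset α, v.card = m → (u \ v).card = 1 → O v := by
      rintro u ⟨k, hk, rfl⟩ v hv huv
      have h1 : O (k⁻¹ • v) := by
        apply he'
        · rw [Finset.card_smul_finset, hv]
        · have : s \ k⁻¹ • v = k⁻¹ • (k • s \ v) := by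
            rw [Finset.smul_finset_sdiff, inv_smul_smul]
          rw [this, Finset.card_smul_finset, huv]
      have := hKO _ k hk h1
      rwa [smul_inv_smul] at this
    -- connectivity
    have hf : ∀ d, ∀ u, O u → ∀ v : Finset α, v.card = m → (v \ u).card = d → O v := by
      intro d
      induction d with
      | zero =>
        intro u hu v hv hvu
        have : v ⊆ u := Finset.sdiff_eq_empty_iff_subset.mp (Finset.card_eq_zero.mp hvu)
        rw [Finset.eq_of_subset_of_card_le this (by rw [hcard u hu, hv])]
        exact hu
      | succ d ih =>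
        intro u hu v hv hvu
        have huc := hcard u hu
        obtain ⟨z, hz⟩ : (v \ u).Nonempty := Finset.card_pos.mp (by omega)
        have huv : (u \ v).card = d + 1 := by
          rw [← hvu]; exact Finset.card_sdiff_comm (by rw [huc, hv])
        obtain ⟨x, hx⟩ : (u \ v).Nonempty := Finset.card_pos.mp (by omega)
        rw [Finset.mem_sdiff] at hz hx
        have hzx : z ≠ x := by rintro rfl; exact hz.2 hx.1
        have hz' : z ∉ u.erase x := fun h => hz.2 (Finset.mem_of_mem_erase h)
        have hu'c : (insert z (u.erase x)).card = m := by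
          rw [Finset.card_insert_of_notMem hz', Finset.card_erase_of_mem hx.1, huc]
          omega
        have hu' : O (insert z (u.erase x)) := by
          apply he'' u hu _ hu'c
          have : u \ insert z (u.erase x) = {x} := by
            ext w
            simp only [Finset.mem_sdiff, Finset.mem_insert, Finset.mem_erase, Finset.mem_singleton]
            constructor
            · rintro ⟨hwu, hw⟩
              by_contra hwx
              exact hw (Or.inr ⟨hwx, hwu⟩)
            · rintro rfl
              refine ⟨hx.1, ?_⟩
              rintro (h | h)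
              · exact hzx h.symm
              · exact h.1 rfl
          rw [this, Finset.card_singleton]
        apply ih _ hu' v hv
        have : v \ insert z (u.erase x) = (v \ u).erase z := by
          ext w
          simp only [Finset.mem_sdiff, Finset.mem_insert, Finset.mem_erase]
          constructor
          · rintro ⟨hwv, hw⟩
            refine ⟨fun h => hw (Or.inl h), hwv, fun hwu => hw (Or.inr ⟨?_, hwu⟩)⟩
            rintro rfl
            exact hx.2 hwv
          · rintro ⟨hwz, hwv, hwu⟩
            refine ⟨hwv, ?_⟩
            rintro (h | h)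
            · exact hwz h
            · exact hwu h.2
        rw [this, Finset.card_erase_of_mem (Finset.mem_sdiff.mpr hz), hvu]
        rfl
    rw [eq_top_iff]
    intro g _
    apply ha s g hsO
    exact hf _ s hsO (g • s) (by rw [Finset.card_smul_finset, hs]) rfl

end Cfsg.Agent.Helper95
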