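import Mathlib

/-!
# Degrees of sharply 4-transitive groups (Jordan, Tits)

Abstract (possibly infinite) sharply 4-transitive actions: the Klein four-group argument.
-/

set_option autoImplicit false
set_option linter.unusedSimpArgs false
set_option linter.unusedTactic false
open MulAction

namespace Cfsg.Agent.Helper95.SharpDeg

variable {G : Type*} [Group G] {Ω : Type*} [MulAction G Ω]

/-- four pairwise distinct points -/
def Dist4 (a b c d : Ω) : Prop := a ≠ b ∧ a ≠ c ∧ a ≠ d ∧ b ≠ c ∧ b ≠ d ∧ c ≠ d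

/-- sharply 4-transitive action, in elementary terms -/
structure Sharp4 (G : Type*) [Group G] (Ω : Type*) [MulAction G Ω] : Prop where
  trans : ∀ a b c d a' b' c' d' : Ω, Dist4 a b c d → Dist4 a' b' c' d' →
    ∃ g : G, g • a = a' ∧ g • b = b' ∧ g • c = c' ∧ g • d = d'
  sharp : ∀ (g : G) (a b c d : Ω), Dist4 a b c d → g • a = a → g • b = b → g • c = c →
    g • d = d → g = 1

theorem Sharp4.eq_of_agree (h : Sharp4 G Ω) (g g' : G) (a b c d : Ω) (hd : Dist4 a b c d)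
    (ha : g • a = g' • a) (hb : g • b = g' • b) (hc : g • c = g' • c) (hdd : g • d = g' • d) :
    g = g' := by
  have : g'⁻¹ * g = 1 := by
    apply h.sharp _ a b c d hd
    · rw [mul_smul, ha, inv_smul_smul]
    · rw [mul_smul, hb, inv_smul_smul]
    · rw [mul_smul, hc, inv_smul_smul]
    · rw [mul_smul, hdd, inv_smul_smul]
  rw [inv_mul_eq_one] at this
  exact this.symm

/-- the embedding of four distinct points -/
def emb4 (a b c d : Ω) (h : Dist4 a b c d) : Fin 4 ↪ Ω :=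
  ⟨![a, b, c, d], by
    obtain ⟨h1, h2, h3, h4, h5, h6⟩ := h
    intro i j hij
    fin_cases i <;> fin_cases j <;> first
      | rfl
      | (exfalso; simp at hij; first
          | exact h1 hij | exact h1 hij.symm | exact h2 hij | exact h2 hij.symm
          | exact h3 hij | exact h3 hij.symm | exact h4 hij | exact h4 hij.symm
          | exact h5 hij | exact h5 hij.symm | exact h6 hij | exact h6 hij.symm)⟩

theorem sharp4_of (h4 : IsMultiplyPretransitive G Ω 4)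
    (hsharp : ∀ x : Fin 4 ↪ Ω, stabilizer G x = ⊥) : Sharp4 G Ω := by
  constructor
  · intro a b c d a' b' c' d' hd hd'
    obtain ⟨g, hg⟩ := h4.exists_smul_eq (emb4 a b c d hd) (emb4 a' b' c' d' hd')
    refine ⟨g, ?_, ?_, ?_, ?_⟩
    · simpa [emb4] using congrArg (fun f : Fin 4 ↪ Ω => f 0) hg
    · simpa [emb4] using congrArg (fun f : Fin 4 ↪ Ω => f 1) hg
    · simpa [emb4] using congrArg (fun f : Fin 4 ↪ Ω => f 2) hg
    · simpa [emb4] using congrArg (fun f : Fin 4 ↪ Ω => f 3) hg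
  · intro g a b c d hd ha hb hc hdd
    have : g ∈ stabilizer G (emb4 a b c d hd) := by
      rw [mem_stabilizer_iff]
      ext i
      fin_cases i <;> simp [emb4, ha, hb, hc, hdd]
    rw [hsharp] at this
    exact Subgroup.mem_bot.mp this

/-- the basic configuration: commuting involutions `a = (p1)(p2)(p3 p4)…`, `b = (p1 p2)(p3)(p4)…` -/
structure Config (a b : G) (p1 p2 p3 p4 : Ω) : Prop where
  a1 : a • p1 = p1
  a2 : a • p2 = p2
  a3 : a • p3 = p4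
  a4 : a • p4 = p3
  b1 : b • p1 = p2
  b2 : b • p2 = p1
  b3 : b • p3 = p3
  b4 : b • p4 = p4
  aa : a * a = 1
  bb : b * b = 1
  ab : a * b = b * a
  d : Dist4 p1 p2 p3 p4

theorem Dist4.swap {p1 p2 p3 p4 : Ω} (h : Dist4 p1 p2 p3 p4) : Dist4 p3 p4 p1 p2 := by
  obtain ⟨h1, h2, h3, h4, h5, h6⟩ := h
  exact ⟨h6, h2.symm, h4.symm, h3.symm, h5.symm, h1⟩

theorem Config.symm {a b : G} {p1 p2 p3 p4 : Ω} (c : Config a b p1 p2 p3 p4) :
    Config b a p3 p4 p1 p2 :=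
  ⟨c.b3, c.b4, c.b1, c.b2, c.a3, c.a4, c.a1, c.a2, c.bb, c.aa, c.ab.symm, c.d.swap⟩

theorem exists_config (h : Sharp4 G Ω) {p1 p2 p3 p4 : Ω} (hd : Dist4 p1 p2 p3 p4) :
    ∃ a b : G, Config a b p1 p2 p3 p4 := by
  have hd1 : Dist4 p1 p2 p4 p3 := by
    obtain ⟨h1, h2, h3, h4, h5, h6⟩ := hd
    exact ⟨h1, h3, h2, h5, h4, h6.symm⟩
  have hd2 : Dist4 p2 p1 p3 p4 := by
    obtain ⟨h1, h2, h3, h4, h5, h6⟩ := hd
    exact ⟨h1.symm, h4, h5, h2, h3, h6⟩
  obtain ⟨a, a1, a2, a3, a4⟩ := h.trans p1 p2 p3 p4 p1 p2 p4 p3 hd hd1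
  obtain ⟨b, b1, b2, b3, b4⟩ := h.trans p1 p2 p3 p4 p2 p1 p3 p4 hd hd2
  refine ⟨a, b, a1, a2, a3, a4, b1, b2, b3, b4, ?_, ?_, ?_, hd⟩
  · apply h.eq_of_agree _ _ p1 p2 p3 p4 hd <;> simp [mul_smul, a1, a2, a3, a4]
  · apply h.eq_of_agree _ _ p1 p2 p3 p4 hd <;> simp [mul_smul, b1, b2, b3, b4]
  · apply h.eq_of_agree _ _ p1 p2 p3 p4 hd <;> simp [mul_smul, a1, a2, a3, a4, b1, b2, b3, b4]

section cfg

variable {a b : G} {p1 p2 p3 p4 : Ω}

theorem Config.aaω (c : Config a b p1 p2 p3 p4) (ω : Ω) : a • a • ω = ω := by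
  rw [← mul_smul, c.aa, one_smul]

theorem Config.bbω (c : Config a b p1 p2 p3 p4) (ω : Ω) : b • b • ω = ω := by
  rw [← mul_smul, c.bb, one_smul]

theorem Config.abω (c : Config a b p1 p2 p3 p4) (ω : Ω) : a • b • ω = b • a • ω := by
  rw [← mul_smul, c.ab, mul_smul]

theorem Config.a_ne_one (c : Config a b p1 p2 p3 p4) : a ≠ 1 := by
  rintro rfl
  have := c.a3
  rw [one_smul] at this
  exact c.d.2.2.2.2.2 this

/-- `Fix a \ Fix b = {p1, p2}` -/
theorem Config.fixa (h : Sharp4 G Ω) (c : Config a b p1 p2 p3 p4) (ω : Ω) (ha : a • ω = ω)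
    (hb : b • ω ≠ ω) : ω = p1 ∨ ω = p2 := by
  by_contra hne
  push_neg at hne
  apply c.a_ne_one
  have h1 : b • ω ≠ p1 := by
    intro h1
    apply hne.2
    rw [← c.bbω ω, h1, c.b1]
  have h2 : b • ω ≠ p2 := by
    intro h2
    apply hne.1
    rw [← c.bbω ω, h2, c.b2]
  apply h.sharp a p1 p2 ω (b • ω) ⟨c.d.1, hne.1.symm, h1.symm, hne.2.symm, h2.symm, hb.symm⟩
    c.a1 c.a2 ha
  rw [c.abω, ha]

/-- `Fix b \ Fix a = {p3, p4}` -/
theorem Config.fixb (h : Sharp4 G Ω) (c : Config a b p1 p2 p3 p4) (ω : Ω) (hb : b • ω = ω)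
    (ha : a • ω ≠ ω) : ω = p3 ∨ ω = p4 :=
  c.symm.fixa h ω hb ha

/-- at most one common fixed point -/
theorem Config.fixab (h : Sharp4 G Ω) (c : Config a b p1 p2 p3 p4) (ω ω' : Ω) (ha : a • ω = ω)
    (hb : b • ω = ω) (ha' : a • ω' = ω') (hb' : b • ω' = ω') : ω = ω' := by
  by_contra hne
  apply c.a_ne_one
  have n1 : ∀ x : Ω, b • x = x → x ≠ p1 := by
    rintro x hx rfl
    rw [c.b1] at hx
    exact c.d.1 hx.symm
  have n2 : ∀ x : Ω, b • x = x → x ≠ p2 := by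
    rintro x hx rfl
    rw [c.b2] at hx
    exact c.d.1 hx
  exact h.sharp a p1 p2 ω ω' ⟨c.d.1, (n1 ω hb).symm, (n1 ω' hb').symm, (n2 ω hb).symm,
    (n2 ω' hb').symm, hne⟩ c.a1 c.a2 ha ha'

/-- the centraliser of `⟨a, b⟩` is `{1, a, b, ab}` -/
theorem Config.centralizer (h : Sharp4 G Ω) (c : Config a b p1 p2 p3 p4) (g : G)
    (hga : g * a = a * g) (hgb : g * b = b * g) : g = 1 ∨ g = a ∨ g = b ∨ g = a * b := by
  have ga : ∀ ω : Ω, a • g • ω = g • a • ω := fun ω => by rw [← mul_smul, ← hga, mul_smul]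
  have gb : ∀ ω : Ω, b • g • ω = g • b • ω := fun ω => by rw [← mul_smul, ← hgb, mul_smul]
  have hinj : ∀ x y : Ω, x ≠ y → g • x ≠ g • y := fun x y hxy hh => hxy (smul_left_cancel g hh)
  have k1 : g • p1 = p1 ∨ g • p1 = p2 := by
    apply c.fixa h
    · rw [ga, c.a1]
    · rw [gb, c.b1]; exact (hinj _ _ c.d.1).symm
  have k2 : g • p2 = p1 ∨ g • p2 = p2 := by
    apply c.fixa h
    · rw [ga, c.a2]
    · rw [gb, c.b2]; exact hinj _ _ c.d.1
  have k3 : g • p3 = p3 ∨ g • p3 = p4 := by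
    apply c.fixb h
    · rw [gb, c.b3]
    · rw [ga, c.a3]; exact (hinj _ _ c.d.2.2.2.2.2).symm
  have k4 : g • p4 = p3 ∨ g • p4 = p4 := by
    apply c.fixb h
    · rw [gb, c.b4]
    · rw [ga, c.a4]; exact hinj _ _ c.d.2.2.2.2.2
  have i12 := hinj _ _ c.d.1
  have i34 := hinj _ _ c.d.2.2.2.2.2
  rcases k1 with k1 | k1 <;> rcases k2 with k2 | k2 <;> rcases k3 with k3 | k3 <;>
    rcases k4 with k4 | k4
  all_goals first
    | (exfalso; rw [k1, k2] at i12; exact i12 rfl)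
    | (exfalso; rw [k3, k4] at i34; exact i34 rfl)
    | (left; apply h.eq_of_agree _ _ p1 p2 p3 p4 c.d <;>
        (simp [mul_smul, k1, k2, k3, k4, c.a1, c.a2, c.a3, c.a4, c.b1, c.b2, c.b3, c.b4]; done))
    | (right; left; apply h.eq_of_agree _ _ p1 p2 p3 p4 c.d <;>
        (simp [mul_smul, k1, k2, k3, k4, c.a1, c.a2, c.a3, c.a4, c.b1, c.b2, c.b3, c.b4]; done))
    | (right; right; left; apply h.eq_of_agree _ _ p1 p2 p3 p4 c.d <;>
        (simp [mul_smul, k1, k2, k3, k4, c.a1, c.a2, c.a3, c.a4, c.b1, c.b2, c.b3, c.b4]; done))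
    | (right; right; right; apply h.eq_of_agree _ _ p1 p2 p3 p4 c.d <;>
        (simp [mul_smul, k1, k2, k3, k4, c.a1, c.a2, c.a3, c.a4, c.b1, c.b2, c.b3, c.b4]; done))

/-- points in regular orbits of `⟨a, b⟩` -/
def Reg (a b : G) (ω : Ω) : Prop := a • ω ≠ ω ∧ b • ω ≠ ω ∧ b • a • ω ≠ ω

/-- points fixed by `ab` only -/
def Efix (a b : G) (ω : Ω) : Prop := a • ω ≠ ω ∧ b • ω ≠ ω ∧ b • a • ω = ω

theorem Config.reg_dist (c : Config a b p1 p2 p3 p4) {ω : Ω} (hω : Reg a b ω) :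
    Dist4 ω (a • ω) (b • ω) (b • a • ω) := by
  obtain ⟨h1, h2, h3⟩ := hω
  refine ⟨h1.symm, h2.symm, h3.symm, ?_, ?_, ?_⟩
  · intro h
    apply h3
    rw [h, c.bbω]
  · intro h
    apply h2
    have := congrArg (fun x => a • x) h
    simp only [c.aaω, c.abω] at this
    exact this.symm
  · intro h
    exact h1 (smul_left_cancel b h).symm

theorem Config.reg_orbit (h : Sharp4 G Ω) (c : Config a b p1 p2 p3 p4) {ω ω' : Ω}
    (hω : Reg a b ω) (hω' : Reg a b ω') :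
    ω' = ω ∨ ω' = a • ω ∨ ω' = b • ω ∨ ω' = b • a • ω := by
  have d := c.reg_dist hω
  have d' := c.reg_dist hω'
  obtain ⟨g, g1, g2, g3, g4⟩ := h.trans _ _ _ _ _ _ _ _ d d'
  have hga : g * a = a * g := by
    apply h.eq_of_agree _ _ _ _ _ _ d
    · rw [mul_smul, mul_smul, g1, g2]
    · rw [mul_smul, mul_smul, c.aaω, g1, g2, c.aaω]
    · rw [mul_smul, mul_smul, c.abω, g4, g3, c.abω]
    · rw [mul_smul, mul_smul, c.abω, c.aaω, g3, g4, c.abω, c.aaω]
  have hgb : g * b = b * g := by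
    apply h.eq_of_agree _ _ _ _ _ _ d
    · rw [mul_smul, mul_smul, g1, g3]
    · rw [mul_smul, mul_smul, g4, g2]
    · rw [mul_smul, mul_smul, c.bbω, g1, g3, c.bbω]
    · rw [mul_smul, mul_smul, c.bbω, g2, g4, c.bbω]
  rcases c.centralizer h g hga hgb with rfl | rfl | rfl | rfl
  · left; rw [← g1, one_smul]
  · right; left; exact g1.symm
  · right; right; left; exact g1.symm
  · right; right; right; rw [← g1, mul_smul, c.abω]

theorem Config.ab_ne_one (c : Config a b p1 p2 p3 p4) : b * a ≠ 1 := by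
  intro h
  have := congrArg (fun x : G => x • p1) h
  simp only [mul_smul, c.a1, c.b1, one_smul] at this
  exact c.d.1 this.symm

theorem Config.efix_smul (c : Config a b p1 p2 p3 p4) {u : Ω} (hu : Efix a b u) :
    Efix a b (a • u) := by
  obtain ⟨h1, h2, h3⟩ := hu
  refine ⟨?_, ?_, ?_⟩
  · rw [c.aaω]; exact h1.symm
  · rw [h3]; exact h1.symm
  · rw [c.aaω]
    have : a • b • a • u = a • u := congrArg (fun x => a • x) h3
    rw [c.abω, c.aaω] at this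
    exact this

theorem Config.efix_pair (h : Sharp4 G Ω) (c : Config a b p1 p2 p3 p4) {u u' : Ω}
    (hu : Efix a b u) (hu' : Efix a b u') : u' = u ∨ u' = a • u := by
  by_contra hne
  push_neg at hne
  apply c.ab_ne_one
  have e1 := c.efix_smul hu
  have e2 := c.efix_smul hu'
  apply h.sharp _ u (a • u) u' (a • u') ⟨hu.1.symm, hne.1.symm, ?_, hne.2.symm, ?_, hu'.1.symm⟩
  · rw [mul_smul]; exact hu.2.2
  · rw [mul_smul]; exact e1.2.2
  · rw [mul_smul]; exact hu'.2.2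
  · rw [mul_smul]; exact e2.2.2
  · intro h'
    apply hne.2
    rw [h', c.aaω]
  · intro h'
    exact hne.1 (smul_left_cancel a h').symm

theorem Config.not_reg_p (c : Config a b p1 p2 p3 p4) {ω : Ω} (hω : Reg a b ω) :
    ω ≠ p1 ∧ ω ≠ p2 ∧ ω ≠ p3 ∧ ω ≠ p4 := by
  obtain ⟨h1, h2, h3⟩ := hω
  refine ⟨?_, ?_, ?_, ?_⟩
  · rintro rfl; exact h1 c.a1
  · rintro rfl; exact h1 c.a2
  · rintro rfl; exact h2 c.b3
  · rintro rfl; exact h2 c.b4

theorem Config.reg_smul (c : Config a b p1 p2 p3 p4) {ω : Ω} (hω : Reg a b ω) :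
    Reg a b (a • ω) := by
  have d := c.reg_dist hω
  obtain ⟨d1, d2, d3, d4, d5, d6⟩ := d
  refine ⟨?_, ?_, ?_⟩
  · rw [c.aaω]; exact d1
  · exact d5.symm
  · rw [c.aaω]; exact d4.symm

/-- if there is a regular orbit, then `ab` has a fixed point outside `Fix a ∩ Fix b` -/
theorem Config.exists_efix (h : Sharp4 G Ω) (c : Config a b p1 p2 p3 p4) {ω : Ω}
    (hω : Reg a b ω) : ∃ u : Ω, Efix a b u := by
  obtain ⟨n1, n2, n3, n4⟩ := c.not_reg_p hω
  obtain ⟨m1, m2, m3, m4⟩ := c.not_reg_p (c.reg_smul hω)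
  obtain ⟨g, g1, g2, g3, g4⟩ := h.trans p1 p2 p3 p4 p3 p4 ω (a • ω) c.d
    ⟨c.d.2.2.2.2.2, n3.symm, m3.symm, n4.symm, m4.symm, hω.1.symm⟩
  have hgc : g * (b * a) = a * g := by
    apply h.eq_of_agree _ _ p1 p2 p3 p4 c.d
    · rw [mul_smul, mul_smul, mul_smul, c.a1, c.b1, g2, g1, c.a3]
    · rw [mul_smul, mul_smul, mul_smul, c.a2, c.b2, g2, g1, c.a4]
    · rw [mul_smul, mul_smul, mul_smul, c.a3, c.b4, g4, g3]
    · rw [mul_smul, mul_smul, mul_smul, c.a4, c.b3, g3, g4, c.aaω]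
  -- `g⁻¹ p1`, `g⁻¹ p2` are fixed by `b a`
  have key : ∀ x : Ω, a • x = x → b • a • g⁻¹ • x = g⁻¹ • x := by
    intro x hx
    have := congrArg (fun y : G => y • g⁻¹ • x) hgc
    simp only [mul_smul, smul_inv_smul, hx] at this
    exact (smul_eq_iff_eq_inv_smul g).mp this
  by_contra hno
  push_neg at hno
  have hF : ∀ x : Ω, a • x = x → a • g⁻¹ • x = g⁻¹ • x ∧ b • g⁻¹ • x = g⁻¹ • x := by
    intro x hx
    have k := key x hx
    by_cases ha : a • g⁻¹ • x = g⁻¹ • x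
    · refine ⟨ha, ?_⟩
      rw [ha] at k
      exact k
    · exfalso
      apply hno (g⁻¹ • x)
      refine ⟨ha, ?_, k⟩
      intro hb
      apply ha
      rw [← c.abω, hb] at k
      exact k
  have f1 := hF p1 c.a1
  have f2 := hF p2 c.a2
  have := c.fixab h _ _ f1.1 f1.2 f2.1 f2.2
  exact c.d.1 (smul_left_cancel _ this)

end cfg

/-- the pointwise stabiliser of three points -/
def T3 (G : Type*) [Group G] {Ω : Type*} [MulAction G Ω] (p1 p2 p3 : Ω) : Subgroup G :=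
  stabilizer G p1 ⊓ stabilizer G p2 ⊓ stabilizer G p3

theorem mem_T3 {p1 p2 p3 : Ω} {g : G} :
    g ∈ T3 G p1 p2 p3 ↔ g • p1 = p1 ∧ g • p2 = p2 ∧ g • p3 = p3 := by
  simp [T3, Subgroup.mem_inf, mem_stabilizer_iff, and_assoc]

/-- in a sharply 4-transitive group of degree at least 7, a three point stabiliser is not
cyclic. -/
theorem not_isCyclic_T3 (h : Sharp4 G Ω) {p1 p2 p3 p4 q1 q2 q3 : Ω} (hd : Dist4 p1 p2 p3 p4)
    (hq : Dist4 p4 q1 q2 q3) (hq1 : q1 ≠ p1 ∧ q1 ≠ p2 ∧ q1 ≠ p3)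
    (hq2 : q2 ≠ p1 ∧ q2 ≠ p2 ∧ q2 ≠ p3) (hq3 : q3 ≠ p1 ∧ q3 ≠ p2 ∧ q3 ≠ p3) :
    ¬ IsCyclic (T3 G p1 p2 p3) := by
  intro hcyc
  obtain ⟨t0, ht0⟩ := hcyc.exists_generator
  obtain ⟨d12, d13, d14, d23, d24, d34⟩ := hd
  obtain ⟨b, b1, b2, b3, b4⟩ := h.trans p1 p2 p3 p4 p2 p1 p3 p4 ⟨d12, d13, d14, d23, d24, d34⟩
    ⟨d12.symm, d23, d24, d13, d14, d34⟩
  obtain ⟨r, r1, r2, r3, r4⟩ := h.trans p1 p2 p3 p4 p2 p3 p1 p4 ⟨d12, d13, d14, d23, d24, d34⟩
    ⟨d23, d12.symm, d24, d13.symm, d34, d14⟩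
  have ht0m := mem_T3.mp t0.2
  have hbT : b * (t0 : G) * b⁻¹ ∈ T3 G p1 p2 p3 := by
    rw [mem_T3]
    refine ⟨?_, ?_, ?_⟩
    · rw [mul_smul, mul_smul, inv_smul_eq_iff.mpr b2.symm, ht0m.2.1, b2]
    · rw [mul_smul, mul_smul, inv_smul_eq_iff.mpr b1.symm, ht0m.1, b1]
    · rw [mul_smul, mul_smul, inv_smul_eq_iff.mpr b3.symm, ht0m.2.2, b3]
  have hrT : r * (t0 : G) * r⁻¹ ∈ T3 G p1 p2 p3 := by
    rw [mem_T3]
    refine ⟨?_, ?_, ?_⟩
    · rw [mul_smul, mul_smul, inv_smul_eq_iff.mpr r3.symm, ht0m.2.2, r3]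
    · rw [mul_smul, mul_smul, inv_smul_eq_iff.mpr r1.symm, ht0m.1, r1]
    · rw [mul_smul, mul_smul, inv_smul_eq_iff.mpr r2.symm, ht0m.2.1, r2]
  obtain ⟨i, hi⟩ : ∃ i : ℤ, b * (t0 : G) * b⁻¹ = (t0 : G) ^ i := by
    have := ht0 ⟨_, hbT⟩
    rw [Subgroup.mem_zpowers_iff] at this
    obtain ⟨i, hi⟩ := this
    refine ⟨i, ?_⟩
    have := congrArg Subtype.val hi
    simpa using this.symm
  obtain ⟨j, hj⟩ : ∃ j : ℤ, r * (t0 : G) * r⁻¹ = (t0 : G) ^ j := by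
    have := ht0 ⟨_, hrT⟩
    rw [Subgroup.mem_zpowers_iff] at this
    obtain ⟨j, hj⟩ := this
    refine ⟨j, ?_⟩
    have := congrArg Subtype.val hj
    simpa using this.symm
  have e1 : (b * r) * (t0 : G) * (b * r)⁻¹ = (t0 : G) ^ (i * j) := by
    calc (b * r) * (t0 : G) * (b * r)⁻¹ = b * (r * (t0 : G) * r⁻¹) * b⁻¹ := by group
      _ = b * (t0 : G) ^ j * b⁻¹ := by rw [hj]
      _ = (b * (t0 : G) * b⁻¹) ^ j := (conj_zpow).symm
      _ = (t0 : G) ^ (i * j) := by rw [hi, zpow_mul]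
  have e2 : (r * b) * (t0 : G) * (r * b)⁻¹ = (t0 : G) ^ (i * j) := by
    calc (r * b) * (t0 : G) * (r * b)⁻¹ = r * (b * (t0 : G) * b⁻¹) * r⁻¹ := by group
      _ = r * (t0 : G) ^ i * r⁻¹ := by rw [hi]
      _ = (r * (t0 : G) * r⁻¹) ^ i := (conj_zpow).symm
      _ = (t0 : G) ^ (i * j) := by rw [hj, mul_comm i j, zpow_mul]
  have hz : Commute ((r * b)⁻¹ * (b * r)) (t0 : G) := by
    have e := e1.trans e2.symm
    have e' : (r * b)⁻¹ * ((b * r) * (t0 : G) * (b * r)⁻¹) * (b * r) =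
        (r * b)⁻¹ * ((r * b) * (t0 : G) * (r * b)⁻¹) * (b * r) := by rw [e]
    unfold Commute SemiconjBy
    calc (r * b)⁻¹ * (b * r) * (t0 : G)
        = (r * b)⁻¹ * ((b * r) * (t0 : G) * (b * r)⁻¹) * (b * r) := by group
      _ = (r * b)⁻¹ * ((r * b) * (t0 : G) * (r * b)⁻¹) * (b * r) := e'
      _ = (t0 : G) * ((r * b)⁻¹ * (b * r)) := by group
  have hzT : ∀ s ∈ T3 G p1 p2 p3, ((r * b)⁻¹ * (b * r)) * s = s * ((r * b)⁻¹ * (b * r)) := by
    intro s hs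
    have := ht0 ⟨s, hs⟩
    rw [Subgroup.mem_zpowers_iff] at this
    obtain ⟨m, hm⟩ := this
    have hm' : (t0 : G) ^ m = s := by
      have := congrArg Subtype.val hm
      simpa using this
    rw [← hm']
    exact (hz.zpow_right m)
  have hz4 : ((r * b)⁻¹ * (b * r)) • p4 = p4 := by
    rw [mul_smul, mul_smul, r4, b4, inv_smul_eq_iff, mul_smul, b4, r4]
  have hzq : ∀ q : Ω, q ≠ p1 → q ≠ p2 → q ≠ p3 → ((r * b)⁻¹ * (b * r)) • q = q := by
    intro q n1 n2 n3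
    by_cases hq4 : q = p4
    · rw [hq4]; exact hz4
    obtain ⟨s, s1, s2, s3, s4⟩ := h.trans p1 p2 p3 p4 p1 p2 p3 q ⟨d12, d13, d14, d23, d24, d34⟩
      ⟨d12, d13, n1.symm, d23, n2.symm, n3.symm⟩
    have hs : s ∈ T3 G p1 p2 p3 := mem_T3.mpr ⟨s1, s2, s3⟩
    rw [← s4, ← mul_smul, hzT s hs, mul_smul, hz4]
  have hz1 : (r * b)⁻¹ * (b * r) = 1 :=
    h.sharp _ p4 q1 q2 q3 hq hz4 (hzq q1 hq1.1 hq1.2.1 hq1.2.2) (hzq q2 hq2.1 hq2.2.1 hq2.2.2)
      (hzq q3 hq3.1 hq3.2.1 hq3.2.2)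
  rw [inv_mul_eq_one] at hz1
  have := congrArg (fun x : G => x • p1) hz1
  simp only [mul_smul, b1, r1, r2, b2] at this
  exact d13 this.symm

theorem card_T3 (h : Sharp4 G Ω) [Finite Ω] {p1 p2 p3 p4 : Ω} (hd : Dist4 p1 p2 p3 p4) :
    Nat.card (T3 G p1 p2 p3) + 3 = Nat.card Ω := by
  obtain ⟨d12, d13, d14, d23, d24, d34⟩ := hd
  have hmem : ∀ t : T3 G p1 p2 p3, (t : G) • p4 ∈ ({p1, p2, p3} : Set Ω)ᶜ := by
    intro t
    have ht := mem_T3.mp t.2
    simp only [Set.mem_compl_iff, Set.mem_insert_iff, Set.mem_singleton_iff, not_or]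
    refine ⟨?_, ?_, ?_⟩
    · intro h'
      exact d14 (smul_left_cancel (t : G) (h'.trans ht.1.symm)).symm
    · intro h'
      exact d24 (smul_left_cancel (t : G) (h'.trans ht.2.1.symm)).symm
    · intro h'
      exact d34 (smul_left_cancel (t : G) (h'.trans ht.2.2.symm)).symm
  have hbij : Function.Bijective
      (fun t : T3 G p1 p2 p3 => (⟨(t : G) • p4, hmem t⟩ : (({p1, p2, p3} : Set Ω)ᶜ : Set Ω))) := by
    constructor
    · intro t t' htt
      have h4 : (t : G) • p4 = (t' : G) • p4 := congrArg Subtype.val htt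
      have ht := mem_T3.mp t.2
      have ht' := mem_T3.mp t'.2
      apply Subtype.ext
      apply h.eq_of_agree _ _ p1 p2 p3 p4 ⟨d12, d13, d14, d23, d24, d34⟩
      · rw [ht.1, ht'.1]
      · rw [ht.2.1, ht'.2.1]
      · rw [ht.2.2, ht'.2.2]
      · exact h4
    · rintro ⟨q, hq⟩
      simp only [Set.mem_compl_iff, Set.mem_insert_iff, Set.mem_singleton_iff, not_or] at hq
      obtain ⟨s, s1, s2, s3, s4⟩ := h.trans p1 p2 p3 p4 p1 p2 p3 q
        ⟨d12, d13, d14, d23, d24, d34⟩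
        ⟨d12, d13, fun h' => hq.1 h'.symm, d23, fun h' => hq.2.1 h'.symm, fun h' => hq.2.2 h'.symm⟩
      exact ⟨⟨s, mem_T3.mpr ⟨s1, s2, s3⟩⟩, Subtype.ext s4⟩
  rw [Nat.card_congr (Equiv.ofBijective _ hbij), _root_.Nat.card_coe_set_eq,
    ← Set.ncard_add_ncard_compl ({p1, p2, p3} : Set Ω)]
  have : ({p1, p2, p3} : Set Ω).ncard = 3 :=
    Set.ncard_eq_three.mpr ⟨p1, p2, p3, d12, d13, d23, rfl⟩
  omega

theorem ncard_four {x y z w : Ω} (hd : Dist4 x y z w) : ({x, y, z, w} : Set Ω).ncard = 4 := by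
  obtain ⟨h1, h2, h3, h4, h5, h6⟩ := hd
  rw [Set.ncard_insert_of_notMem, Set.ncard_insert_of_notMem, Set.ncard_pair h6]
  · simp [h4, h5]
  · simp [h1, h2, h3]

section cfg2

variable {a b : G} {p1 p2 p3 p4 : Ω}

theorem Config.reg_smul_b (c : Config a b p1 p2 p3 p4) {ω : Ω} (hω : Reg a b ω) :
    Reg a b (b • ω) := by
  obtain ⟨d1, d2, d3, d4, d5, d6⟩ := c.reg_dist hω
  refine ⟨?_, ?_, ?_⟩
  · rw [c.abω]; exact d6.symm
  · rw [c.bbω]; exact d2
  · rw [c.abω, c.bbω]; exact d4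

end cfg2

/-- **Jordan–Tits**: a sharply 4-transitive action has degree 4, 5, 6, 7 or 11. -/
theorem card_cases (h : Sharp4 G Ω) {p1 p2 p3 p4 : Ω} (hd : Dist4 p1 p2 p3 p4) :
    Finite Ω ∧ (Nat.card Ω = 4 ∨ Nat.card Ω = 5 ∨ Nat.card Ω = 6 ∨ Nat.card Ω = 7 ∨
      Nat.card Ω = 11) := by
  obtain ⟨a, b, c⟩ := exists_config h hd
  have hE : {ω : Ω | Efix a b ω} = ∅ ∨
      ∃ u : Ω, Efix a b u ∧ {ω : Ω | Efix a b ω} = {u, a • u} := by
    by_cases hne : ∃ u : Ω, Efix a b u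
    · obtain ⟨u, hu⟩ := hne
      right
      refine ⟨u, hu, ?_⟩
      ext ω
      simp only [Set.mem_setOf_eq, Set.mem_insert_iff, Set.mem_singleton_iff]
      constructor
      · intro hω; exact c.efix_pair h hu hω
      · rintro (rfl | rfl)
        · exact hu
        · exact c.efix_smul hu
    · left
      ext ω
      simp only [Set.mem_setOf_eq, Set.mem_empty_iff_false, iff_false]
      exact fun hω => hne ⟨ω, hω⟩
  have hΛ : {ω : Ω | Reg a b ω} = ∅ ∨ ∃ ω0 : Ω, Reg a b ω0 ∧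
      {ω : Ω | Reg a b ω} = {ω0, a • ω0, b • ω0, b • a • ω0} := by
    by_cases hne : ∃ ω0 : Ω, Reg a b ω0
    · obtain ⟨ω0, h0⟩ := hne
      right
      refine ⟨ω0, h0, ?_⟩
      ext ω
      simp only [Set.mem_setOf_eq, Set.mem_insert_iff, Set.mem_singleton_iff]
      constructor
      · intro hω; exact c.reg_orbit h h0 hω
      · rintro (rfl | rfl | rfl | rfl)
        · exact h0
        · exact c.reg_smul h0
        · exact c.reg_smul_b h0
        · exact c.reg_smul_b (c.reg_smul h0)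
    · left
      ext ω
      simp only [Set.mem_setOf_eq, Set.mem_empty_iff_false, iff_false]
      exact fun hω => hne ⟨ω, hω⟩
  have hF : ∀ x y : Ω, (a • x = x ∧ b • x = x) → (a • y = y ∧ b • y = y) → x = y :=
    fun x y hx hy => c.fixab h x y hx.1 hx.2 hy.1 hy.2
  have hfinE : {ω : Ω | Efix a b ω}.Finite := by
    rcases hE with h0 | ⟨u, -, hu⟩
    · rw [h0]; exact Set.finite_empty
    · rw [hu]; exact Set.toFinite _
  have hfinΛ : {ω : Ω | Reg a b ω}.Finite := by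
    rcases hΛ with h0 | ⟨u, -, hu⟩
    · rw [h0]; exact Set.finite_empty
    · rw [hu]; exact Set.toFinite _
  have hfinF : {ω : Ω | a • ω = ω ∧ b • ω = ω}.Finite :=
    Set.Subsingleton.finite (fun x hx y hy => hF x y hx hy)
  have hcover : (Set.univ : Set Ω) ⊆ ({p1, p2} ∪ {p3, p4}) ∪ {ω | a • ω = ω ∧ b • ω = ω} ∪
      {ω | Efix a b ω} ∪ {ω | Reg a b ω} := by
    intro ω _
    by_cases ha : a • ω = ω
    · by_cases hb : b • ω = ω
      · left; left; right; exact ⟨ha, hb⟩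
      · left; left; left; left
        rcases c.fixa h ω ha hb with rfl | rfl <;> simp
    · by_cases hb : b • ω = ω
      · left; left; left; right
        rcases c.fixb h ω hb ha with rfl | rfl <;> simp
      · by_cases hc : b • a • ω = ω
        · left; right; exact ⟨ha, hb, hc⟩
        · right; exact ⟨ha, hb, hc⟩
  have hfin : Finite Ω := by
    rw [← Set.finite_univ_iff]
    apply Set.Finite.subset _ hcover
    exact ((((Set.toFinite _).union (Set.toFinite _)).union hfinF).union hfinE).union hfinΛ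
  refine ⟨hfin, ?_⟩
  have s0 := Set.ncard_add_ncard_compl {ω : Ω | a • ω = ω}
  have s1 := Set.ncard_inter_add_ncard_diff_eq_ncard {ω : Ω | a • ω = ω} {ω : Ω | b • ω = ω}
  have s2 := Set.ncard_inter_add_ncard_diff_eq_ncard {ω : Ω | a • ω = ω}ᶜ {ω : Ω | b • ω = ω}
  have s3 := Set.ncard_inter_add_ncard_diff_eq_ncard
    ({ω : Ω | a • ω = ω}ᶜ \ {ω : Ω | b • ω = ω}) {ω : Ω | b • a • ω = ω}
  have k1 : {ω : Ω | a • ω = ω} \ {ω : Ω | b • ω = ω} = {p1, p2} := by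
    ext ω
    simp only [Set.mem_diff, Set.mem_setOf_eq, Set.mem_insert_iff, Set.mem_singleton_iff]
    constructor
    · rintro ⟨ha, hb⟩; exact c.fixa h ω ha hb
    · rintro (rfl | rfl)
      · exact ⟨c.a1, by rw [c.b1]; exact c.d.1.symm⟩
      · exact ⟨c.a2, by rw [c.b2]; exact c.d.1⟩
  have k2 : {ω : Ω | a • ω = ω}ᶜ ∩ {ω : Ω | b • ω = ω} = {p3, p4} := by
    ext ω
    simp only [Set.mem_inter_iff, Set.mem_compl_iff, Set.mem_setOf_eq, Set.mem_insert_iff,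
      Set.mem_singleton_iff]
    constructor
    · rintro ⟨ha, hb⟩; exact c.fixb h ω hb ha
    · rintro (rfl | rfl)
      · exact ⟨by rw [c.a3]; exact c.d.2.2.2.2.2.symm, c.b3⟩
      · exact ⟨by rw [c.a4]; exact c.d.2.2.2.2.2, c.b4⟩
  have k3 : ({ω : Ω | a • ω = ω} ∩ {ω : Ω | b • ω = ω}).ncard ≤ 1 := by
    rw [Set.ncard_le_one_iff]
    intro x y hx hy
    exact hF x y hx hy
  have k4 : ({ω : Ω | a • ω = ω}ᶜ \ {ω : Ω | b • ω = ω}) ∩ {ω : Ω | b • a • ω = ω} =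
      {ω : Ω | Efix a b ω} := by
    ext ω
    simp only [Set.mem_inter_iff, Set.mem_diff, Set.mem_compl_iff, Set.mem_setOf_eq, Efix,
      and_assoc]
  have k5 : ({ω : Ω | a • ω = ω}ᶜ \ {ω : Ω | b • ω = ω}) \ {ω : Ω | b • a • ω = ω} =
      {ω : Ω | Reg a b ω} := by
    ext ω
    simp only [Set.mem_diff, Set.mem_compl_iff, Set.mem_setOf_eq, Reg, and_assoc]
  rw [k1, Set.ncard_pair c.d.1] at s1
  rw [k2, Set.ncard_pair c.d.2.2.2.2.2] at s2
  rw [k4, k5] at s3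
  have hEc : {ω : Ω | Efix a b ω}.ncard = 0 ∨ {ω : Ω | Efix a b ω}.ncard = 2 := by
    rcases hE with h0 | ⟨u, hu, hu'⟩
    · left; rw [h0, Set.ncard_empty]
    · right; rw [hu', Set.ncard_pair hu.1.symm]
  rcases hΛ with h0 | ⟨ω0, hω0, hω0'⟩
  · rw [h0, Set.ncard_empty] at s3
    omega
  · have hΛc : {ω : Ω | Reg a b ω}.ncard = 4 := by
      rw [hω0', ncard_four (c.reg_dist hω0)]
    have hEc2 : {ω : Ω | Efix a b ω}.ncard = 2 := by
      obtain ⟨u, hu⟩ := c.exists_efix h hω0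
      rcases hE with h0 | ⟨u', hu', hu''⟩
      · exfalso
        have : u ∈ {ω : Ω | Efix a b ω} := hu
        rw [h0] at this
        exact this
      · rw [hu'', Set.ncard_pair hu'.1.symm]
    have hne10 : Nat.card Ω ≠ 10 := by
      intro h10
      have hT := card_T3 h hd
      have hT7 : Nat.card (T3 G p1 p2 p3) = 7 := by omega
      haveI : Fact (Nat.Prime 7) := ⟨by norm_num⟩
      have hcyc : IsCyclic (T3 G p1 p2 p3) := isCyclic_of_prime_card hT7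
      have r1 := c.not_reg_p hω0
      have r2 := c.not_reg_p (c.reg_smul hω0)
      have r3 := c.not_reg_p (c.reg_smul_b hω0)
      obtain ⟨d1, d2, d3, d4, d5, d6⟩ := c.reg_dist hω0
      exact not_isCyclic_T3 h hd ⟨r1.2.2.2.symm, r2.2.2.2.symm, r3.2.2.2.symm, d1, d2, d4⟩
        ⟨r1.1, r1.2.1, r1.2.2.1⟩ ⟨r2.1, r2.2.1, r2.2.2.1⟩ ⟨r3.1, r3.2.1, r3.2.2.1⟩ hcyc
    omega

end Cfsg.Agent.Helper95.SharpDeg
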