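import Mathlib
import Cfsg.Agent.Lib.Helper95.SharpDeg
import Cfsg.Agent.Lib.Helper95.SharpSimple
import Cfsg.Agent.S0711

/-!
# Degrees of sharply `k`-transitive groups, `k ≥ 4` (Jordan)
-/

set_option autoImplicit false
open MulAction

namespace Cfsg.Agent.Helper95.SharpDeg

universe u v

/-- sharply `k`-transitive action -/
def SharpK (G : Type u) [Group G] (Ω : Type v) [MulAction G Ω] (k : ℕ) : Prop :=
  IsMultiplyPretransitive G Ω k ∧ ∀ x : Fin k ↪ Ω, stabilizer G x = ⊥

theorem SharpK.descend {G : Type u} [Group G] {Ω : Type v} [MulAction G Ω] {k : ℕ}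
    (h : SharpK G Ω (k + 1)) (hne : Nonempty (Fin (k + 1) ↪ Ω)) (a : Ω) :
    SharpK (stabilizer G a) (SubMulAction.ofStabilizer G a) k := by
  obtain ⟨x0⟩ := hne
  haveI := h.1
  have hcard : ((k + 1 : ℕ) : ℕ∞) ≤ ENat.card Ω := by
    have := ENat.card_le_card_of_injective x0.injective
    simpa using this
  haveI : IsPretransitive G Ω := by
    rw [← is_one_pretransitive_iff]
    exact isMultiplyPretransitive_of_le' (n := k + 1) (by omega) hcard
  constructor
  · exact (SubMulAction.ofStabilizer.isMultiplyPretransitive).mp h.1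
  · intro x
    rw [eq_bot_iff]
    intro g hg
    rw [mem_stabilizer_iff] at hg
    have hmem : (g : G) ∈ stabilizer G (SubMulAction.ofStabilizer.snoc x) := by
      rw [mem_stabilizer_iff]
      ext i
      rcases Fin.eq_castSucc_or_eq_last i with ⟨i, rfl⟩ | rfl
      · rw [Function.Embedding.smul_apply, SubMulAction.ofStabilizer.snoc_castSucc]
        have h2 : (((g • x) i : SubMulAction.ofStabilizer G a) : Ω) = (x i : Ω) := by rw [hg]
        exact h2
      · rw [Function.Embedding.smul_apply, SubMulAction.ofStabilizer.snoc_last]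
        exact g.2
    rw [h.2] at hmem
    exact Subgroup.mem_bot.mpr (Subtype.ext (Subgroup.mem_bot.mp hmem))

theorem sharpK_card : ∀ k : ℕ, 4 ≤ k → ∀ {G : Type u} [Group G] {Ω : Type v} [MulAction G Ω],
    SharpK G Ω k → Nonempty (Fin k ↪ Ω) →
    Finite Ω ∧ (Nat.card Ω = k ∨ Nat.card Ω = k + 1 ∨ Nat.card Ω = k + 2 ∨ Nat.card Ω = k + 3 ∨
      Nat.card Ω = k + 7) := by
  intro k hk
  induction k, hk using Nat.le_induction with
  | base =>
    intro G _ Ω _ h hne
    obtain ⟨x⟩ := hne
    have hs := sharp4_of h.1 h.2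
    have hd : Dist4 (x 0) (x 1) (x 2) (x 3) := by
      refine ⟨?_, ?_, ?_, ?_, ?_, ?_⟩ <;> (intro h; have := x.injective h; revert this; decide)
    exact card_cases hs hd
  | succ k hk ih =>
    intro G _ Ω _ h hne
    obtain ⟨x⟩ := hne
    have hd := h.descend ⟨x⟩ (x (Fin.last k))
    have hne' : Nonempty (Fin k ↪ SubMulAction.ofStabilizer G (x (Fin.last k))) := by
      refine ⟨⟨fun i => ⟨x i.castSucc, ?_⟩, ?_⟩⟩
      · rw [SubMulAction.mem_ofStabilizer_iff]
        intro h'
        have := x.injective h'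
        exact (Fin.castSucc_lt_last i).ne this
      · intro i j hij
        have : x i.castSucc = x j.castSucc := congrArg Subtype.val hij
        exact Fin.castSucc_injective _ (x.injective this)
    obtain ⟨hfin, hc⟩ := ih hd hne'
    have hfinΩ : Finite Ω := by
      rw [← ENat.card_lt_top, ← SubMulAction.ENat_card_ofStabilizer_add_one_eq G (x (Fin.last k))]
      have : ENat.card (SubMulAction.ofStabilizer G (x (Fin.last k))) < ⊤ :=
        ENat.card_lt_top.mpr hfin
      exact ENat.add_lt_top.mpr ⟨this, ENat.one_lt_top⟩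
    refine ⟨hfinΩ, ?_⟩
    have := SubMulAction.nat_card_ofStabilizer_add_one_eq G (x (Fin.last k))
    omega

section perm

open Equiv

variable {α : Type*} [Fintype α] [DecidableEq α]

/-- A sharply `k`-transitive permutation group of degree `n` with `k + 3 ≤ n` and `n + 4 < 3k`
does not exist: an element fixing `k - 2` points has small support, so by the descent of `S0711`
the group contains a non-identity element with support of size at most 3, fixing `≥ k` points. -/
theorem no_small_gap (G : Subgroup (Perm α)) (k : ℕ) (hk : 3 ≤ k)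
    (hG : IsMultiplyPretransitive G α k) (hsharp : ∀ x : Fin k ↪ α, stabilizer G x = ⊥)
    (hn1 : k + 3 ≤ Fintype.card α) (hn2 : Fintype.card α + 4 < 3 * k) : False := by
  have hkn : k ≤ Fintype.card α := by omega
  obtain ⟨T, -, hT⟩ := Finset.exists_subset_card_eq (s := (Finset.univ : Finset α)) (n := k - 2)
    (by rw [Finset.card_univ]; omega)
  have hTc : Tᶜ.card = Fintype.card α - (k - 2) := by rw [Finset.card_compl, hT]
  obtain ⟨ρ, hρ, ε, hε, hρε⟩ := Finset.one_lt_card.mp (show 1 < Tᶜ.card by omega)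
  rw [Finset.mem_compl] at hρ hε
  obtain ⟨x, hxG, hxT, hxρ⟩ := Cfsg.Agent.S0711.exists_fix_move G hkn hG T (by omega) ρ ε hρ hε
  have hx1 : x ≠ 1 := by
    rintro rfl
    exact hρε hxρ
  have hsupp : x.support.card < 2 * k - 2 := by
    have hsub : x.support ⊆ Tᶜ := by
      intro w hw
      rw [Finset.mem_compl]
      intro hwT
      exact (Perm.mem_support.mp hw) (hxT w hwT)
    have := Finset.card_le_card hsub
    omega
  obtain ⟨⟨h, hhG, hh1, hh3⟩, -⟩ := Cfsg.Agent.S0711.result G hk hkn hG x hxG hx1 hsupp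
  have hc : k ≤ h.supportᶜ.card := by
    rw [Finset.card_compl]
    omega
  obtain ⟨S, hS, hSc⟩ := Finset.exists_subset_card_eq hc
  let y : Fin k ↪ α := (Finset.equivFinOfCardEq hSc).symm.toEmbedding.trans
    (Function.Embedding.subtype _)
  have hy : ∀ i, (⟨h, hhG⟩ : G) • y i = y i := by
    intro i
    have hmem : y i ∈ S := by simp [y]
    have := hS hmem
    rw [Finset.mem_compl, Perm.notMem_support] at this
    exact this
  have := Cfsg.Agent.Helper95.eq_one_of_fix k hsharp ⟨h, hhG⟩ y hy
  exact hh1 (congrArg Subtype.val this)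

/-- **Jordan**: possible degrees of a sharply `k`-transitive permutation group, `k ≥ 4`. -/
theorem sharp_perm_card (G : Subgroup (Perm α)) (k : ℕ) (hk : 4 ≤ k) (hkn : k ≤ Fintype.card α)
    (hG : IsMultiplyPretransitive G α k) (hsharp : ∀ x : Fin k ↪ α, stabilizer G x = ⊥) :
    Fintype.card α = k ∨ Fintype.card α = k + 1 ∨ Fintype.card α = k + 2 ∨
      (Fintype.card α = k + 7 ∧ k ≤ 5) := by
  have hne : Nonempty (Fin k ↪ α) :=
    Function.Embedding.nonempty_of_card_le (by simpa using hkn)
  obtain ⟨-, hc⟩ := sharpK_card k hk (G := G) (Ω := α) ⟨hG, hsharp⟩ hne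
  rw [Nat.card_eq_fintype_card] at hc
  rcases hc with h | h | h | h | h
  · exact Or.inl h
  · exact Or.inr (Or.inl h)
  · exact Or.inr (Or.inr (Or.inl h))
  · exact (no_small_gap G k (by omega) hG hsharp (by omega) (by omega)).elim
  · by_cases h6 : 6 ≤ k
    · exact (no_small_gap G k (by omega) hG hsharp (by omega) (by omega)).elim
    · exact Or.inr (Or.inr (Or.inr ⟨h, by omega⟩))

end perm

end Cfsg.Agent.Helper95.SharpDeg
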