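import Mathlib
import Cfsg.Agent.Lib.Helper14.TSPDefs
import Cfsg.Agent.Lib.Helper13.SympGeom

/-!
# TSP (C1) (helper14 server, S5980): a symplectic transvection `[1 B; 0 1]`, `B = E_kk`
-/

set_option autoImplicit false

namespace Cfsg.Agent.Helper95.TSP

open Matrix Module Polynomial
open scoped Kronecker
open Cfsg.Agent.Helper14.TSP Cfsg.Agent.Helper44.StarInv

universe u

section general

variable {F : Type u} [Field F]

/-- `E_kk` -/
def tB {d : ℕ} (k : Fin d) : Matrix (Fin d) (Fin d) F := Matrix.diagonal (Pi.single k 1)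

/-- the block transvection matrix `[1 B; 0 1]` -/
def tA {d : ℕ} (k : Fin d) : Matrix (Fin d ⊕ Fin d) (Fin d ⊕ Fin d) F :=
  Matrix.fromBlocks 1 (tB k) 0 1

theorem tA_mem {d : ℕ} (k : Fin d) : (tA k : Matrix _ _ F) ∈ Matrix.symplecticGroup (Fin d) F := by
  rw [SymplecticGroup.mem_iff]
  simp [tA, tB, Matrix.J, Matrix.fromBlocks_multiply, Matrix.fromBlocks_transpose,
    Matrix.diagonal_transpose]

theorem tA_pow {d : ℕ} (k : Fin d) (n : ℕ) :
    (tA k : Matrix _ _ F) ^ n = Matrix.fromBlocks 1 (n • tB k) 0 1 := by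
  induction n with
  | zero => simp [Matrix.fromBlocks_one]
  | succ n ih =>
    rw [pow_succ, ih]
    simp [tA, Matrix.fromBlocks_multiply]
    rw [add_mul, one_mul, add_comm]

theorem tA_pow_char {d : ℕ} (p : ℕ) [CharP F p] (k : Fin d) : (tA k : Matrix _ _ F) ^ p = 1 := by
  rw [tA_pow]
  have h : (p : ℕ) • (tB k : Matrix (Fin d) (Fin d) F) = 0 := by
    rw [← Nat.cast_smul_eq_nsmul F, CharP.cast_eq_zero, zero_smul]
  rw [h, Matrix.fromBlocks_one]

theorem tA_mulVec_inl {d : ℕ} (k : Fin d) (v : Fin d ⊕ Fin d → F) (i : Fin d) :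
    ((tA k : Matrix _ _ F) *ᵥ v) (Sum.inl i) =
      v (Sum.inl i) + ((Pi.single k (1 : F) : Fin d → F) i) * v (Sum.inr i) := by
  simp [tA, tB, Matrix.fromBlocks_mulVec, Matrix.mulVec_diagonal]

theorem tA_mulVec_inr {d : ℕ} (k : Fin d) (v : Fin d ⊕ Fin d → F) (i : Fin d) :
    ((tA k : Matrix _ _ F) *ᵥ v) (Sum.inr i) = v (Sum.inr i) := by
  simp [tA, Matrix.fromBlocks_mulVec]

theorem kdi_tA {d : ℕ} (k : Fin d) : kdi (tA k : Matrix _ _ F) (X - C 1) + 1 = 2 * d := by
  unfold kdi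
  rw [Cfsg.Agent.Helper14.TensorStab.aeval_X_sub_C, one_smul]
  have hker : LinearMap.ker (Matrix.toLin' (tA k : Matrix _ _ F) - 1) =
      LinearMap.ker (LinearMap.proj (Sum.inr k) : ((Fin d ⊕ Fin d) → F) →ₗ[F] F) := by
    ext v
    rw [LinearMap.mem_ker, LinearMap.mem_ker, LinearMap.sub_apply, Matrix.toLin'_apply,
      Module.End.one_apply, LinearMap.proj_apply]
    constructor
    · intro h
      have h1 := congrFun h (Sum.inl k)
      rw [Pi.sub_apply, tA_mulVec_inl, Pi.single_eq_same, one_mul, Pi.zero_apply] at h1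
      linear_combination h1
    · intro h
      funext i
      rcases i with i | i
      · rw [Pi.sub_apply, tA_mulVec_inl, Pi.zero_apply]
        by_cases hik : i = k
        · subst hik
          rw [h]
          ring
        · rw [Pi.single_eq_of_ne hik]
          ring
      · rw [Pi.sub_apply, tA_mulVec_inr, Pi.zero_apply, sub_self]
  rw [hker]
  have h2 := LinearMap.finrank_range_add_finrank_ker
    (LinearMap.proj (Sum.inr k) : ((Fin d ⊕ Fin d) → F) →ₗ[F] F)
  have h3 : finrank F (LinearMap.range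
      (LinearMap.proj (Sum.inr k) : ((Fin d ⊕ Fin d) → F) →ₗ[F] F)) = 1 := by
    rw [LinearMap.range_eq_top.mpr (LinearMap.proj_surjective _), finrank_top, finrank_self]
  rw [Module.finrank_fintype_fun_eq_card, Fintype.card_sum, Fintype.card_fin] at h2
  omega

end general

section finite

variable {F : Type u} [Field F] [Fintype F]

/-- (C1) a symplectic transvection. -/
theorem exists_transvection (p : ℕ) [Fact p.Prime] [CharP F p] (d : ℕ) (hd : 1 ≤ d) :
    ∃ x : GL (Fin d ⊕ Fin d) F, x ∈ Cfsg.spGL d F ∧ x.val ^ p = 1 ∧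
      kdi x.val (X - C 1) + 1 = 2 * d := by
  have hk : 0 < d := by omega
  refine ⟨((Cfsg.Agent.Helper13.toSpGL ⟨tA (⟨0, hk⟩ : Fin d), tA_mem _⟩ : Cfsg.spGL d F) :
    GL (Fin d ⊕ Fin d) F), (Cfsg.Agent.Helper13.toSpGL ⟨tA (⟨0, hk⟩ : Fin d), tA_mem _⟩).2, ?_, ?_⟩
  · rw [Cfsg.Agent.Helper13.toSpGL_val]
    exact tA_pow_char p _
  · rw [Cfsg.Agent.Helper13.toSpGL_val]
    exact kdi_tA _

end finite

end Cfsg.Agent.Helper95.TSP
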