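import Mathlib
import Cfsg.Agent.Lib.Helper14.TSPDefs
import Cfsg.Agent.Lib.Helper13.SympGeom

/-!
# TSP (helper14 server, S5980): diagonal symplectic matrices and their primary dimensions (shared by (C2), (C3))
-/

set_option autoImplicit false

namespace Cfsg.Agent.Helper95.TSP

open Matrix Module Polynomial
open Cfsg.Agent.Helper14.TSP Cfsg.Agent.Helper44.StarInv

universe u

variable {F : Type u} [Field F]

open Classical in
/-- primary dimension of a diagonal matrix at a linear polynomial -/
theorem kdi_diagonal {ι : Type} [Fintype ι] [DecidableEq ι] (w : ι → F) (l : F) :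
    kdi (Matrix.diagonal w) (X - C l) = Fintype.card {i // w i = l} := by
  classical
  unfold kdi
  rw [Cfsg.Agent.Helper14.TensorStab.aeval_X_sub_C]
  have h1 : Matrix.toLin' (Matrix.diagonal w) - l • (1 : Module.End F (ι → F)) =
      Matrix.toLin' (Matrix.diagonal (fun i => w i - l)) := by
    apply LinearMap.ext
    intro v
    ext i
    simp [Matrix.toLin'_apply, Matrix.mulVec_diagonal, sub_mul]
  rw [h1]
  have h2 := LinearMap.finrank_range_add_finrank_ker
    (Matrix.toLin' (Matrix.diagonal (fun i => w i - l)))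
  have h3 : finrank F (LinearMap.range (Matrix.toLin' (Matrix.diagonal (fun i => w i - l)))) =
      Fintype.card {i // w i - l ≠ 0} := by
    have h := Matrix.rank_diagonal (fun i => w i - l)
    unfold Matrix.rank at h
    rw [← Matrix.toLin'_apply'] at h
    exact h
  rw [Module.finrank_fintype_fun_eq_card] at h2
  have h4 : Fintype.card {i // w i - l ≠ 0} = Fintype.card ι - Fintype.card {i // w i = l} := by
    rw [← Fintype.card_subtype_compl]
    apply Fintype.card_congr
    exact Equiv.subtypeEquivRight (fun i => by rw [Ne, sub_eq_zero])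
  have h5 : Fintype.card {i // w i = l} ≤ Fintype.card ι := Fintype.card_subtype_le _
  omega

/-- a diagonal matrix with `w (inl i) * w (inr i) = 1` is symplectic -/
theorem diagonal_mem_symplectic (d : ℕ) (w : Fin d ⊕ Fin d → F)
    (hw : ∀ i, w (Sum.inl i) * w (Sum.inr i) = 1) :
    Matrix.diagonal w ∈ Matrix.symplecticGroup (Fin d) F := by
  rw [SymplecticGroup.mem_iff]
  ext i j
  rw [Matrix.diagonal_transpose, Matrix.mul_diagonal, Matrix.diagonal_mul]
  rcases i with i | i <;> rcases j with j | j
  · simp [Matrix.J]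
  · simp only [Matrix.J, Matrix.fromBlocks_apply₁₂, Matrix.neg_apply, Matrix.one_apply]
    by_cases h : i = j
    · subst h
      have := hw i
      simp only [if_true]
      linear_combination (-1 : F) * this
    · simp [h]
  · simp only [Matrix.J, Matrix.fromBlocks_apply₂₁, Matrix.one_apply]
    by_cases h : i = j
    · subst h
      have := hw i
      simp only [if_true]
      linear_combination this
    · simp [h]
  · simp [Matrix.J]

/-- `diag(l at inl k, l⁻¹ at inr k; 1 elsewhere)` -/
def dw {d : ℕ} (k : Fin d) (l : F) : Fin d ⊕ Fin d → F :=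
  Sum.elim (fun i => if i = k then l else 1) (fun i => if i = k then l⁻¹ else 1)

theorem dw_mul {d : ℕ} (k : Fin d) {l : F} (hl : l ≠ 0) (i : Fin d) :
    dw k l (Sum.inl i) * dw k l (Sum.inr i) = 1 := by
  by_cases h : i = k
  · simp [dw, h, hl]
  · simp [dw, h]

theorem dw_pow {d : ℕ} (k : Fin d) {l : F} {r : ℕ} (hl : l ^ r = 1) (i : Fin d ⊕ Fin d) :
    dw k l i ^ r = 1 := by
  rcases i with i | i <;> by_cases h : i = k <;> simp [dw, h, hl]

/-- the diagonal symplectic element as an element of `spGL` -/
noncomputable def dGL {d : ℕ} (k : Fin d) {l : F} (hl : l ≠ 0) : Cfsg.spGL d F :=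
  Cfsg.Agent.Helper13.toSpGL
    ⟨Matrix.diagonal (dw k l), diagonal_mem_symplectic d (dw k l) (dw_mul k hl)⟩

theorem dGL_val {d : ℕ} (k : Fin d) {l : F} (hl : l ≠ 0) :
    ((dGL k hl : Cfsg.spGL d F) : GL (Fin d ⊕ Fin d) F).val = Matrix.diagonal (dw k l) := rfl

theorem dGL_pow {d : ℕ} (k : Fin d) {l : F} (hl : l ≠ 0) {r : ℕ} (hlr : l ^ r = 1) :
    ((dGL k hl : Cfsg.spGL d F) : GL (Fin d ⊕ Fin d) F).val ^ r = 1 := by
  rw [dGL_val, Matrix.diagonal_pow]
  have : (dw k l) ^ r = 1 := by
    funext i
    exact dw_pow k hlr i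
  rw [this]
  exact Matrix.diagonal_one

open Classical in
/-- number of diagonal entries equal to `1` -/
theorem card_dw_one {d : ℕ} (k : Fin d) {l : F} (hl : l ≠ 0) (hl1 : l ≠ 1) :
    Fintype.card {i // dw k l i = 1} + 2 = 2 * d := by
  classical
  have hl1' : l⁻¹ ≠ 1 := by
    intro h
    apply hl1
    rw [← inv_inv l, h, inv_one]
  rw [Fintype.card_subtype]
  have hset : (Finset.univ.filter (fun i => dw k l i = 1)) =
      Finset.univ \ {Sum.inl k, Sum.inr k} := by
    ext i
    rw [Finset.mem_filter, Finset.mem_sdiff, Finset.mem_insert, Finset.mem_singleton]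
    simp only [Finset.mem_univ, true_and, dw]
    rcases i with i | i <;> by_cases h : i = k <;> simp [h, hl1, hl1']
  rw [hset, Finset.card_sdiff_of_subset (Finset.subset_univ _), Finset.card_univ, Fintype.card_sum,
    Fintype.card_fin, Finset.card_pair (by simp)]
  have : 1 ≤ d := Nat.lt_of_le_of_lt (Nat.zero_le _) k.2
  omega

open Classical in
/-- number of diagonal entries equal to `l` when `l⁻¹ ≠ l` -/
theorem card_dw_self {d : ℕ} (k : Fin d) {l : F} (hl1 : l ≠ 1) (hll : l⁻¹ ≠ l) :
    Fintype.card {i // dw k l i = l} = 1 := by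
  classical
  rw [Fintype.card_subtype]
  have hset : (Finset.univ.filter (fun i => dw k l i = l)) = {Sum.inl k} := by
    ext i
    rw [Finset.mem_filter, Finset.mem_singleton]
    simp only [Finset.mem_univ, true_and, dw]
    rcases i with i | i <;> by_cases h : i = k <;> simp [h, hll, Ne.symm hl1]
  rw [hset, Finset.card_singleton]

open Classical in
/-- number of diagonal entries equal to `l` when `l⁻¹ = l` -/
theorem card_dw_invol {d : ℕ} (k : Fin d) {l : F} (hl1 : l ≠ 1) (hll : l⁻¹ = l) :
    Fintype.card {i // dw k l i = l} = 2 := by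
  classical
  rw [Fintype.card_subtype]
  have hset : (Finset.univ.filter (fun i => dw k l i = l)) = {Sum.inl k, Sum.inr k} := by
    ext i
    rw [Finset.mem_filter, Finset.mem_insert, Finset.mem_singleton]
    simp only [Finset.mem_univ, true_and, dw]
    rcases i with i | i <;> by_cases h : i = k <;> simp [h, hll, Ne.symm hl1]
  rw [hset, Finset.card_pair (by simp)]

end Cfsg.Agent.Helper95.TSP
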