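import Mathlib
import Cfsg.Agent.Lib.Helper14.TSPDefs
import Cfsg.Agent.Lib.Helper95.TSPDiag

/-!
# TSP (C2) (helper14 server, S5980): the involution `diag(-1 at inl 0, inr 0; 1 elsewhere)`
-/

set_option autoImplicit false

namespace Cfsg.Agent.Helper95.TSP

open Matrix Module Polynomial
open scoped Kronecker
open Cfsg.Agent.Helper14.TSP Cfsg.Agent.Helper44.StarInv

universe u

section finite

variable {F : Type u} [Field F] [Fintype F]

/-- (C2) the involution `diag(-1 at inl 0, inr 0; 1 elsewhere)`. -/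
theorem exists_involution (h2 : (2 : F) ≠ 0) (d : ℕ) (hd : 2 ≤ d) :
    ∃ x : GL (Fin d ⊕ Fin d) F, x ∈ Cfsg.spGL d F ∧ x.val ^ 2 = 1 ∧
      kdi x.val (X - C 1) + 2 = 2 * d ∧ kdi x.val (X - C (-1)) = 2 := by
  classical
  have hm1 : (-1 : F) ≠ 0 := neg_ne_zero.mpr one_ne_zero
  have hm11 : (-1 : F) ≠ 1 := by
    intro h
    apply h2
    linear_combination (-1 : F) * h
  have hinv : (-1 : F)⁻¹ = -1 := by rw [inv_neg, inv_one]
  have hk : 0 < d := by omega
  refine ⟨((dGL (⟨0, hk⟩ : Fin d) hm1 : Cfsg.spGL d F) : GL (Fin d ⊕ Fin d) F),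
    (dGL (⟨0, hk⟩ : Fin d) hm1).2, dGL_pow _ hm1 (by norm_num), ?_, ?_⟩
  · rw [dGL_val, kdi_diagonal]
    exact card_dw_one _ hm1 hm11
  · rw [dGL_val, kdi_diagonal]
    exact card_dw_invol _ hm11 hinv

end finite

end Cfsg.Agent.Helper95.TSP
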