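import Mathlib
import Cfsg.Agent.Lib.Helper14.TSPDefs
import Cfsg.Agent.Lib.Helper95.TSPDiag

/-!
# TSP (C3) (helper14 server, S5980): `diag(l at inl 0, l⁻¹ at inr 0; 1 elsewhere)` for `l` of order `r ∣ q - 1`, `r` odd
-/

set_option autoImplicit false

namespace Cfsg.Agent.Helper95.TSP

open Matrix Module Polynomial
open scoped Kronecker
open Cfsg.Agent.Helper14.TSP Cfsg.Agent.Helper44.StarInv

universe u

section finite

variable {F : Type u} [Field F] [Fintype F]

/-- (C3) `diag(l at inl 0, l⁻¹ at inr 0; 1 elsewhere)` for `l` of order `r ∣ q - 1`, `r` odd. -/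
theorem exists_root_elt (d : ℕ) (hd : 2 ≤ d) (r : ℕ) (hr : r.Prime) (hr2 : r ≠ 2)
    (hdvd : r ∣ Fintype.card F - 1) :
    ∃ x : GL (Fin d ⊕ Fin d) F, x ∈ Cfsg.spGL d F ∧ ∃ l : F, x.val ^ r = 1 ∧
      kdi x.val (X - C 1) + 2 = 2 * d ∧ kdi x.val (X - C l) = 1 := by
  classical
  haveI : Fact r.Prime := ⟨hr⟩
  have hcard : Nat.card Fˣ = Fintype.card F - 1 := by
    rw [Nat.card_eq_fintype_card, Fintype.card_units]
  obtain ⟨u, hu⟩ := exists_prime_orderOf_dvd_card' (G := Fˣ) r (by rw [hcard]; exact hdvd)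
  have hl0 : (u : F) ≠ 0 := u.ne_zero
  have hur : u ^ r = 1 := by
    rw [← hu]
    exact pow_orderOf_eq_one u
  have hlr : (u : F) ^ r = 1 := by
    have h := congrArg (fun z : Fˣ => (z : F)) hur
    simpa using h
  have hl1 : (u : F) ≠ 1 := by
    intro h
    have h1 : u = 1 := Units.ext h
    rw [h1, orderOf_one] at hu
    exact hr.one_lt.ne hu
  have hll : (u : F)⁻¹ ≠ (u : F) := by
    intro h
    have h2 : (u : F) * (u : F) = 1 := by
      nth_rewrite 1 [← h]
      exact inv_mul_cancel₀ hl0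
    have hu2 : u ^ 2 = 1 := by
      apply Units.ext
      rw [pow_two, Units.val_mul, Units.val_one]
      exact h2
    have h3 := orderOf_dvd_of_pow_eq_one hu2
    rw [hu] at h3
    exact hr2 ((Nat.prime_dvd_prime_iff_eq hr Nat.prime_two).mp h3)
  have hk : 0 < d := by omega
  refine ⟨((dGL (⟨0, hk⟩ : Fin d) hl0 : Cfsg.spGL d F) : GL (Fin d ⊕ Fin d) F),
    (dGL (⟨0, hk⟩ : Fin d) hl0).2, (u : F), dGL_pow _ hl0 hlr, ?_, ?_⟩
  · rw [dGL_val, kdi_diagonal]
    exact card_dw_one _ hl0 hl1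
  · rw [dGL_val, kdi_diagonal]
    exact card_dw_self _ hl1 hll

end finite

end Cfsg.Agent.Helper95.TSP
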