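import Mathlib
import Cfsg.Agent.Lib.Helper14.TSPDefs

/-!
# TSP (NK1) (helper14 server, S5980): normalising a Kronecker product of prime order `r ∤ q - 1`
-/

set_option autoImplicit false

namespace Cfsg.Agent.Helper95.TSP

open Matrix Module Polynomial
open scoped Kronecker
open Cfsg.Agent.Helper14.TSP Cfsg.Agent.Helper44.StarInv

universe u

section finite

variable {F : Type u} [Field F] [Fintype F]

/-- the `r`-th power map of `Fˣ` is surjective when `r` is a prime not dividing `q - 1` -/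
theorem nk1_exists_root (r : ℕ) (hr : r.Prime) (hr1 : ¬ r ∣ Fintype.card F - 1) (c : Fˣ) :
    ∃ μ : Fˣ, μ ^ r = c := by
  classical
  have hcard : Nat.card Fˣ = Fintype.card F - 1 := by
    rw [Nat.card_eq_fintype_card, Fintype.card_units]
  have hcop : (Nat.card Fˣ).Coprime r := by
    rw [hcard]
    exact ((Nat.Prime.coprime_iff_not_dvd hr).mpr hr1).symm
  obtain ⟨μ, hμ⟩ := (powCoprime hcop).surjective c
  exact ⟨μ, hμ⟩

/-- (NK1) -/
theorem exists_normalized {ι : Type} [Fintype ι] [DecidableEq ι] {a b : ℕ} (ha : 0 < a)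
    (hb : 0 < b) (M : Matrix ι ι F) (hk : IsKronS a b M) (r : ℕ) (hr : r.Prime) (hMr : M ^ r = 1)
    (hr1 : ¬ r ∣ Fintype.card F - 1) :
    ∃ (Ψ : (ι → F) ≃ₗ[F] (Fin a × Fin b → F)) (A : Matrix (Fin a) (Fin a) F)
      (B : Matrix (Fin b) (Fin b) F), A ^ r = 1 ∧ B ^ r = 1 ∧
      ∀ v, Ψ (M *ᵥ v) = (A ⊗ₖ B) *ᵥ Ψ v := by
  classical
  obtain ⟨Ψ, A0, B0, hΨ⟩ := hk
  set A : Matrix (Fin a) (Fin a) F := A0.val with hA
  set B : Matrix (Fin b) (Fin b) F := B0.val with hB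
  -- powers
  have hpow : ∀ n : ℕ, ∀ v, Ψ ((M ^ n) *ᵥ v) = ((A ⊗ₖ B) ^ n) *ᵥ Ψ v := by
    intro n
    induction n with
    | zero => intro v; rw [pow_zero, pow_zero, Matrix.one_mulVec, Matrix.one_mulVec]
    | succ n ih =>
      intro v
      rw [pow_succ, pow_succ, ← Matrix.mulVec_mulVec, ih, hΨ, Matrix.mulVec_mulVec]
  have hone : (A ⊗ₖ B) ^ r = 1 := by
    have h1 : ∀ w : Fin a × Fin b → F, ((A ⊗ₖ B) ^ r) *ᵥ w = w := by
      intro w
      obtain ⟨v, rfl⟩ := Ψ.surjective w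
      rw [← hpow r v, hMr, Matrix.one_mulVec]
    apply Matrix.mulVec_injective
    funext w
    rw [h1 w, Matrix.one_mulVec]
  rw [Cfsg.Agent.Helper14.TensorStab.kron_pow] at hone
  obtain ⟨c, hc⟩ := Cfsg.Agent.Helper14.TensorStab.scalar_of_kron_eq_one hb (A ^ r) (B ^ r) hone
  -- `c • B^r = 1`
  have hcB : c • (B ^ r) = 1 := by
    ext j j'
    have := congrFun (congrFun hone (⟨0, ha⟩, j)) (⟨0, ha⟩, j')
    rw [Matrix.kroneckerMap_apply, hc, Matrix.smul_apply, Matrix.one_apply_eq, smul_eq_mul,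
      mul_one, Matrix.one_apply] at this
    rw [Matrix.smul_apply, smul_eq_mul, this, Matrix.one_apply]
    by_cases hjj : j = j'
    · subst hjj; simp
    · rw [if_neg hjj, if_neg]
      intro h
      exact hjj (Prod.ext_iff.mp h).2
  have hc0 : c ≠ 0 := by
    intro h0
    rw [h0, zero_smul] at hcB
    have := congrFun (congrFun hcB ⟨0, hb⟩) ⟨0, hb⟩
    rw [Matrix.zero_apply, Matrix.one_apply_eq] at this
    exact zero_ne_one this
  obtain ⟨μ, hμ⟩ := nk1_exists_root r hr hr1 (Units.mk0 c hc0)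
  have hμc : (μ : F) ^ r = c := by
    have := congrArg Units.val hμ
    rwa [Units.val_pow_eq_pow_val, Units.val_mk0] at this
  have hμ0 : (μ : F) ≠ 0 := μ.ne_zero
  refine ⟨Ψ, (μ : F)⁻¹ • A, (μ : F) • B, ?_, ?_, ?_⟩
  · rw [_root_.smul_pow, hc, smul_smul, inv_pow, hμc, inv_mul_cancel₀ hc0, one_smul]
  · rw [_root_.smul_pow, hμc, hcB]
  · intro v
    rw [hΨ v, Matrix.smul_kronecker, Matrix.kronecker_smul, smul_smul, inv_mul_cancel₀ hμ0,
      one_smul]

end finite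

end Cfsg.Agent.Helper95.TSP
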