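import Mathlib
import Cfsg.Agent.Lib.Helper12.Jordan
import Cfsg.Agent.Lib.Helper95.SharpSimple

set_option autoImplicit false

/-!
Simplicity of multiply transitive groups via Jordan's theorem on normal subgroups, the Frattini
argument and a bound for the normalizer of a Sylow `p`-subgroup of prime order (helper95).
-/

namespace Cfsg.Agent.Helper95

open MulAction

section general

variable {H : Type*} [Group H] {α : Type*} [MulAction H α]

/-- the points `c ^ i • a₀`, `i < p`, are distinct when `c` has prime order `p` and moves `a₀`. -/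
theorem pow_smul_inj (p : ℕ) (hp : p.Prime) (c : H) (hord : orderOf c = p) (a₀ : α)
    (ha₀ : c • a₀ ≠ a₀) (i j : ℕ) (hi : i < p) (hj : j < p) (hij : c ^ i • a₀ = c ^ j • a₀) :
    i = j := by
  have hper : Function.minimalPeriod (c • · : α → α) a₀ = p := by
    have h1 : Function.minimalPeriod (c • · : α → α) a₀ ∣ p := by
      rw [← MulAction.pow_smul_eq_iff_minimalPeriod_dvd, ← hord, pow_orderOf_eq_one, one_smul]
    rcases (Nat.dvd_prime hp).mp h1 with h | h
    · exfalso
      apply ha₀
      have := (MulAction.pow_smul_eq_iff_minimalPeriod_dvd (a := c) (b := a₀) (n := 1)).mpr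
        (by rw [h])
      simpa using this
    · exact h
  have hdvd : ∀ t : ℤ, c ^ t • a₀ = a₀ → (p : ℤ) ∣ t := by
    intro t ht
    have := (MulAction.zpow_smul_eq_iff_minimalPeriod_dvd (a := c) (b := a₀) (n := t)).mp ht
    rw [hper] at this
    exact this
  have h1 : c ^ (i : ℤ) • a₀ = c ^ (j : ℤ) • a₀ := by
    rw [zpow_natCast, zpow_natCast]; exact hij
  have h2 : c ^ ((i : ℤ) - (j : ℤ)) • a₀ = a₀ := by
    have h0 : (i : ℤ) - (j : ℤ) = -(j : ℤ) + (i : ℤ) := by ring
    rw [h0, zpow_add, mul_smul, h1, ← mul_smul, ← zpow_add]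
    simp
  obtain ⟨r, hr⟩ := hdvd _ h2
  have hp0 : 0 < p := hp.pos
  have hr0 : r = 0 := by
    by_contra hne
    rcases lt_or_gt_of_ne hne with hlt | hgt
    · have : (p : ℤ) * r ≤ (p : ℤ) * (-1) := by
        apply mul_le_mul_of_nonneg_left _ (by positivity)
        omega
      omega
    · have : (p : ℤ) * 1 ≤ (p : ℤ) * r := by
        apply mul_le_mul_of_nonneg_left _ (by positivity)
        omega
      omega
  rw [hr0, mul_zero] at hr
  omega

/-- The normalizer of a subgroup `P` of prime order `p` has order at most `p * n`, provided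
elements commuting with a generator `c` and fixing a point moved by `c` are trivial. -/
theorem card_normalizer_le_of_rigid [Fintype α] [FaithfulSMul H α] [Finite H] (p : ℕ)
    (hp : p.Prime) (P : Subgroup H) (hP : Nat.card P = p)
    (hrig : ∀ (c u : H) (a₀ : α), orderOf c = p → c • a₀ ≠ a₀ → Commute u c → u • a₀ = a₀ →
      u = 1) :
    Nat.card (Subgroup.normalizer (P : Set H)) ≤ p * Fintype.card α := by
  have hPne : P ≠ ⊥ := by
    intro h
    rw [h, Subgroup.card_bot] at hP
    exact hp.one_lt.ne hP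
  obtain ⟨⟨c, hcP⟩, hc1'⟩ := (Subgroup.ne_bot_iff_exists_ne_one).mp hPne
  have hc1 : c ≠ 1 := fun h => hc1' (Subtype.ext h)
  have hord : orderOf c = p := by
    have h1 : orderOf (⟨c, hcP⟩ : P) ∣ p := hP ▸ orderOf_dvd_natCard _
    rw [← Subgroup.orderOf_coe] at h1
    have h2 : orderOf c ≠ 1 := fun h => hc1 (orderOf_eq_one_iff.mp h)
    rcases (Nat.dvd_prime hp).mp h1 with h | h
    · exact absurd h h2
    · exact h
  obtain ⟨a₀, ha₀⟩ : ∃ a : α, c • a ≠ a := by
    by_contra hcon
    apply hc1
    apply FaithfulSMul.eq_of_smul_eq_smul (α := α)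
    intro a
    rw [one_smul]
    by_contra h
    exact hcon ⟨a, h⟩
  let Φ : ↥(Subgroup.normalizer (P : Set H)) → ↥P × α := fun h =>
    (⟨(h : H) * c * (h : H)⁻¹, (Subgroup.mem_set_normalizer_iff.mp h.2 c).mp hcP⟩, (h : H) • a₀)
  have hΦ : Function.Injective Φ := by
    intro h h' hh
    have e1 : (h : H) * c * (h : H)⁻¹ = (h' : H) * c * (h' : H)⁻¹ :=
      congrArg (fun z : ↥P × α => (z.1 : H)) hh
    have e2 : (h : H) • a₀ = (h' : H) • a₀ := congrArg (fun z : ↥P × α => z.2) hh
    set u : H := (h : H)⁻¹ * (h' : H) with hu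
    have hcomm : Commute u c := by
      show u * c = c * u
      calc u * c = (h : H)⁻¹ * ((h' : H) * c * (h' : H)⁻¹) * (h' : H) := by rw [hu]; group
        _ = (h : H)⁻¹ * ((h : H) * c * (h : H)⁻¹) * (h' : H) := by rw [e1]
        _ = c * u := by rw [hu]; group
    have hua : u • a₀ = a₀ := by
      rw [hu, mul_smul, ← e2, ← mul_smul, inv_mul_cancel, one_smul]
    have hu1 : u = 1 := hrig c u a₀ hord ha₀ hcomm hua
    apply Subtype.ext
    have := inv_mul_eq_one.mp hu1
    exact this
  calc Nat.card (Subgroup.normalizer (P : Set H)) ≤ Nat.card (↥P × α) :=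
        Nat.card_le_card_of_injective Φ hΦ
    _ = p * Fintype.card α := by rw [Nat.card_prod, hP, Nat.card_eq_fintype_card]

/-- rigidity when `n ≤ p + 1`. -/
theorem rigid_of_card_le [Fintype α] [DecidableEq α] [FaithfulSMul H α] (p : ℕ) (hp : p.Prime)
    (hn : Fintype.card α ≤ p + 1) (c u : H) (a₀ : α) (hord : orderOf c = p) (ha₀ : c • a₀ ≠ a₀)
    (hcomm : Commute u c) (hua : u • a₀ = a₀) : u = 1 := by
  by_contra hu1
  obtain ⟨b, hb⟩ : ∃ b : α, u • b ≠ b := by
    by_contra hcon
    apply hu1
    apply FaithfulSMul.eq_of_smul_eq_smul (α := α)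
    intro a
    rw [one_smul]
    by_contra h
    exact hcon ⟨a, h⟩
  have hfix : ∀ i : ℕ, u • (c ^ i • a₀) = c ^ i • a₀ := by
    intro i
    rw [← mul_smul, (hcomm.pow_right _).eq, mul_smul, hua]
  let O : Finset α := (Finset.range p).image fun i => c ^ i • a₀
  have hO : O.card = p := by
    rw [Finset.card_image_of_injOn, Finset.card_range]
    intro i hi j hj hij
    exact pow_smul_inj p hp c hord a₀ ha₀ i j (Finset.mem_range.mp hi) (Finset.mem_range.mp hj) hij
  have hOfix : ∀ x ∈ O, u • x = x := by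
    intro x hx
    obtain ⟨i, -, rfl⟩ := Finset.mem_image.mp hx
    exact hfix i
  have hbO : b ∉ O := fun h => hb (hOfix b h)
  have hubO : u • b ∉ O := by
    intro h
    have := hOfix _ h
    exact hb (smul_left_cancel u this)
  have hcard : (insert b (insert (u • b) O)).card = p + 2 := by
    rw [Finset.card_insert_of_notMem, Finset.card_insert_of_notMem hubO, hO]
    rw [Finset.mem_insert, not_or]
    exact ⟨fun h => hb h.symm, hbO⟩
  have := Finset.card_le_univ (insert b (insert (u • b) O))
  omega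

/-- Simplicity criterion: `H` is `k`-transitive (`k ≥ 4`) on `n ≤ p + 1` points, `|H| = p m` with
`p ∤ m`, `p` divides `n (n-1) ⋯ (n-k+2)`, `|H| = R · n (n-1) ⋯ (n-k+2)` and the possible orders
`p f` of a Sylow `p`-normalizer are all coprime to `R`. -/
theorem simple_of_trans [Fintype α] [DecidableEq α] [FaithfulSMul H α] (k : ℕ) (hk4 : 4 ≤ k)
    (hkn : k < Fintype.card α) [IsMultiplyPretransitive H α k] (p : ℕ) (hp : p.Prime)
    (hnp : Fintype.card α ≤ p + 1) (m : ℕ) (hH : Nat.card H = p * m) (hmp : ¬ p ∣ m) (R : ℕ)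
    (hR : Nat.card H = R * (Fintype.card α).descFactorial (k - 1))
    (hpd : p ∣ (Fintype.card α).descFactorial (k - 1))
    (harith : ∀ f idx : ℕ, f ≤ Fintype.card α → f * idx = m → idx % p = 1 →
      Nat.Coprime (p * f) R) :
    IsSimpleGroup H := by
  have hpf : Fact p.Prime := ⟨hp⟩
  have hm0 : m ≠ 0 := fun h => hmp (h ▸ dvd_zero p)
  have hfin : Finite H := Nat.finite_of_card_ne_zero (by
    rw [hH]; exact Nat.mul_ne_zero hp.ne_zero hm0)
  have hnt : Nontrivial H := by
    rw [← Finite.one_lt_card_iff_nontrivial, hH]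
    calc 1 < p := hp.one_lt
      _ ≤ p * m := Nat.le_mul_of_pos_right p (Nat.pos_of_ne_zero hm0)
  refine { toNontrivial := hnt, eq_bot_or_eq_top_of_normal := fun N hN => ?_ }
  by_cases hNbot : N = ⊥
  · exact Or.inl hNbot
  right
  have hj := Cfsg.Agent.Helper12.Jordan.jordan k (by omega) H α
    (by rw [Nat.card_eq_fintype_card]; exact hkn) inferInstance N hN hNbot
  rcases hj with hNt | ⟨h3, -, -⟩
  swap
  · omega
  set d := (Fintype.card α).descFactorial (k - 1) with hd
  have hdN : d ∣ Nat.card N := descFactorial_dvd_card (H := N) (k - 1) (by omega)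
  have hd0 : 0 < d := Nat.descFactorial_pos.mpr (by omega)
  have hNidx : N.index ∣ R := by
    obtain ⟨t, ht⟩ := hdN
    have h1 := Subgroup.card_mul_index N
    rw [hR, ht] at h1
    have h2 : d * (t * N.index) = d * R := by rw [← mul_assoc, h1, mul_comm]
    have h3 := Nat.eq_of_mul_eq_mul_left hd0 h2
    exact ⟨t, by rw [← h3]; ring⟩
  -- an element of order `p` in `N`
  obtain ⟨x, hx⟩ := exists_prime_orderOf_dvd_card' (G := N) p (hpd.trans hdN)
  set Q : Subgroup H := Subgroup.zpowers (x : H) with hQ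
  have hQN : Q ≤ N := by
    rw [hQ, Subgroup.zpowers_le]
    exact x.2
  have hQcard : Nat.card Q = p := by
    rw [hQ, Nat.card_zpowers, Subgroup.orderOf_coe, hx]
  have hQp : IsPGroup p Q := IsPGroup.of_card (n := 1) (by rw [hQcard, pow_one])
  obtain ⟨P, hQP⟩ := hQp.exists_le_sylow
  have hPcard : Nat.card (P : Subgroup H) = p := by
    obtain ⟨a, ha⟩ := (IsPGroup.iff_card).mp P.isPGroup'
    have h1 : p ^ a ∣ p * m := by
      rw [← ha, ← hH]; exact Subgroup.card_subgroup_dvd_card _
    have h2 : p ∣ p ^ a := by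
      have h0 := Subgroup.card_dvd_of_le hQP
      rw [hQcard, ha] at h0
      exact h0
    have ha1 : a ≤ 1 := by
      by_contra hcon
      rw [not_le] at hcon
      apply hmp
      have h3 : p ^ 2 ∣ p * m := (pow_dvd_pow p hcon).trans h1
      rw [pow_two] at h3
      exact (Nat.mul_dvd_mul_iff_left hp.pos).mp h3
    have ha0 : a ≠ 0 := by
      rintro rfl
      rw [pow_zero] at h2
      exact hp.one_lt.ne' (Nat.dvd_one.mp h2)
    have : a = 1 := by omega
    rw [ha, this, pow_one]
  have hPQ : (P : Subgroup H) = Q := by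
    symm
    apply Subgroup.eq_of_le_of_card_ge hQP
    rw [hPcard, hQcard]
  have hPN : (P : Subgroup H) ≤ N := hPQ ▸ hQN
  have hfrat := Sylow.normalizer_sup_eq_top' P hPN
  have hrel : N.index = N.relIndex (Subgroup.normalizer ((P : Subgroup H) : Set H)) := by
    rw [← Subgroup.relIndex_top_right, ← hfrat, Subgroup.relIndex_sup_right]
    rfl
  have hdvdn : N.index ∣ Nat.card (Subgroup.normalizer ((P : Subgroup H) : Set H)) := by
    rw [hrel]; exact Subgroup.relIndex_dvd_card _ _
  -- the order of the normalizer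
  have hnle := card_normalizer_le_of_rigid p hp (P : Subgroup H) hPcard
    (fun c u a₀ => rigid_of_card_le p hp hnp c u a₀)
  have hpn : p ∣ Nat.card (Subgroup.normalizer ((P : Subgroup H) : Set H)) := by
    have h0 := Subgroup.card_dvd_of_le (Subgroup.le_normalizer (H := (P : Subgroup H)))
    rw [hPcard] at h0
    exact h0
  obtain ⟨f, hf⟩ := hpn
  have hsyl : Nat.card (Sylow p H) =
      (Subgroup.normalizer ((P : Subgroup H) : Set H)).index := Sylow.card_eq_index_normalizer P
  have hmod := card_sylow_modEq_one p H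
  have hmul := Subgroup.card_mul_index (Subgroup.normalizer ((P : Subgroup H) : Set H))
  rw [← hsyl, hf, hH] at hmul
  have hfm : f * Nat.card (Sylow p H) = m := by
    have : p * (f * Nat.card (Sylow p H)) = p * m := by rw [← hmul]; ring
    exact Nat.eq_of_mul_eq_mul_left hp.pos this
  have hfle : f ≤ Fintype.card α := by
    rw [hf] at hnle
    exact Nat.le_of_mul_le_mul_left hnle hp.pos
  have hmod' : Nat.card (Sylow p H) % p = 1 := by
    have := hmod
    rw [Nat.ModEq, Nat.mod_eq_of_lt hp.one_lt] at this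
    exact this
  have hcop := harith f (Nat.card (Sylow p H)) hfle hfm hmod'
  rw [← hf] at hcop
  have hi1 : N.index = 1 := Nat.eq_one_of_dvd_coprimes hcop hdvdn hNidx
  exact Subgroup.index_eq_one.mp hi1

end general

end Cfsg.Agent.Helper95
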